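import Cfsg.Agent.H378.TwRows
import Cfsg.Agent.H493.PGF4T
import Cfsg.Agent.H339.TwFNo
import Cfsg.Agent.H168.TwF4Cover

/-!
# `²F₄(q)`: primes near 2, centralisers in the odd components (helper378)

* `adj_minus`, `adj_plus`, `adj_sq` : the odd primes dividing `q - 1`, `q + 1`, `q² + 1` are adjacent to 2;
* `near_2F4` : every prime divisor of the order is `Near`, or `q` has order 12 modulo `r`;
* `cent_2F4` : if `q` has order 12 modulo `r` and `x` has order `r` then `C(x)` is abelian and the order of an element of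
  it divides `Φ₁₂(q)`;
* `good2_2F4`, `ac_2F4`; `good2_iso3D4`, `good2_iso2E6`, `good2_iso2F4`.
-/

set_option autoImplicit false
set_option linter.unusedSectionVars false

namespace Cfsg.Agent.H378.TwRowsF

open CoxeterSystem Subgroup Cfsg Cfsg.Lie Cfsg.Lie.ChevalleyDatum
open Cfsg.Agent.ChevalleyStructure Cfsg.Agent.ChevalleyStructure.CoxeterGeomTypes
open Cfsg.Agent.BpExc.TorChev Cfsg.Agent.BpExc.FamInst Cfsg.Agent.BpExc.RowsUntw Cfsg.Agent.BpExc.FamExt
open Cfsg.Agent.H493.PGTorus Cfsg.Agent.H493.PGCyc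
open Cfsg.Agent.H564.NearTwo Cfsg.Agent.H94.PG
open Cfsg.Agent.H378.ExcAdj Cfsg.Agent.H378.TwAdj Cfsg.Agent.H378.TwRows
open Cfsg.Agent.H493.PGF4T

universe u v

open Cfsg.Agent.ChevalleyStructure.Elts in
/-- subgroups generated by words in root elements -/
theorem genSubgroup_le_group {D : ChevalleyDatum} (hD : InList D) {K : Type*} [Field K] (S : Set (List (ℕ × K))) :
    D.genSubgroup K S ≤ D.group K := by
  unfold ChevalleyDatum.genSubgroup
  rw [Subgroup.closure_le]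
  rintro g ⟨w, -, hg⟩
  rw [← eq_wordG_iff hD] at hg
  rw [SetLike.mem_coe, hg]
  clear hg
  induction w with
  | nil => exact one_mem _
  | cons p w ih => rw [wordG_cons]; exact mul_mem (xG_mem_group hD _ _) ih

section

variable {K : Type u} [Field K] [Fintype K] {m : ℕ} (hm : 1 ≤ m) (hK : Fintype.card K = 2 ^ (2 * m + 1))

section Two

open Cfsg.Agent.ChevalleyStructure.TwF4.Rel (n1)
open Cfsg.Agent.ChevalleyStructure.TwF4 Cfsg.Agent.ChevalleyStructure.TwF4.TwGen
  Cfsg.Agent.ChevalleyStructure.TwF4.Torus Cfsg.Agent.ChevalleyStructure.TwF4.NRoot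
  Cfsg.Agent.ChevalleyStructure.TwF4.NStruct

include hK

/-- an involution commuting with a torus of order `q - 1` (the proof of helper493) -/
theorem adj_minus {r : ℕ} (hr : r.Prime) (hr2 : r ≠ 2) (h : (r : ℤ) ∣ f1 (2 ^ m)) :
    Adj ↥(twistedF4 K (2 ^ m)) r 2 := by
  classical
  have := Fact.mk hr
  have : CharP K 2 := F4Fixed.charP_two hK
  have hcard : Nat.card Kˣ = 2 ^ (2 * m + 1) - 1 := by
    rw [Nat.card_units, Nat.card_eq_fintype_card, hK]
  have h1 : 1 ≤ 2 ^ (2 * m + 1) := Nat.one_le_two_pow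
  have hrK : r ∣ Nat.card Kˣ := by
    rw [hcard]
    apply Int.natCast_dvd_natCast.1
    rw [Nat.cast_sub h1]
    push_cast
    have e : (2 : ℤ) ^ (2 * m + 1) - 1 = f1 (2 ^ m) := by
      unfold f1; rw [← pow_mul]; ring
    rwa [e]
  obtain ⟨t, ht⟩ := exists_prime_orderOf_dvd_card' r hrK
  let τ : Kˣ → GL chevF4.Idx K := fun t => T (tc (2 ^ m) (t ^ 2) t)
  have hmul : ∀ a b : Kˣ, τ (a * b) = τ a * τ b := by
    intro a b
    show T _ = T _ * T _
    rw [← map_mul, tc_mul, mul_pow]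
  have hone : τ 1 = 1 := by
    have := hmul 1 1
    rw [one_mul] at this
    exact (mul_eq_left.1 this.symm)
  have hpow : ∀ n : ℕ, τ t ^ n = τ (t ^ n) := by
    intro n
    induction n with
    | zero => rw [pow_zero, pow_zero, hone]
    | succ n ih => rw [pow_succ, ih, ← hmul, ← pow_succ]
  have hinj : ∀ a, τ a = 1 → a = 1 := by
    intro a ha
    have h2 : T (tc (2 ^ m) (a ^ 2) a) = (T 1 : GL chevF4.Idx K) := by rw [map_one]; exact ha
    exact congrFun (T_injective h2) 3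
  have hmem : τ t ∈ twistedF4 K (2 ^ m) := (TorusFix.T_mem_iff hK _).2 ⟨_, _, rfl⟩
  have hn1 : n1 K ∈ twistedF4 K (2 ^ m) := n1_mem _
  have hP : (n1 K : GL chevF4.Idx K) * n1 K = 1 := by
    have h2 := (mono_n1 (K := K)).mul mono_n1
    rw [WeylDih.P1_mul_self] at h2
    exact h2.eq_one
  have hn1' : (n1 K : GL chevF4.Idx K) ≠ 1 := by
    intro h0
    have h2 := (mono_n1 (K := K)).hasPerm
    rw [h0] at h2
    have h3 := h2.unique HasPerm.one
    have h4 := congrArg Fin.val (DFunLike.congr_fun h3 (⟨24, by decide⟩ : R))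
    rw [P1_val] at h4
    revert h4
    decide
  have hcomm : n1 K * τ t * (n1 K)⁻¹ = τ t := by
    show n1 K * T (tc (2 ^ m) (t ^ 2) t) * (n1 K)⁻¹ = T (tc (2 ^ m) (t ^ 2) t)
    unfold tc
    rw [n1_conj_T]
    congr 1
    funext l
    fin_cases l
    · show (t ^ 2 ^ m)⁻¹ * (t ^ 2) ^ 2 ^ m = t ^ 2 ^ m
      rw [inv_mul_eq_iff_eq_mul, ← pow_mul, ← pow_add]
      congr 1
      ring
    · rfl
    · rfl
    · show t ^ 2 * t⁻¹ = t
      rw [pow_two, mul_inv_cancel_right]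
  refine ⟨hr, Nat.prime_two, hr2, (⟨τ t, hmem⟩ : ↥(twistedF4 K (2 ^ m))), ⟨n1 K, hn1⟩, ?_, ?_, ?_⟩
  · rw [Subgroup.orderOf_mk]
    refine orderOf_eq_prime ?_ ?_
    · rw [hpow, ← ht, pow_orderOf_eq_one, hone]
    · intro h0
      rw [hinj t h0, orderOf_one] at ht
      exact hr.one_lt.ne ht
  · rw [Subgroup.orderOf_mk]
    refine orderOf_eq_prime ?_ hn1'
    rw [pow_two, hP]
  · apply Subtype.ext
    show τ t * n1 K = n1 K * τ t
    conv_lhs => rw [← hcomm]
    group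

end Two

section Full

open Cfsg.Agent.SplitTwo Cfsg.Agent.SplitTwo.ZS Cfsg.Agent.TitsThree.RankTwoZ Cfsg.Agent.KFacts.TwF4
open Cfsg.Agent.KFacts.TwF4.Arc Cfsg.Agent.KFacts.TwF4.Irr Cfsg.Agent.KFacts.TwF4.Layers
open Cfsg.Agent.KFacts.TwF4.Perf Cfsg.Agent.KFacts.TwF4.Inv Cfsg.Agent.KFacts.TwF4.SylU
open Cfsg.Agent.H127.TwFInv

theorem adj_of_cent {G : Type*} [Group G] [Finite G] {r : ℕ} (hr : r.Prime) (hr2 : r ≠ 2) {t : G} (ht : orderOf t = 2)
    {H : Subgroup G} (hH : Subgroup.centralizer {t} = H) (hd : r ∣ Nat.card H) : Adj G r 2 := by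
  have := Fact.mk hr
  obtain ⟨b, hb⟩ := exists_prime_orderOf_dvd_card' r hd
  have h1 : b.1 ∈ Subgroup.centralizer {t} := by rw [hH]; exact b.2
  refine ⟨hr, Nat.prime_two, hr2, b.1, t, ?_, ht, Subgroup.mem_centralizer_singleton_iff.1 h1⟩
  rw [← hb]
  exact (Subgroup.orderOf_mk b.1 b.2).symm

include hK

/-- odd primes dividing `q + 1` -/
theorem adj_plus {r : ℕ} (hr : r.Prime) (hr2 : r ≠ 2) (h : r ∣ 1 + Nat.card K) : Adj ↥(twistedF4 K (2 ^ m)) r 2 := by
  obtain ⟨φ, hφ⟩ := Cfsg.Agent.ChevalleyStructure.TwF4.TwistedFix.exists_rln hK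
  have h2 := Cfsg.Agent.ChevalleyStructure.TwF4.Twisted.charP_two hK
  have hfin : Finite ↥(twistedF4 K (2 ^ m)) := inferInstance
  let S : Full φ ↥(twistedF4 K (2 ^ m)) := Cfsg.Agent.KFacts.TwF4.Inst.full hK hφ
  refine adj_of_cent hr hr2 (t := S.o 2 1) ?_ (S.centralizer_o one_ne_zero) ?_
  · refine orderOf_eq_prime ?_ (fun h => one_ne_zero (S.o_eq_one h))
    have h3 : (1 : K) + 1 = 0 := CharTwo.add_self_eq_zero 1
    rw [pow_two, S.o_add, h3, S.o_zero]
  · rw [card_HO S]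
    exact h.mul_left _

/-- odd primes dividing `q² + 1` -/
theorem adj_sq {r : ℕ} (hr : r.Prime) (hr2 : r ≠ 2) (h : r ∣ 1 + Nat.card K * Nat.card K) :
    Adj ↥(twistedF4 K (2 ^ m)) r 2 := by
  obtain ⟨φ, hφ⟩ := Cfsg.Agent.ChevalleyStructure.TwF4.TwistedFix.exists_rln hK
  have h2 := Cfsg.Agent.ChevalleyStructure.TwF4.Twisted.charP_two hK
  have hfin : Finite ↥(twistedF4 K (2 ^ m)) := inferInstance
  let S : Full φ ↥(twistedF4 K (2 ^ m)) := Cfsg.Agent.KFacts.TwF4.Inst.full hK hφ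
  have hz1 : S.e 2 0 1 ≠ 1 := fun h => one_ne_zero (S.e_eq_one h).2
  refine adj_of_cent hr hr2 (t := S.e 2 0 1) ?_ (S.centralizer_z ⟨1, rfl⟩ hz1) ?_
  · refine orderOf_eq_prime ?_ hz1
    have h3 : (1 : K) + 1 = 0 := CharTwo.add_self_eq_zero 1
    rw [pow_two, S.e_mul, zero_mul, add_zero, add_zero, h3, S.e_zero]
  · rw [card_PL S]
    exact h.mul_left _

end Full

include hK

theorem card_eq : Nat.card K = 2 ^ (2 * m + 1) := by rw [Nat.card_eq_fintype_card, hK]

theorem cast_card : ((Nat.card K : ℕ) : ℤ) = 2 * ((2 : ℤ) ^ m) ^ 2 := by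
  rw [card_eq hK]; push_cast; ring

include hm

/-- **`²F₄(q)`**: the prime divisors of the order. -/
theorem near_2F4 {r : ℕ} (hr : r.Prime) (hd : r ∣ Nat.card ↥(twistedF4 K (2 ^ m))) :
    Near ↥(twistedF4 K (2 ^ m)) r ∨ od (Nat.card K) r = 12 := by
  by_cases hr2 : r = 2
  · exact Or.inl (Or.inl hr2)
  rw [Cfsg.Agent.S1068.result hK] at hd
  have hb := cast_card hK
  have to_nat : ∀ {n : ℕ} {z : ℤ}, (r : ℤ) ∣ z → z ∣ (n : ℤ) → r ∣ n := fun h1 h2 =>
    Int.natCast_dvd_natCast.1 (h1.trans h2)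
  have h12 : ∀ {z : ℤ}, (r : ℤ) ∣ z → z ∣ pv c12 ((Nat.card K : ℕ) : ℤ) → od (Nat.card K) r = 12 :=
    fun h1 h2 => od_of_c12 hr (h1.trans h2)
  rcases cover hr hd with (h | h | h | h | h | h) | h | h
  · exact absurd h hr2
  · exact Or.inl (.of_adj (adj_minus hK hr hr2 h))
  · refine Or.inl (.of_adj (adj_plus hK hr hr2 (to_nat h ?_)))
    push_cast
    rw [hb]
    exact ⟨1, by unfold f2; ring⟩
  · refine Or.inl (.of_adj (adj_sq hK hr hr2 (to_nat h ?_)))
    push_cast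
    rw [hb]
    exact ⟨fm (2 ^ m), by unfold fp fm; ring⟩
  · refine Or.inl (.of_adj (adj_sq hK hr hr2 (to_nat h ?_)))
    push_cast
    rw [hb]
    exact ⟨fp (2 ^ m), by unfold fp fm; ring⟩
  · left
    have h3 := three_dvd m
    have h3a : Adj ↥(twistedF4 K (2 ^ m)) 3 2 := by
      refine adj_plus hK Nat.prime_three (by norm_num) ?_
      apply Int.natCast_dvd_natCast.1
      refine h3.1.trans ?_
      push_cast
      rw [hb]
      exact ⟨1, by unfold f2; ring⟩
    by_cases hr3 : r = 3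
    · rw [hr3]; exact .of_adj h3a
    · obtain ⟨-, -, -, g, hg⟩ := H168.TwF4Cover.rel_cert hK chainD_ok hThD certD_f6 certD_f6 hr Nat.prime_three hr3 h
        h3.2
      exact .of_adj_adj (adj_of_dvd hr Nat.prime_three hr3 (Commute.refl g) (by rw [hg]; exact dvd_mul_right _ _)
        (by rw [hg]; exact dvd_mul_left _ _) (orderOf_pos _).ne' (orderOf_pos _).ne') h3a
  · refine Or.inr (h12 h ?_)
    rw [pv_c12, hb]
    exact ⟨fM (2 ^ m), by unfold fP fM; ring⟩
  · refine Or.inr (h12 h ?_)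
    rw [pv_c12, hb]
    exact ⟨fP (2 ^ m), by unfold fP fM; ring⟩

omit hm

/-- **`²F₄(q)`**: centralisers of the elements of order `r`, `q` of order 12 modulo `r`. -/
theorem cent_2F4 {x : ↥(twistedF4 K (2 ^ m))} {r : ℕ} (hr : r.Prime) (hx : orderOf x = r) (h : od (Nat.card K) r = 12) :
    (∀ a b : ↥(twistedF4 K (2 ^ m)), Commute a x → Commute b x → Commute a b) ∧
      Nat.card ↥(Subgroup.centralizer {x}) ∣
        ((Polynomial.cyclotomic 12 ℤ).eval ((Nat.card K : ℕ) : ℤ)).natAbs := by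
  have hle : twistedF4 K (2 ^ m) ≤ chevF4.group K := genSubgroup_le_group f4T.inList _
  let ι : ↥(twistedF4 K (2 ^ m)) →* ↥(chevF4.group K) := Subgroup.inclusion hle
  have hι : Function.Injective ι := Subgroup.inclusion_injective _
  have hx' : orderOf (ι x) = r := by rw [orderOf_injective ι hι, hx]
  obtain ⟨h1, h2⟩ := RegFin.cent_od f4T inv_F4 one_ne_zero hr hx' h (by decide) (by norm_num)
  refine ⟨fun a b ha hb => ?_, ?_⟩
  · have h3 := h1 (ι a) (ι b) (ha.map ι) (hb.map ι)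
    apply hι
    rw [map_mul, map_mul]
    exact h3
  · refine Dvd.dvd.trans ?_ h2
    let ψ : ↥(Subgroup.centralizer {x}) →* ↥(Subgroup.centralizer {ι x}) :=
      { toFun := fun y => ⟨ι y.1, by
          rw [Subgroup.mem_centralizer_singleton_iff, ← map_mul, ← map_mul,
            Subgroup.mem_centralizer_singleton_iff.1 y.2]⟩
        map_one' := Subtype.ext (map_one ι)
        map_mul' := fun a b => Subtype.ext (map_mul ι a.1 b.1) }
    exact Subgroup.card_dvd_of_injective ψ fun a b hab => Subtype.ext (hι (congrArg Subtype.val hab))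

include hm

/-- **`²F₄(q)`** -/
theorem ac1'_2F4 : AC1' ↥(twistedF4 K (2 ^ m)) := by
  intro x hx h2 hn
  by_cases h12 : od (Nat.card K) (orderOf x) = 12
  · exact Or.inl (cent_2F4 hK hx rfl h12).1
  · right
    rintro s hs
    have hsd : s.Prime ∧ s ∣ Nat.card ↥(twistedF4 K (2 ^ m)) := by
      rcases hs with rfl | hs
      · exact ⟨hx, orderOf_dvd_natCard x⟩
      · obtain ⟨hs1, -, -, y, x', hy, -⟩ := hs
        exact ⟨hs1, hy ▸ orderOf_dvd_natCard y⟩
    rcases near_2F4 hm hK hsd.1 hsd.2 with h | h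
    · exact h
    · exfalso
      rcases hs with rfl | hs
      · exact h12 h
      · obtain ⟨hs1, -, -, y, x', hy, hx', hc⟩ := hs
        have h3 := (cent_2F4 hK hs1 hy h).2
        have h4 : orderOf x ∣ ((Polynomial.cyclotomic 12 ℤ).eval ((Nat.card K : ℕ) : ℤ)).natAbs := by
          rw [← hx']
          have hy' : x' ∈ Subgroup.centralizer {y} := Subgroup.mem_centralizer_singleton_iff.2 hc.symm
          have h5 : orderOf x' ∣ Nat.card ↥(Subgroup.centralizer {y}) := by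
            rw [← Subgroup.orderOf_mk x' hy']
            exact orderOf_dvd_natCard _
          exact h5.trans h3
        apply h12
        refine od_of_c12 hx ?_
        rw [pv_c12, ← eval_cyc12]
        exact Int.natCast_dvd.2 h4

theorem good2_2F4 : Good2 ↥(twistedF4 K (2 ^ m)) := good2_of_ac1' (ac1'_2F4 hm hK)

theorem ac_2F4 : AC ↥(twistedF4 K (2 ^ m)) := (good2_2F4 hm hK).ac

end

/-! ### the families -/

theorem good2_isoChevG2 {G : Type*} [Group G] (h : IsoChevG2 G) : Good2 G := by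
  obtain ⟨F, _, _, -, ⟨e⟩⟩ := h
  exact (RegFin.good2_G2 F).congr e.symm

theorem good2_isoF4 {G : Type*} [Group G] (h : IsoF4 G) : Good2 G := by
  obtain ⟨F, _, _, ⟨e⟩⟩ := h
  exact (RegFin.good2_F4 F).congr e.symm

theorem good2_isoChevE6 {G : Type*} [Group G] (h : IsoChevE6 G) : Good2 G := by
  obtain ⟨F, _, _, ⟨e⟩⟩ := h
  exact (RegFin.good2_E6 F).congr e.symm

theorem good2_isoE7 {G : Type*} [Group G] (h : IsoE7 G) : Good2 G := by
  obtain ⟨F, _, _, ⟨e⟩⟩ := h
  exact (RegE7.good2_E7 F).congr e.symm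

theorem good2_isoE8 {G : Type*} [Group G] (h : IsoE8 G) : Good2 G := by
  obtain ⟨F, _, _, ⟨e⟩⟩ := h
  exact (RegFin.good2_E8 F).congr e.symm

theorem good2_iso3D4 {G : Type*} [Group G] (h : Iso3D4 G) : Good2 G := by
  obtain ⟨K, _, _, q, hq, hK, ⟨e⟩⟩ := h
  exact (good2_3D4 hq hK).congr e.symm

theorem good2_iso2E6 {G : Type*} [Group G] (h : Iso2E6 G) : Good2 G := by
  obtain ⟨K, _, _, q, hq, hK, ⟨e⟩⟩ := h
  exact (good2_2E6 hq hK).congr e.symm

theorem good2_iso2F4 {G : Type*} [Group G] (h : Iso2F4 G) : Good2 G := by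
  obtain ⟨K, _, _, m, hm, hK, ⟨e⟩⟩ := h
  exact (good2_2F4 hm hK).congr e.symm

end Cfsg.Agent.H378.TwRowsF
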