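import Cfsg.Agent.BpExc.EmbSplit
import Cfsg.Agent.H378.TorChar

/-!
# Maximal tori of `D.group F`, `F` finite (helper378)

`F` finite, `f : F →+* k`, `k` algebraically closed and locally finite, `σ = phi D k r n` the `|F|`-power map,
`K = (emb f).range`.

* `fix_pow_mem` : `y ^ d ∈ K` for `σ y = y`; `fix_mem` : `y ∈ K` if `d = 1`;
* `exists_hom` : for every `w ∈ W` a homomorphism `ℤ^l / (w - q) → D.group F` whose kernel has exponent dividing `d`.
-/

set_option autoImplicit false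
set_option linter.unusedSectionVars false

namespace Cfsg.Agent.H378.TorFin

open CoxeterSystem Subgroup Cfsg Cfsg.Lie Cfsg.Lie.ChevalleyDatum
open Cfsg.Agent.ChevalleyStructure Cfsg.Agent.ChevalleyStructure.Elts Cfsg.Agent.ChevalleyStructure.CoxeterGeom
  Cfsg.Agent.ChevalleyStructure.CoxeterGeomTypes Cfsg.Agent.ChevalleyStructure.NPerm
open Cfsg.Agent.Tits.Roots Cfsg.Agent.Tits.Core Cfsg.Agent.Nodes.Reps Cfsg.Agent.Nodes.BNOf
  Cfsg.Agent.Nodes.RGDChev Cfsg.Agent.Nodes.Bruhat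
open Cfsg.Agent.KFacts.RgdField Cfsg.Agent.KFacts.RgdChevCoord Cfsg.Agent.BpExc.TorCent Cfsg.Agent.BpExc.TorChev
open Cfsg.Agent.BpExc.Tow Cfsg.Agent.BpExc.TowChev Cfsg.Agent.BpExc.FamExt Cfsg.Agent.BpExc.FamUntw
  Cfsg.Agent.BpExc.FamInst Cfsg.Agent.BpExc.LangFr Cfsg.Agent.BpExc.FamField
open Cfsg.Agent.GpExc.Field (glMap emb coe_emb glMap_xG emb_injective coe_glMap)
open Cfsg.Agent.H378.TorDual Cfsg.Agent.H378.TorChar

universe u v

variable {D : ChevalleyDatum} {l : ℕ} {M : CoxeterMatrix (Fin l)} (hp : IsType D l M) {k : Type u} [Field k]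
  {W : Type*} [Group W] (cs : CoxeterSystem M W)

section Fix

variable {F : Type u} [Field F] [Finite F] (f : F →+* k) (r : ℕ) [Fact r.Prime] [CharP k r] [PerfectRing k r]
  {n : ℕ} (hn : Nat.card F = r ^ n)

/-- the `q`-power map -/
noncomputable def frobHom (k : Type u) [Field k] (r : ℕ) [Fact r.Prime] [CharP k r] [PerfectRing k r] (n : ℕ) :
    k →+* k := ((frb k r n : k ≃+* k) : k →+* k)

theorem frobHom_apply (n : ℕ) (t : k) : frobHom k r n t = t ^ r ^ n := frb_apply k r n t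

theorem phi_glMap (n : ℕ) (y : ↥(D.group k)) :
    ((phi D k r n y : ↥(D.group k)) : GL D.Idx k) = glMap D (frobHom k r n) (y : GL D.Idx k) :=
  Units.ext rfl

include hn in
theorem frobHom_fix [Fintype F] (t : k) : frobHom k r n t = t ^ Fintype.card F := by
  rw [frobHom_apply, ← hn, Nat.card_eq_fintype_card]

include hn in
theorem phi_emb' (x : ↥(D.group F)) : phi D k r n (emb hp.inList f x) = emb hp.inList f x := by
  have := Fintype.ofFinite F
  exact BpExc.Emb.emb_fix hp.inList (frobHom_fix r hn) (phi_glMap r n) x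

include hn in
theorem conj_range {y : ↥(D.group k)} (hy : phi D k r n y = y) {a : ↥(D.group k)}
    (ha : a ∈ (emb hp.inList f).range) : y * a * y⁻¹ ∈ (emb hp.inList f).range := by
  have := Fintype.ofFinite F
  exact BpExc.Emb.conj_mem_range hp.inList (frobHom_fix r hn) (phi_glMap r n) hy ha

include hn in
/-- `Y^σ = K T^σ` -/
theorem exists_split {y : ↥(D.group k)} (hy : phi D k r n y = y) :
    ∃ a ∈ (emb hp.inList f).range, ∃ t ∈ TT D k, phi D k r n t = t ∧ y = a * t := by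
  have := Fintype.ofFinite F
  obtain ⟨x, hx, t, ht, e⟩ := BpExc.EmbSplit.untw_split (f := f) hp.inList (φ := frobHom k r n)
    (BpExc.Emb.fix_iff_range (frobHom_fix r hn)) y.2 (by rw [← phi_glMap, hy])
  have htG : t ∈ D.group k := (monomial_le_group hp.inList k) (diagonal_le_monomial D k ht)
  have e' : y = emb hp.inList f ⟨x, hx⟩ * ⟨t, htG⟩ := Subtype.ext e
  refine ⟨_, ⟨⟨x, hx⟩, rfl⟩, ⟨t, htG⟩, ht, ?_, e'⟩
  have h1 : (⟨t, htG⟩ : ↥(D.group k)) = (emb hp.inList f ⟨x, hx⟩)⁻¹ * y := by rw [e']; group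
  rw [h1, map_mul, map_inv, hy, phi_emb' hp f r hn]

include hn in
theorem exists_of_ch {t : ↥(D.group k)} (ht : t ∈ TT D k) (hσ : phi D k r n t = t) (i : Fin l) :
    ∃ b : F, f b = ch hp (sr i) t := by
  have := Fintype.ofFinite F
  have h1 := ch_phi hp r (m := n) (simple_lt hp.inList (lt_rank hp i)) ht
  rw [hσ, vec_simple hp i] at h1
  have h2 := (BpExc.Emb.fix_iff_range (f := f) (frobHom_fix r hn) (ch hp (sr i) t)).1 (by
    rw [frobHom_apply]; exact h1.symm)
  exact h2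

variable {d : ℕ} {B : Fin l → Fin l → ℤ} (hB : InvC D l d B) (hd : d ≠ 0)

include hn hB hd in
/-- `t ^ d` comes from the torus of `D.group F` -/
theorem tor_pow_mem {t : ↥(D.group k)} (ht : t ∈ TT D k) (hσ : phi D k r n t = t) :
    ∃ s ∈ TT D F, emb hp.inList f s = t ^ d := by
  choose b hb using exists_of_ch hp f r hn ht hσ
  have hb0 : ∀ i, b i ≠ 0 := by
    intro i h0
    have h1 := hb i
    rw [h0, map_zero, ← vec_simple hp i] at h1
    exact (act hp (simple_lt hp.inList (lt_rank hp i)) ht).1 h1.symm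
  obtain ⟨a, ha0, ha⟩ := exists_sol (D := D) hB (fun i => b i ^ d) (fun i => pow_ne_zero _ (hb0 i))
    (fun i => ⟨b i, rfl⟩) hd
  obtain ⟨s, hsT, hs⟩ := exists_tor hp a ha0 Finset.univ
  have hsk : emb hp.inList f s ∈ TT D k := GpExc.Field.emb_T hp f ⟨s, hsT, rfl⟩
  refine ⟨s, hsT, ?_⟩
  have h1 : (⟨emb hp.inList f s, hsk⟩ : ↥(TT D k)) = (⟨t, ht⟩ : ↥(TT D k)) ^ d := by
    apply tchar_injective hp
    refine ext_sr fun i => Units.ext ?_
    rw [tchar_sr, map_pow, MonoidHom.pow_apply, Units.val_pow_eq_pow_val, tchar_sr]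
    have hi := simple_lt hp.inList (lt_rank hp i)
    have h2 : ch hp (vec D l (D.simple i)) s = b i ^ d := by
      apply ch_eq hp hi hsT
      rw [hs _ hi, ha, vec_simple hp i, mul_one]
      congr 1
      rw [Finset.prod_eq_single i]
      · rw [sr_self, zpow_one]
      · intro j _ hj
        rw [sr_ne hj, zpow_zero]
      · intro h
        exact absurd (Finset.mem_univ i) h
    have h3 := BpExc.TowChev.emb_ch hp f hi hsT
    rw [h2, map_pow, hb] at h3
    rw [← vec_simple hp i]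
    rw [h3, vec_simple hp i]
  exact congrArg Subtype.val h1

include hn hB hd in
/-- **`Y^σ / K` has exponent dividing `d`.** -/
theorem fix_pow_mem {y : ↥(D.group k)} (hy : phi D k r n y = y) : y ^ d ∈ (emb hp.inList f).range := by
  obtain ⟨a, ha, t, ht, hσt, e⟩ := exists_split hp f r hn hy
  have key : ∀ j : ℕ, ∃ κ ∈ (emb hp.inList f).range, y ^ j = κ * t ^ j := by
    intro j
    induction j with
    | zero => exact ⟨1, one_mem _, by rw [pow_zero, pow_zero, one_mul]⟩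
    | succ j ih =>
      obtain ⟨κ, hκ, e1⟩ := ih
      have hσj : phi D k r n (t ^ j) = t ^ j := by rw [map_pow, hσt]
      refine ⟨κ * (t ^ j * a * (t ^ j)⁻¹), mul_mem hκ (conj_range hp f r hn hσj ha), ?_⟩
      rw [pow_succ, e1, e, pow_succ]
      group
  obtain ⟨κ, hκ, e1⟩ := key d
  obtain ⟨s, -, es⟩ := tor_pow_mem hp f r hn hB hd ht hσt
  rw [e1, ← es]
  exact mul_mem hκ ⟨s, rfl⟩

include hn in
/-- **`Y^σ = K` if `d = 1`.** -/
theorem fix_mem (hB : InvC D l 1 B) {y : ↥(D.group k)} (hy : phi D k r n y = y) : y ∈ (emb hp.inList f).range := by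
  have h1 := fix_pow_mem hp f r hn hB one_ne_zero hy
  rwa [pow_one] at h1

end Fix

/-! ### the determinant is prime to the characteristic -/

theorem det_ne_zero {w w' : Module.End ℤ (Fin l → ℤ)} (h : w * w' = 1) {q : ℤ} (hq : (q : k) = 0) :
    ((LinearMap.det (w - q • (1 : Module.End ℤ (Fin l → ℤ))) : ℤ) : k) ≠ 0 := by
  have h1 : ((LinearMap.det (w - q • (1 : Module.End ℤ (Fin l → ℤ))) : ℤ) : k) = ((LinearMap.det w : ℤ) : k) := by
    rw [← LinearMap.det_toMatrix', ← LinearMap.det_toMatrix']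
    show (Int.castRingHom k) _ = (Int.castRingHom k) _
    rw [RingHom.map_det, RingHom.map_det]
    congr 1
    ext i j
    rw [RingHom.mapMatrix_apply, RingHom.mapMatrix_apply, Matrix.map_apply, Matrix.map_apply, map_sub, map_smul,
      Matrix.sub_apply, Matrix.smul_apply, map_sub, smul_eq_mul, map_mul]
    show _ - (q : k) * _ = _
    rw [hq, zero_mul, sub_zero]
  have h2 : LinearMap.det w * LinearMap.det w' = 1 := by
    rw [← LinearMap.det_comp, ← Module.End.mul_eq_comp, h]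
    exact LinearMap.det_id
  rw [h1]
  intro h0
  have h3 := congrArg (Int.cast : ℤ → k) h2
  rw [Int.cast_mul, h0, zero_mul, Int.cast_one] at h3
  exact zero_ne_one h3

theorem det_rep_ne_zero (r : ℕ) [Fact r.Prime] [CharP k r] {n : ℕ} (hn : 0 < n) {A : Fin l → Fin l → ℤ}
    (h : IsCartan M A) (w : W) : ((LinearMap.det (rep cs h w - ((r ^ n : ℕ) : ℤ) •
      (1 : Module.End ℤ (Fin l → ℤ))) : ℤ) : k) ≠ 0 := by
  refine det_ne_zero (w' := rep cs h w⁻¹) (by rw [← map_mul, mul_inv_cancel, map_one]) ?_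
  rw [Int.cast_natCast, Nat.cast_pow, CharP.cast_eq_zero, zero_pow hn.ne']

/-! ### the twisted tori -/

section Tor

variable [IsAlgClosed k] (hk : LocFin k) (r : ℕ) [Fact r.Prime] [CharP k r]

include hp in
theorem TwT_comm {n : ℕ} {g a b : ↥(D.group k)} (ha : a ∈ TwT D k r n g) (hb : b ∈ TwT D k r n g) : a * b = b * a :=
  TT_comm hp a ha.1 b hb.1

theorem conj_fix {n : ℕ} {z g t : ↥(D.group k)} (hz : z⁻¹ * phi D k r n z = g) (ht : t ∈ TwT D k r n g) :
    phi D k r n (z * t * z⁻¹) = z * t * z⁻¹ := by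
  have h1 : phi D k r n z = z * g := by rw [← hz]; group
  have h2 : g * phi D k r n t * g⁻¹ = t := ht.2
  rw [map_mul, map_mul, map_inv, h1]
  calc z * g * phi D k r n t * (z * g)⁻¹ = z * (g * phi D k r n t * g⁻¹) * z⁻¹ := by group
    _ = z * t * z⁻¹ := by rw [h2]

include hp in
/-- **Lang's theorem.** -/
theorem lang' {n : ℕ} (hn : 0 < n) (g : ↥(D.group k)) : ∃ z : ↥(D.group k), z⁻¹ * phi D k r n z = g := by
  obtain ⟨z, hz, e⟩ := BpExc.TorAll.lang hp r hn g.2
  refine ⟨⟨z, hz⟩, Subtype.ext ?_⟩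
  rw [Subgroup.coe_mul, phi_frob]
  exact e

variable {F : Type u} [Field F] [Finite F] (f : F →+* k) {n : ℕ} (hn0 : 0 < n) (hn : Nat.card F = r ^ n)
  {d : ℕ} {B : Fin l → Fin l → ℤ} (hB : InvC D l d B) (hd : d ≠ 0)

include hk hn0 hn hB hd f in
theorem exists_hom_aux (w : W) : ∃ φ : Multiplicative (Co (rep cs hp.isCartan w - ((Nat.card F : ℕ) : ℤ) •
    (1 : Module.End ℤ (Fin l → ℤ)))) →* ↥(D.group F), ∀ x, φ x = 1 → x ^ d = 1 := by
  rw [hn]
  obtain ⟨g, hg⟩ := exists_rp cs (nsysL hp cs hk r) w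
  obtain ⟨z, hz⟩ := lang' hp r hn0 g
  obtain ⟨e, he⟩ := twEquiv hp cs r hk hB hd hg (m := n)
  obtain ⟨e'⟩ := kerOf_equiv k (det_rep_ne_zero cs r hn0 hp.isCartan w)
  -- the map `t ↦ emb⁻¹ ((z t z⁻¹) ^ d)`
  have h1 : ∀ t : ↥(TwT D k r n g), ∃ x : ↥(D.group F), emb hp.inList f x = (z * t.1 * z⁻¹) ^ d := fun t =>
    fix_pow_mem hp f r hn hB hd (conj_fix r hz t.2)
  choose ψ hψ using h1
  have hmul : ∀ s t : ↥(TwT D k r n g), ψ (s * t) = ψ s * ψ t := by
    intro s t
    apply emb_injective hp.inList f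
    rw [map_mul, hψ, hψ, hψ]
    have h2 : z * (s * t).1 * z⁻¹ = (z * s.1 * z⁻¹) * (z * t.1 * z⁻¹) := by
      show z * (s.1 * t.1) * z⁻¹ = _
      group
    rw [h2]
    refine (Commute.mul_pow ?_ d)
    show z * s.1 * z⁻¹ * (z * t.1 * z⁻¹) = z * t.1 * z⁻¹ * (z * s.1 * z⁻¹)
    calc z * s.1 * z⁻¹ * (z * t.1 * z⁻¹) = z * (s.1 * t.1) * z⁻¹ := by group
      _ = z * (t.1 * s.1) * z⁻¹ := by rw [TwT_comm hp r s.2 t.2]
      _ = _ := by group
  let Ψ : ↥(TwT D k r n g) →* ↥(D.group F) := MonoidHom.mk' ψ hmul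
  refine ⟨Ψ.comp (e.symm.toMonoidHom.comp e'.symm.toMonoidHom), fun x hx => ?_⟩
  obtain ⟨t, ht⟩ : ∃ t, t = e.symm (e'.symm x) := ⟨_, rfl⟩
  have h3 : ψ t = 1 := by rw [ht]; exact hx
  have h4 : (z * t.1 * z⁻¹) ^ d = 1 := by rw [← hψ, h3, map_one]
  have h5 : t ^ d = 1 := by
    apply Subtype.ext
    rw [Subgroup.coe_pow, Subgroup.coe_one]
    have h6 : (z * t.1 * z⁻¹) ^ d = z * t.1 ^ d * z⁻¹ := conj_pow
    rw [h6] at h4
    have h7 : t.1 ^ d = z⁻¹ * (z * t.1 ^ d * z⁻¹) * z := by group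
    rw [h7, h4]
    group
  have h8 : x = e' (e t) := by rw [ht, MulEquiv.apply_symm_apply, MulEquiv.apply_symm_apply]
  rw [h8, ← map_pow, ← map_pow, h5, map_one, map_one]

end Tor

theorem exists_closure (F : Type u) [Field F] [Finite F] : ∃ (k : Type u) (_ : Field k) (_ : IsAlgClosed k)
    (_ : F →+* k) (r : ℕ) (_ : Fact r.Prime) (_ : CharP k r) (n : ℕ), LocFin k ∧ BpExc.TorAll.HAlg r k ∧ 0 < n ∧
    Nat.card F = r ^ n := by
  have := Fintype.ofFinite F
  obtain ⟨r, hr⟩ := CharP.exists F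
  have hrp : Fact r.Prime := ⟨CharP.char_is_prime F r⟩
  let _ : Algebra (ZMod r) F := ZMod.algebra F r
  have hFa : Algebra.IsAlgebraic (ZMod r) F := Algebra.IsAlgebraic.of_finite (ZMod r) F
  have hka : Algebra.IsAlgebraic (ZMod r) (AlgebraicClosure F) := Algebra.IsAlgebraic.trans (ZMod r) F _
  have hc : CharP (AlgebraicClosure F) r := charP_of_injective_algebraMap
    (algebraMap F (AlgebraicClosure F)).injective r
  obtain ⟨n, hn0, hn⟩ := exists_card (F := F) r
  exact ⟨AlgebraicClosure F, inferInstance, inferInstance, algebraMap F _, r, hrp, hc, n,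
    locFin_of_isAlgebraic r _, BpExc.TorAll.hAlg_of_isAlgebraic r _, hn0, hn⟩

/-- **Maximal tori up to exponent `d`**: for every `w ∈ W` there is a homomorphism `ℤ^l / (w - q) → D.group F` whose
kernel has exponent dividing `d`. -/
theorem exists_hom {d : ℕ} {B : Fin l → Fin l → ℤ} (hB : InvC D l d B) (hd : d ≠ 0) {F : Type u} [Field F] [Finite F]
    (w : W) : ∃ φ : Multiplicative ((Fin l → ℤ) ⧸ LinearMap.range (rep cs hp.isCartan w -
      ((Nat.card F : ℕ) : ℤ) • (1 : Module.End ℤ (Fin l → ℤ)))) →* ↥(D.group F), ∀ x, φ x = 1 → x ^ d = 1 := by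
  obtain ⟨k, _, _, f, r, _, _, n, hk, -, hn0, hn⟩ := exists_closure F
  exact exists_hom_aux hp cs hk r f hn0 hn hB hd w

/-! ### the missing tables -/

theorem inv_B2 : InvC chevB2 2 2 ![![2,2],![1,2]] := by
  unfold InvC
  decide +kernel

theorem inv_D4 : InvC chevD4 4 2 ![![2,2,1,1],![2,4,2,2],![1,2,2,1],![1,2,1,2]] := by
  unfold InvC
  decide +kernel

end Cfsg.Agent.H378.TorFin
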