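import Mathlib
import Cfsg.Agent.H378.TorDual

/-!
# Lattice endomorphisms annihilated by a cyclotomic polynomial of maximal degree (helper378)

`w : End(ℤ^l)`, `φ(m) = l`.
* `toQ` : the extension to `ℚ^l`;
* `eq_zero_of_cyc` : `Φ_m(w) v = 0`, `v ≠ 0`: an `e` with `e (w^i v) = 0` for all `i` is `0`;
* `aeval_eq_zero` : if `Φ_m(w) v = 0` for some `v ≠ 0` then `Φ_m(w) = 0`;
* `det_sub` : `Φ_m(w) = 0` gives `|det (w - q)| = |Φ_m(q)|`;
* `aeval_eq_zero_of_char` : if `w ^ N = 1`, the prime `ℓ ∤ N` divides `Φ_m(q)`, and there is a character `χ ≠ 1`,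
  `χ ^ ℓ = 1` with `χ (w x) = χ x ^ q`, then `Φ_m(w) = 0`.
-/

set_option autoImplicit false

namespace Cfsg.Agent.H378.LatCyc

open Polynomial Cfsg.Agent.H378.TorDual

universe u

variable {l : ℕ}

/-- the extension to `ℚ^l` -/
noncomputable def toQ : Module.End ℤ (Fin l → ℤ) →+* Module.End ℚ (Fin l → ℚ) :=
  ((Matrix.toLinAlgEquiv' (R := ℚ) (n := Fin l) : _ ≃ₐ[ℚ] _) : _ →+* Module.End ℚ (Fin l → ℚ)).comp
    (((Int.castRingHom ℚ).mapMatrix : Matrix (Fin l) (Fin l) ℤ →+* Matrix (Fin l) (Fin l) ℚ).comp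
      ((LinearMap.toMatrixAlgEquiv' (R := ℤ) (n := Fin l) : _ ≃ₐ[ℤ] _) : _ →+* Matrix (Fin l) (Fin l) ℤ))

/-- integral vectors in `ℚ^l` -/
def vq (x : Fin l → ℤ) : Fin l → ℚ := fun i => (x i : ℚ)

theorem vq_injective : Function.Injective (vq (l := l)) := by
  intro x y h
  funext i
  exact Int.cast_injective (α := ℚ) (congrFun h i)

theorem vq_eq_zero {x : Fin l → ℤ} : vq x = 0 ↔ x = 0 := by
  constructor
  · intro h
    apply vq_injective
    rw [h]
    funext i
    exact (Int.cast_zero (R := ℚ)).symm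
  · rintro rfl
    funext i
    exact Int.cast_zero (R := ℚ)

theorem toQ_vq (w : Module.End ℤ (Fin l → ℤ)) (x : Fin l → ℤ) : toQ w (vq x) = vq (w x) := by
  have h1 : w x = (LinearMap.toMatrix' w).mulVec x := by
    rw [← Matrix.toLin'_apply, Matrix.toLin'_toMatrix']
  have h2 : toQ w (vq x) = ((LinearMap.toMatrix' w).map (Int.castRingHom ℚ)).mulVec (vq x) := rfl
  rw [h2, h1]
  funext i
  show _ = (((LinearMap.toMatrix' w).mulVec x i : ℤ) : ℚ)
  simp only [Matrix.mulVec, dotProduct, Matrix.map_apply, vq, Int.cast_sum, Int.cast_mul]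
  rfl

theorem toQ_aeval (w : Module.End ℤ (Fin l → ℤ)) (P : ℤ[X]) :
    toQ (aeval w P) = aeval (toQ w) (P.map (Int.castRingHom ℚ)) := by
  induction P using Polynomial.induction_on' with
  | add p q hp hq => rw [map_add, map_add, hp, hq, Polynomial.map_add, map_add]
  | monomial n a =>
    rw [aeval_monomial, map_mul, map_pow, Polynomial.map_monomial, aeval_monomial]
    congr 1
    rw [eq_intCast, map_intCast, eq_intCast, map_intCast]

/-- **Independence.** -/
theorem indep {m : ℕ} (hm : 0 < m) (hl : m.totient = l) {w : Module.End ℤ (Fin l → ℤ)} {v : Fin l → ℤ} (hv : v ≠ 0)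
    (h : aeval w (cyclotomic m ℤ) v = 0) :
    LinearIndependent ℚ fun i : Fin l => vq ((w ^ (i : ℕ)) v) := by
  have hv' : vq v ≠ 0 := fun h0 => hv (vq_eq_zero.1 h0)
  have h' : aeval (toQ w) (cyclotomic m ℚ) (vq v) = 0 := by
    rw [← map_cyclotomic_int m ℚ, ← toQ_aeval, toQ_vq, h]
    exact vq_eq_zero.2 rfl
  rw [Fintype.linearIndependent_iff]
  intro c hc
  obtain ⟨P, hP⟩ : ∃ P : ℚ[X], P = ∑ i : Fin l, C (c i) * X ^ (i : ℕ) := ⟨_, rfl⟩
  have hPv : aeval (toQ w) P (vq v) = 0 := by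
    rw [hP, map_sum, LinearMap.sum_apply, ← hc]
    refine Finset.sum_congr rfl fun i _ => ?_
    rw [map_mul, aeval_C, map_pow, aeval_X, Module.End.mul_apply, Module.algebraMap_end_apply]
    congr 1
    rw [← map_pow, toQ_vq]
  have hdeg : P.degree < l := by
    rw [hP]
    exact degree_sum_fin_lt c
  have hP0 : P = 0 := by
    by_contra hne
    rcases (cyclotomic.irreducible_rat hm).isCoprime_or_dvd P with h1 | h1
    · obtain ⟨a, b, hab⟩ := h1
      apply hv'
      have h2 : aeval (toQ w) (a * cyclotomic m ℚ + b * P) (vq v) = vq v := by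
        rw [hab, map_one, Module.End.one_apply]
      rw [← h2, map_add, map_mul, map_mul, LinearMap.add_apply, Module.End.mul_apply, Module.End.mul_apply, h', hPv,
        map_zero, map_zero, add_zero]
    · have h2 := degree_le_of_dvd h1 hne
      rw [degree_cyclotomic, hl] at h2
      exact absurd hdeg (not_lt.2 h2)
  intro i
  have h3 : P.coeff i = c i := by
    rw [hP, finsetSum_coeff, Finset.sum_eq_single i]
    · rw [coeff_C_mul, coeff_X_pow, if_pos rfl, mul_one]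
    · intro j _ hj
      rw [coeff_C_mul, coeff_X_pow, if_neg (fun h0 => hj (Fin.ext h0.symm)), mul_zero]
    · intro hi
      exact absurd (Finset.mem_univ i) hi
  rw [← h3, hP0, coeff_zero]

/-- an endomorphism killing the `w^i v` is zero -/
theorem eq_zero_of_cyc {m : ℕ} (hm : 0 < m) (hl : m.totient = l) {w : Module.End ℤ (Fin l → ℤ)} {v : Fin l → ℤ}
    (hv : v ≠ 0) (h : aeval w (cyclotomic m ℤ) v = 0) {e : Module.End ℤ (Fin l → ℤ)}
    (he : ∀ i : ℕ, e ((w ^ i) v) = 0) : e = 0 := by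
  have h1 := indep hm hl hv h
  have h2 : toQ e = 0 := by
    let b := basisOfLinearIndependentOfCardEqFinrank' (K := ℚ) _ h1 (by simp)
    refine b.ext fun i => ?_
    have h3 : b i = vq ((w ^ (i : ℕ)) v) := by simp [b]
    rw [h3, toQ_vq, he, LinearMap.zero_apply]
    exact vq_eq_zero.2 rfl
  refine LinearMap.ext fun x => vq_injective ?_
  rw [← toQ_vq, h2, LinearMap.zero_apply, LinearMap.zero_apply]
  exact (vq_eq_zero.2 rfl).symm

theorem aeval_eq_zero {m : ℕ} (hm : 0 < m) (hl : m.totient = l) {w : Module.End ℤ (Fin l → ℤ)} {v : Fin l → ℤ}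
    (hv : v ≠ 0) (h : aeval w (cyclotomic m ℤ) v = 0) : aeval w (cyclotomic m ℤ) = 0 := by
  refine eq_zero_of_cyc hm hl hv h fun i => ?_
  have h1 : (aeval w (cyclotomic m ℤ)) ((w ^ i) v) = (aeval w (cyclotomic m ℤ * X ^ i)) v := by
    rw [map_mul, map_pow, aeval_X, Module.End.mul_apply]
  rw [h1, mul_comm, map_mul, Module.End.mul_apply, h, map_zero]

/-- **The determinant.** -/
theorem det_sub {m : ℕ} (hm : 0 < m) (hl : m.totient = l) {w : Module.End ℤ (Fin l → ℤ)}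
    (h : aeval w (cyclotomic m ℤ) = 0) (q : ℤ) :
    (LinearMap.det (w - q • (1 : Module.End ℤ (Fin l → ℤ)))).natAbs = ((cyclotomic m ℤ).eval q).natAbs := by
  have hl0 : 0 < l := by rw [← hl]; exact Nat.totient_pos.2 hm
  have : Nonempty (Fin l) := ⟨⟨0, hl0⟩⟩
  have hQ : aeval (toQ w) (cyclotomic m ℚ) = 0 := by
    rw [← map_cyclotomic_int m ℚ, ← toQ_aeval, h, map_zero]
  have hne : Nontrivial (Module.End ℚ (Fin l → ℚ)) := inferInstance
  have hmin : minpoly ℚ (toQ w) = cyclotomic m ℚ := by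
    have h1 : minpoly ℚ (toQ w) ∣ cyclotomic m ℚ := minpoly.dvd _ _ hQ
    rcases (cyclotomic.irreducible_rat hm).dvd_iff.1 h1 with h2 | h2
    · exact absurd h2 (minpoly.not_isUnit ℚ (toQ w))
    · exact eq_of_monic_of_associated (minpoly.monic (Algebra.IsIntegral.isIntegral (toQ w))) (cyclotomic.monic m ℚ) h2.symm
  have hchar : (toQ w).charpoly = cyclotomic m ℚ := by
    have h1 : cyclotomic m ℚ ∣ (toQ w).charpoly := hmin ▸ LinearMap.minpoly_dvd_charpoly (toQ w)
    refine eq_of_monic_of_dvd_of_natDegree_le (cyclotomic.monic m ℚ) (LinearMap.charpoly_monic _) h1 ?_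
    rw [LinearMap.charpoly_natDegree, natDegree_cyclotomic, hl]
    simp
  have h1 : ((LinearMap.det (w - q • (1 : Module.End ℤ (Fin l → ℤ))) : ℤ) : ℚ) =
      LinearMap.det (toQ (w - q • (1 : Module.End ℤ (Fin l → ℤ)))) := by
    rw [← LinearMap.det_toMatrix']
    show (Int.castRingHom ℚ) _ = LinearMap.det (Matrix.toLin' _)
    rw [LinearMap.det_toLin', RingHom.map_det]
    rfl
  have h2 : toQ (w - q • (1 : Module.End ℤ (Fin l → ℤ))) = -(algebraMap ℚ _ (q : ℚ) - toQ w) := by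
    rw [map_sub, neg_sub]
    congr 1
    rw [zsmul_eq_mul, map_mul, map_one, mul_one, map_intCast, map_intCast]
  have h3 : ((LinearMap.det (w - q • (1 : Module.End ℤ (Fin l → ℤ))) : ℤ) : ℚ) =
      (-1) ^ l * (((cyclotomic m ℤ).eval q : ℤ) : ℚ) := by
    have h4 : (((cyclotomic m ℤ).eval q : ℤ) : ℚ) = (cyclotomic m ℚ).eval (q : ℚ) := by
      rw [← map_cyclotomic_int m ℚ, eval_intCast_map]
      rfl
    rw [h1, h2, h4, ← hchar, LinearMap.eval_charpoly, ← neg_one_smul ℚ, LinearMap.det_smul]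
    congr 2
    simp
  have h5 : LinearMap.det (w - q • (1 : Module.End ℤ (Fin l → ℤ))) = (-1) ^ l * (cyclotomic m ℤ).eval q := by
    exact_mod_cast h3
  rw [h5, Int.natAbs_mul, Int.natAbs_pow, Int.natAbs_neg, Int.natAbs_one, one_pow, one_mul]

variable {k : Type u} [Field k]

/-- characters with `χ (w x) = χ x ^ q` -/
theorem kerOf_aeval {w : Module.End ℤ (Fin l → ℤ)} {q : ℤ} {χ : Ch l k}
    (hχ : χ ∈ KerOf k (w - q • (1 : Module.End ℤ (Fin l → ℤ)))) (P : ℤ[X]) (x : Fin l → ℤ) :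
    χ (Multiplicative.ofAdd (aeval w P x)) = χ (Multiplicative.ofAdd x) ^ P.eval q := by
  obtain ⟨S, hS⟩ := X_sub_C_dvd_sub_C_eval (p := P) (a := q)
  have h1 : P = (X - C q) * S + C (P.eval q) := by rw [← hS, sub_add_cancel]
  have h2 : aeval w P x = (w - q • (1 : Module.End ℤ (Fin l → ℤ))) (aeval w S x) + P.eval q • x := by
    conv_lhs => rw [h1]
    rw [map_add, map_mul, map_sub, aeval_X, aeval_C, aeval_C, LinearMap.add_apply, Module.End.mul_apply,
      Module.algebraMap_end_apply]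
    congr 1
  rw [h2, ofAdd_add, map_mul, hχ, one_mul, ofAdd_zsmul, map_zpow]

/-- **The characteristic polynomial from an eigencharacter.** -/
theorem aeval_eq_zero_of_char {m N : ℕ} (hm : 0 < m) (hl : m.totient = l) {w : Module.End ℤ (Fin l → ℤ)}
    (hN : 0 < N) (hw : w ^ N = 1) {ℓ : ℕ} (hℓ : ℓ.Prime) (hℓN : ¬ ℓ ∣ N) (hℓm : ¬ ℓ ∣ m) {q : ℤ}
    (hq : (ℓ : ℤ) ∣ (cyclotomic m ℤ).eval q) {χ : Ch l k}
    (hχ : χ ∈ KerOf k (w - q • (1 : Module.End ℤ (Fin l → ℤ)))) (hχ1 : χ ≠ 1) (hχℓ : χ ^ ℓ = 1) :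
    aeval w (cyclotomic m ℤ) = 0 := by
  obtain ⟨R, hR⟩ := cyclotomic.dvd_X_pow_sub_one m ℤ
  obtain ⟨S, hS⟩ : (X ^ m - 1 : ℤ[X]) ∣ X ^ (N * m) - 1 := by
    have := sub_dvd_pow_sub_pow (X ^ m : ℤ[X]) 1 N
    rwa [one_pow, ← pow_mul, mul_comm m N] at this
  obtain ⟨Q, hQ⟩ : ∃ Q : ℤ[X], X ^ (N * m) - 1 = cyclotomic m ℤ * Q := ⟨R * S, by rw [hS, hR, mul_assoc]⟩
  have hNm : ¬ ℓ ∣ N * m := fun h => (hℓ.dvd_mul.1 h).elim hℓN hℓm
  have hzero : ∀ x, aeval w (cyclotomic m ℤ) (aeval w Q x) = 0 := by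
    intro x
    rw [← Module.End.mul_apply, ← map_mul, ← hQ, map_sub, map_pow, aeval_X, map_one, pow_mul, hw, one_pow, sub_self,
      LinearMap.zero_apply]
  by_cases hcase : ∀ x, aeval w Q x = 0
  · exfalso
    obtain ⟨x, hx⟩ : ∃ x : Fin l → ℤ, χ (Multiplicative.ofAdd x) ≠ 1 := by
      by_contra hcon
      push Not at hcon
      exact hχ1 (MonoidHom.ext fun x => hcon (Multiplicative.toAdd x))
    have hord : orderOf (χ (Multiplicative.ofAdd x)) = ℓ := by
      have h1 : χ (Multiplicative.ofAdd x) ^ ℓ = 1 := by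
        rw [← MonoidHom.pow_apply, hχℓ, MonoidHom.one_apply]
      exact ((Nat.dvd_prime hℓ).1 (orderOf_dvd_of_pow_eq_one h1)).resolve_left fun h2 => hx (orderOf_eq_one_iff.1 h2)
    have hdvd : ∀ P : ℤ[X], aeval w P x = 0 → (ℓ : ℤ) ∣ P.eval q := by
      intro P hP
      have h1 := kerOf_aeval hχ P x
      rw [hP, ofAdd_zero, map_one] at h1
      rw [← hord]
      exact orderOf_dvd_iff_zpow_eq_one.2 h1.symm
    have hQq := hdvd Q (hcase x)
    have hd := congrArg (fun P : ℤ[X] => (derivative P).eval q) hQ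
    simp only [derivative_sub, derivative_X_pow, derivative_one, sub_zero, derivative_mul, eval_add, eval_mul,
      eval_pow, eval_X, eval_C] at hd
    have h1 : (ℓ : ℤ) ∣ ((N * m : ℕ) : ℤ) * q ^ (N * m - 1) := by
      have h3 : ((N * m : ℕ) : ℤ) * q ^ (N * m - 1) = eval q (derivative (cyclotomic m ℤ)) * eval q Q +
          eval q (cyclotomic m ℤ) * eval q (derivative Q) := hd
      rw [h3]
      exact dvd_add (Dvd.dvd.mul_left hQq _) (Dvd.dvd.mul_right hq _)
    have hℓ' : Prime (ℓ : ℤ) := Nat.prime_iff_prime_int.1 hℓ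
    rcases hℓ'.dvd_mul.1 h1 with h2 | h2
    · exact hNm (by exact_mod_cast h2)
    · have h3 : (ℓ : ℤ) ∣ q := hℓ'.dvd_of_dvd_pow h2
      have h4 : (X ^ (N * m) - 1 : ℤ[X]).eval q = q ^ (N * m) - 1 := by simp
      have h5 : (ℓ : ℤ) ∣ q ^ (N * m) - 1 := by
        rw [← h4, hQ, eval_mul]
        exact Dvd.dvd.mul_right hq _
      have h6 : (ℓ : ℤ) ∣ q ^ (N * m) := dvd_pow h3 (Nat.mul_pos hN hm).ne'
      have h7 : (ℓ : ℤ) ∣ 1 := by
        have := dvd_sub h6 h5
        rwa [sub_sub_cancel] at this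
      exact hℓ'.not_isUnit (isUnit_of_dvd_one h7)
  · push Not at hcase
    obtain ⟨x, hx⟩ := hcase
    exact aeval_eq_zero hm hl hx (hzero x)

end Cfsg.Agent.H378.LatCyc
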