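import Cfsg.Agent.H378.TorFin
import Cfsg.Agent.H378.LatRoot

/-!
# Semisimple elements of prime order `ℓ ∤ q |W|` (helper378)

`Y = D.group k`, `σ = phi D k r n`, `x ∈ Y^σ` of prime order `ℓ ≠ r`.

* `exists_pair` : `z⁻¹ x z = t ∈ T`, `z⁻¹ σ(z) = m g`, `m ∈ MM t`, `Rp w g`, `g σ(t) g⁻¹ = t`;
* `centralizer_of_cyc` : if `ℓ ∤ |W|`, `ℓ ∣ Φ_m(q)`, `φ(m) = l`, then `Φ_m(w) = 0` and the centraliser of `x` in `Y^σ` is
  `z TwT(g) z⁻¹`;
* `centralizer_fin` : the same in `D.group F` if `d = 1`: the centraliser is abelian of order `Φ_m(q)`.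
-/

set_option autoImplicit false
set_option linter.unusedSectionVars false

namespace Cfsg.Agent.H378.Regular

open CoxeterSystem Subgroup Cfsg Cfsg.Lie Cfsg.Lie.ChevalleyDatum
open Cfsg.Agent.ChevalleyStructure Cfsg.Agent.ChevalleyStructure.Elts Cfsg.Agent.ChevalleyStructure.CoxeterGeom
  Cfsg.Agent.ChevalleyStructure.CoxeterGeomTypes Cfsg.Agent.ChevalleyStructure.NPerm
open Cfsg.Agent.Tits.Roots Cfsg.Agent.Tits.Core Cfsg.Agent.Nodes.Reps Cfsg.Agent.Nodes.BNOf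
  Cfsg.Agent.Nodes.RGDChev Cfsg.Agent.Nodes.Bruhat
open Cfsg.Agent.KFacts.RgdField Cfsg.Agent.KFacts.RgdChevCoord Cfsg.Agent.BpExc.TorCent Cfsg.Agent.BpExc.TorChev
open Cfsg.Agent.BpExc.Tow Cfsg.Agent.BpExc.TowChev Cfsg.Agent.BpExc.FamExt Cfsg.Agent.BpExc.FamUntw
  Cfsg.Agent.BpExc.FamInst Cfsg.Agent.BpExc.LangFr Cfsg.Agent.BpExc.FamField
open Cfsg.Agent.GpExc.Field (glMap emb coe_emb glMap_xG emb_injective coe_glMap)
open Cfsg.Agent.H378.TorDual Cfsg.Agent.H378.TorChar Cfsg.Agent.H378.TorFin Cfsg.Agent.H378.LatRoot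

universe u v

variable {D : ChevalleyDatum} {l : ℕ} {M : CoxeterMatrix (Fin l)} (hp : IsType D l M) {k : Type u} [Field k]
  {W : Type*} [Group W] (cs : CoxeterSystem M W)

theorem rp_congr {Y : Type*} [Group Y] {T T' : Subgroup Y} {nn : Fin l → Y} (e : T = T') {hN : NSys M T nn}
    {hN' : NSys M T' nn} {w : W} {g : Y} (h : Rp cs hN w g) : Rp cs hN' w g := by
  subst e
  exact h

theorem tchar_pow_eq_one {t : ↥(D.group k)} (ht : t ∈ TT D k) {ℓ : ℕ} (htℓ : t ^ ℓ = 1) :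
    tchar hp ⟨t, ht⟩ ^ ℓ = 1 := by
  have h1 : (⟨t, ht⟩ : ↥(TT D k)) ^ ℓ = 1 := Subtype.ext htℓ
  have h2 : tchar hp ((⟨t, ht⟩ : ↥(TT D k)) ^ ℓ) = tchar hp ⟨t, ht⟩ ^ ℓ := map_pow (tchar hp) _ ℓ
  rw [← h2, h1, map_one]

/-- **Elements of the torus conjugate in `Y` are conjugate in `N`.** -/
theorem exists_form' [Finite W] (hk : LocFin k) (r : ℕ) [Fact r.Prime] [CharP k r] {s t c : ↥(D.group k)}
    (hs : s ∈ TT D k) (ht : t ∈ TT D k) (e : c * s = t * c) :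
    ∃ m ∈ MM cs hp.isCartan (XX D l k) (ch hp) t, ∃ w g, Rp cs (nsysL hp cs hk r) w g ∧ g * s = t * g ∧
      c = m * g := by
  have H := tow hp cs hk r
  have C := coordsL hp cs hk r
  have hTL := TL_eq hp hk
  have hXL := XL_eq hp hk
  rw [← hTL] at hs ht
  have C' : Coords cs hp.isCartan (TL (Tj hp (k := k))) (nc hp k) (XL (Xj hp)) (xc hp) (ch hp) := by
    rw [hTL, hXL]
    exact C
  obtain ⟨m, hm, w, g, hg, hgs, hc⟩ := BpExc.Fr.exists_form H C' hs ht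
    (c := c) (by rw [BpExc.TowChev.GG_eq_top hp cs hk]; exact Subgroup.mem_top _) e
  rw [hXL] at hm
  exact ⟨m, hm, w, g, rp_congr cs hTL hg, hgs, hc⟩

section Pair

variable [IsAlgClosed k] (hk : LocFin k) (r : ℕ) [Fact r.Prime] [CharP k r]

/-- **The pair of a semisimple element of prime order.** -/
theorem exists_pair [Finite W] (hka : BpExc.TorAll.HAlg r k) {n : ℕ} {x : ↥(D.group k)} (hσ : phi D k r n x = x) {ℓ : ℕ}
    (hℓ : ℓ.Prime) (hℓr : ℓ ≠ r) (hx : x ^ ℓ = 1) :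
    ∃ z t m g : ↥(D.group k), ∃ w : W, t ∈ TT D k ∧ z⁻¹ * x * z = t ∧ z⁻¹ * phi D k r n z = m * g ∧
      m ∈ MM cs hp.isCartan (XX D l k) (ch hp) t ∧ Rp cs (nsysL hp cs hk r) w g ∧
      g * phi D k r n t * g⁻¹ = t := by
  obtain ⟨z, hz⟩ := BpExc.TorAll.exists_toral hp r hka hℓ hℓr hx
  have h1 : phi D k r n (z⁻¹ * x * z) = (phi D k r n z)⁻¹ * x * phi D k r n z := by
    rw [map_mul, map_mul, map_inv, hσ]
  have e1 : z⁻¹ * phi D k r n z * phi D k r n (z⁻¹ * x * z) = z⁻¹ * x * z * (z⁻¹ * phi D k r n z) := by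
    rw [h1]; group
  obtain ⟨m, hm, w, g, hg, hgs, hc⟩ := exists_form' hp cs hk r (phi_mem hp r hz) hz e1
  refine ⟨z, z⁻¹ * x * z, m, g, w, hz, rfl, hc, hm, hg, ?_⟩
  rw [hgs]; group

theorem MM_eq_bot {t : ↥(D.group k)} (h : ∀ a, IsRoot cs hp.isCartan a → ch hp a t ≠ 1) :
    MM cs hp.isCartan (XX D l k) (ch hp) t = ⊥ := by
  rw [eq_bot_iff]
  refine RGD.Sup_le fun a ha => ?_
  exact absurd ha.2 (h a ha.1)

/-- the centraliser of a regular element of prime order `ℓ ∤ |W|` -/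
theorem mem_TT_of_comm [Finite W] {t y : ↥(D.group k)} (ht : t ∈ TT D k) {ℓ : ℕ} (hℓ : ℓ.Prime)
    (hℓW : ¬ ℓ ∣ Nat.card W) (htℓ : t ^ ℓ = 1) (h : ∀ a, IsRoot cs hp.isCartan a → ch hp a t ≠ 1)
    (hy : y * t = t * y) (hk : LocFin k) (r : ℕ) [Fact r.Prime] [CharP k r] : y ∈ TT D k := by
  obtain ⟨m, hm, w, g, hg, hgs, hc⟩ := exists_form' hp cs hk r ht ht hy
  rw [MM_eq_bot hp cs h, Subgroup.mem_bot] at hm
  rw [hm, one_mul] at hc
  subst hc
  have hgt : y * t * y⁻¹ = t := by rw [hgs]; group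
  have ht' : y * t * y⁻¹ ∈ TT D k := by rw [hgt]; exact ht
  have hχ := fun x => tchar_conj hp cs hk r hg ht ht' x
  have e : (⟨y * t * y⁻¹, ht'⟩ : ↥(TT D k)) = ⟨t, ht⟩ := Subtype.ext hgt
  rw [e] at hχ
  have hw : w = 1 := by
    refine eq_one_of_fixes (cs := cs) (h := hp.isCartan) hℓ hℓW (χ := tchar hp ⟨t, ht⟩) ?_ ?_ hχ
    · exact tchar_pow_eq_one hp ht htℓ
    · intro a ha h1
      apply h a ha
      rw [← tchar_apply hp cs hk r ⟨t, ht⟩ ha, h1]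
      rfl
  rw [hw] at hg
  exact hg.mem_of_one

/-- **The centraliser of an element of prime order `ℓ ∣ Φ_m(q)`, `φ(m) = l`.** -/
theorem centralizer_of_cyc [Finite W] (hka : BpExc.TorAll.HAlg r k) {n : ℕ} {x : ↥(D.group k)} (hσ : phi D k r n x = x)
    {ℓ : ℕ} (hℓ : ℓ.Prime) (hℓr : ℓ ≠ r) (hx : x ^ ℓ = 1) (hx1 : x ≠ 1) (hℓW : ¬ ℓ ∣ Nat.card W) {m : ℕ} (hm : 0 < m)
    (hl : m.totient = l) (hℓm : ¬ ℓ ∣ m)
    (hq : (ℓ : ℤ) ∣ (Polynomial.cyclotomic m ℤ).eval ((r ^ n : ℕ) : ℤ)) :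
    ∃ z g : ↥(D.group k), ∃ w : W, Rp cs (nsysL hp cs hk r) w g ∧ z⁻¹ * phi D k r n z = g ∧
      Polynomial.aeval (rep cs hp.isCartan w) (Polynomial.cyclotomic m ℤ) = 0 ∧
      ∀ y : ↥(D.group k), (phi D k r n y = y ∧ y * x = x * y) ↔ z⁻¹ * y * z ∈ TwT D k r n g := by
  obtain ⟨z, t, m', g, w, ht, hzx, hz, hm', hg, hgt⟩ := exists_pair hp cs hk r hka hσ hℓ hℓr hx
  have htℓ : t ^ ℓ = 1 := by
    rw [← hzx]
    have : (z⁻¹ * x * z) ^ ℓ = z⁻¹ * x ^ ℓ * z := by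
      have h1 := conj_pow (a := z⁻¹) (b := x) (i := ℓ)
      rwa [inv_inv] at h1
    rw [this, hx]; group
  have ht1 : t ≠ 1 := by
    intro h1
    apply hx1
    have : x = z * t * z⁻¹ := by rw [← hzx]; group
    rw [this, h1]; group
  have hχK : tchar hp ⟨t, ht⟩ ∈
      KerOf k (rep cs hp.isCartan w - ((r ^ n : ℕ) : ℤ) • (1 : Module.End ℤ (Fin l → ℤ))) :=
    (mem_TwT_iff hp cs r hk hg ht).1 ⟨ht, hgt⟩
  have hχℓ : tchar hp ⟨t, ht⟩ ^ ℓ = 1 := tchar_pow_eq_one hp ht htℓ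
  have hχ1 : tchar hp ⟨t, ht⟩ ≠ 1 := by
    intro h1
    have h2 := tchar_injective hp (h1.trans (map_one (tchar hp)).symm)
    exact ht1 (congrArg Subtype.val h2)
  have hwN : rep cs hp.isCartan w ^ Nat.card W = 1 := by
    rw [← map_pow, pow_card_eq_one', map_one]
  have hcyc := LatCyc.aeval_eq_zero_of_char hm hl Nat.card_pos hwN hℓ hℓW hℓm hq hχK hχ1 hχℓ
  have hroot : ∀ a, IsRoot cs hp.isCartan a → ch hp a t ≠ 1 := by
    intro a ha h1
    refine ne_one_of_root (cs := cs) (h := hp.isCartan) hm hl hcyc hℓ hℓW hχK hχ1 hχℓ ha (Units.ext ?_)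
    rw [tchar_apply hp cs hk r ⟨t, ht⟩ ha, h1]
    rfl
  rw [MM_eq_bot hp cs hroot, Subgroup.mem_bot] at hm'
  rw [hm', one_mul] at hz
  refine ⟨z, g, w, hg, hz, hcyc, fun y => ⟨?_, ?_⟩⟩
  · rintro ⟨h1, h2⟩
    have h3 : z⁻¹ * y * z * t = t * (z⁻¹ * y * z) := by
      rw [← hzx]
      calc z⁻¹ * y * z * (z⁻¹ * x * z) = z⁻¹ * (y * x) * z := by group
        _ = z⁻¹ * (x * y) * z := by rw [h2]
        _ = _ := by group
    refine ⟨mem_TT_of_comm hp cs ht hℓ hℓW htℓ hroot h3 hk r, ?_⟩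
    have h4 : phi D k r n z = z * g := by rw [← hz]; group
    rw [map_mul, map_mul, map_inv, h4, h1]
    group
  · intro h1
    have h2 := conj_fix r hz h1
    have h3 : z * (z⁻¹ * y * z) * z⁻¹ = y := by group
    rw [h3] at h2
    refine ⟨h2, ?_⟩
    have h4 := TT_comm hp _ h1.1 t ht
    have h5 : x = z * t * z⁻¹ := by rw [← hzx]; group
    rw [h5]
    calc y * (z * t * z⁻¹) = z * (z⁻¹ * y * z * t) * z⁻¹ := by group
      _ = z * (t * (z⁻¹ * y * z)) * z⁻¹ := by rw [h4]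
      _ = _ := by group

end Pair

/-! ### over a finite field -/

/-- **The centraliser in `D.group F`** of an element of prime order `ℓ ∣ Φ_m(q)`, `φ(m) = l`, `ℓ ∤ |W|`: abelian, of
order `Φ_m(q)` (`d = 1`). -/
theorem centralizer_fin [Finite W] {B : Fin l → Fin l → ℤ} (hB : InvC D l 1 B) {F : Type u} [Field F] [Finite F]
    {x : ↥(D.group F)} {ℓ : ℕ} (hℓ : ℓ.Prime) (hℓF : ¬ ℓ ∣ Nat.card F) (hx : orderOf x = ℓ)
    (hℓW : ¬ ℓ ∣ Nat.card W) {m : ℕ} (hm : 0 < m) (hl : m.totient = l) (hℓm : ¬ ℓ ∣ m)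
    (hq : (ℓ : ℤ) ∣ (Polynomial.cyclotomic m ℤ).eval ((Nat.card F : ℕ) : ℤ)) :
    (∀ a ∈ Subgroup.centralizer {x}, ∀ b ∈ Subgroup.centralizer {x}, a * b = b * a) ∧
    Nat.card ↥(Subgroup.centralizer {x}) = ((Polynomial.cyclotomic m ℤ).eval ((Nat.card F : ℕ) : ℤ)).natAbs ∧
    ∃ w : W, Polynomial.aeval (rep cs hp.isCartan w) (Polynomial.cyclotomic m ℤ) = 0 ∧
      Nonempty (↥(Subgroup.centralizer {x}) ≃* Multiplicative (Co (rep cs hp.isCartan w - ((Nat.card F : ℕ) : ℤ) •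
        (1 : Module.End ℤ (Fin l → ℤ))))) := by
  obtain ⟨k, _, _, f, r, _, _, n, hk, hka, hn0, hn⟩ := exists_closure F
  have hℓr : ℓ ≠ r := by
    rintro rfl
    apply hℓF
    rw [hn]
    exact dvd_pow_self _ hn0.ne'
  have hxℓ : x ^ ℓ = 1 := by rw [← hx]; exact pow_orderOf_eq_one x
  have hx1 : x ≠ 1 := by
    rintro rfl
    rw [orderOf_one] at hx
    exact hℓ.one_lt.ne hx
  have hemb := emb_injective hp.inList f
  rw [hn] at hq
  obtain ⟨z, g, w, hg, hz, hcyc, hC⟩ := centralizer_of_cyc hp cs hk r hka (n := n)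
    (x := emb hp.inList f x) (phi_emb' hp f r hn x) hℓ hℓr (by rw [← map_pow, hxℓ, map_one])
    (fun h => hx1 (hemb (h.trans (map_one _).symm))) hℓW hm hl hℓm hq
  have hmem : ∀ y : ↥(Subgroup.centralizer {x}), z⁻¹ * emb hp.inList f y.1 * z ∈ TwT D k r n g := by
    intro y
    refine (hC _).1 ⟨phi_emb' hp f r hn _, ?_⟩
    have h1 := Subgroup.mem_centralizer_singleton_iff.1 y.2
    rw [← map_mul, ← map_mul, h1]
  let e0 : ↥(Subgroup.centralizer {x}) →* ↥(TwT D k r n g) :=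
    { toFun := fun y => ⟨z⁻¹ * emb hp.inList f y.1 * z, hmem y⟩
      map_one' := Subtype.ext (by
        show z⁻¹ * emb hp.inList f 1 * z = 1
        rw [map_one]; group)
      map_mul' := fun a b => Subtype.ext (by
        show z⁻¹ * emb hp.inList f (a.1 * b.1) * z = z⁻¹ * emb hp.inList f a.1 * z * (z⁻¹ * emb hp.inList f b.1 * z)
        rw [map_mul]; group) }
  have hbij : Function.Bijective e0 := by
    constructor
    · intro a b hab
      have h1 : z⁻¹ * emb hp.inList f a.1 * z = z⁻¹ * emb hp.inList f b.1 * z := congrArg Subtype.val hab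
      exact Subtype.ext (hemb (mul_left_cancel (mul_right_cancel h1)))
    · intro t
      have h1 := conj_fix r hz t.2
      obtain ⟨y, hy⟩ := fix_mem hp f r hn hB h1
      have h2 : z⁻¹ * (z * t.1 * z⁻¹) * z = t.1 := by group
      have h3 := (hC (z * t.1 * z⁻¹)).2 (by rw [h2]; exact t.2)
      refine ⟨⟨y, ?_⟩, Subtype.ext ?_⟩
      · rw [Subgroup.mem_centralizer_singleton_iff]
        apply hemb
        rw [map_mul, map_mul, hy]
        exact h3.2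
      · show z⁻¹ * emb hp.inList f y * z = t.1
        rw [hy, h2]
  let e1 := MulEquiv.ofBijective e0 hbij
  obtain ⟨e2, -⟩ := twEquiv hp cs r hk hB one_ne_zero hg (m := n)
  have hdet := det_rep_ne_zero (k := k) cs r hn0 hp.isCartan w
  obtain ⟨e3⟩ := kerOf_equiv k hdet
  rw [hn]
  refine ⟨fun a ha b hb => ?_, ?_, w, hcyc, ⟨e1.trans (e2.trans e3)⟩⟩
  · have h1 : (⟨a, ha⟩ : ↥(Subgroup.centralizer {x})) * ⟨b, hb⟩ = ⟨b, hb⟩ * ⟨a, ha⟩ := by
      apply e1.injective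
      rw [map_mul, map_mul]
      exact Subtype.ext (TwT_comm hp r (e1 ⟨a, ha⟩).2 (e1 ⟨b, hb⟩).2)
    exact congrArg Subtype.val h1
  · rw [Nat.card_congr (e1.trans e2).toEquiv, card_kerOf k hdet]
    exact LatCyc.det_sub hm hl hcyc _

end Cfsg.Agent.H378.Regular
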