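import Cfsg.Agent.H378.CycTab

/-!
# Weyl group elements of type E6 (helper378)

`rowM` : a product of simple reflections fixing the highest root with the eigenvalue of order `M`;
`torM_m` : a product of simple reflections with the eigenvalues of order `M` and `m`.
-/

set_option autoImplicit false

namespace Cfsg.Agent.H378.AdjE6

open Cfsg.Agent.H129.WData Cfsg.Agent.H378.AdjTab Cfsg.Agent.H378.CycTab Cfsg.Agent.H493.PGTorus
open Cfsg.Agent.ChevalleyStructure.CoxeterGeomTypes Cfsg.Agent.Nodes.RGDChev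
open Cfsg.Lie Cfsg.Lie.ChevalleyDatum

/-- the Cartan matrix -/
def Am : Mat 6 := ![![2, 0, -1, 0, 0, 0],
      ![0, 2, 0, -1, 0, 0],
      ![-1, 0, 2, -1, 0, 0],
      ![0, -1, -1, 2, -1, 0],
      ![0, 0, 0, -1, 2, -1],
      ![0, 0, 0, 0, -1, 2]]

theorem hA : ∀ i j, Am i j = cartanOf chevE6 6 i j := by decide +kernel

/-- the highest root -/
def hi : Fin 6 → ℤ := ![1, 2, 2, 3, 2, 1]

theorem lt_nroots : 71 < chevE6.nroots := by decide +kernel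

theorem vec_hi : vec chevE6 6 71 = hi := by
  have h : ∀ i : Fin 6, vec chevE6 6 71 i = hi i := by
    unfold vec
    decide +kernel
  exact funext h

theorem orth : SmallTor.Orth chevE6 6 0 0 5 where
  hr := by decide +kernel
  hs := by decide +kernel
  zero := by decide +kernel
  odd := by decide +kernel

/-- the partial products -/
def L2 : List (Fin 6 × Mat 6) := [
    (0, ![![-1, 0, 0, 0, 0, 0],
        ![0, 1, 0, 0, 0, 0],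
        ![1, 0, 1, 0, 0, 0],
        ![0, 0, 0, 1, 0, 0],
        ![0, 0, 0, 0, 1, 0],
        ![0, 0, 0, 0, 0, 1]])]

/-- the eigenvector -/
def V2 : Fin (0 + 1) → Fin 6 → ℤ := ![![1, 0, 0, 0, 0, 0]]

/-- the functional -/
def U2 : Fin 6 → ℤ := ![1, 0, 0, 0, 0, 0]

theorem row2 : RowOK Am L2 (vec chevE6 6 71) c2 V2 U2 := by
  rw [vec_hi]
  decide +kernel

/-- the partial products -/
def L3 : List (Fin 6 × Mat 6) := [
    (0, ![![0, 0, 1, 0, 0, 0],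
        ![0, 1, 0, 0, 0, 0],
        ![-1, 0, -1, 0, 0, 0],
        ![1, 0, 1, 1, 0, 0],
        ![0, 0, 0, 0, 1, 0],
        ![0, 0, 0, 0, 0, 1]]),
    (2, ![![1, 0, 1, 0, 0, 0],
        ![0, 1, 0, 0, 0, 0],
        ![0, 0, -1, 0, 0, 0],
        ![0, 0, 1, 1, 0, 0],
        ![0, 0, 0, 0, 1, 0],
        ![0, 0, 0, 0, 0, 1]])]

/-- the eigenvector -/
def V3 : Fin (1 + 1) → Fin 6 → ℤ := ![![-1, 0, 0, 0, 0, 0],
      ![0, 0, 1, 0, 0, 0]]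

/-- the functional -/
def U3 : Fin 6 → ℤ := ![-1, 0, 0, 0, 0, 0]

theorem row3 : RowOK Am L3 (vec chevE6 6 71) c3 V3 U3 := by
  rw [vec_hi]
  decide +kernel

/-- the partial products -/
def L4 : List (Fin 6 × Mat 6) := [
    (0, ![![0, 0, 1, 0, 0, 0],
        ![1, 1, 1, 1, 0, 0],
        ![0, 0, 0, 1, 0, 0],
        ![-1, 0, -1, -1, 0, 0],
        ![1, 0, 1, 1, 1, 0],
        ![0, 0, 0, 0, 0, 1]]),
    (2, ![![1, 0, 1, 0, 0, 0],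
        ![0, 1, 1, 1, 0, 0],
        ![0, 0, 0, 1, 0, 0],
        ![0, 0, -1, -1, 0, 0],
        ![0, 0, 1, 1, 1, 0],
        ![0, 0, 0, 0, 0, 1]]),
    (3, ![![1, 0, 0, 0, 0, 0],
        ![0, 1, 0, 1, 0, 0],
        ![0, 0, 1, 1, 0, 0],
        ![0, 0, 0, -1, 0, 0],
        ![0, 0, 0, 1, 1, 0],
        ![0, 0, 0, 0, 0, 1]])]

/-- the eigenvector -/
def V4 : Fin (1 + 1) → Fin 6 → ℤ := ![![1, 0, 1, 0, 0, 0],
      ![0, 0, -1, -1, 0, 0]]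

/-- the functional -/
def U4 : Fin 6 → ℤ := ![1, 0, 0, 0, 0, 0]

theorem row4 : RowOK Am L4 (vec chevE6 6 71) c4 V4 U4 := by
  rw [vec_hi]
  decide +kernel

/-- the partial products -/
def L5 : List (Fin 6 × Mat 6) := [
    (0, ![![0, 0, 1, 0, 0, 0],
        ![1, 1, 1, 1, 0, 0],
        ![0, 0, 0, 1, 0, 0],
        ![0, 0, 0, 0, 1, 0],
        ![-1, 0, -1, -1, -1, 0],
        ![1, 0, 1, 1, 1, 1]]),
    (2, ![![1, 0, 1, 0, 0, 0],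
        ![0, 1, 1, 1, 0, 0],
        ![0, 0, 0, 1, 0, 0],
        ![0, 0, 0, 0, 1, 0],
        ![0, 0, -1, -1, -1, 0],
        ![0, 0, 1, 1, 1, 1]]),
    (3, ![![1, 0, 0, 0, 0, 0],
        ![0, 1, 0, 1, 0, 0],
        ![0, 0, 1, 1, 0, 0],
        ![0, 0, 0, 0, 1, 0],
        ![0, 0, 0, -1, -1, 0],
        ![0, 0, 0, 1, 1, 1]]),
    (4, ![![1, 0, 0, 0, 0, 0],
        ![0, 1, 0, 0, 0, 0],
        ![0, 0, 1, 0, 0, 0],
        ![0, 0, 0, 1, 1, 0],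
        ![0, 0, 0, 0, -1, 0],
        ![0, 0, 0, 0, 1, 1]])]

/-- the eigenvector -/
def V5 : Fin (3 + 1) → Fin 6 → ℤ := ![![1, 0, 0, 1, 0, 0],
      ![0, 0, 0, 0, -1, 0],
      ![1, 0, 0, 0, 0, 0],
      ![0, 0, -1, 0, -1, 0]]

/-- the functional -/
def U5 : Fin 6 → ℤ := ![0, 0, 0, 1, 0, 0]

theorem row5 : RowOK Am L5 (vec chevE6 6 71) c5 V5 U5 := by
  rw [vec_hi]
  decide +kernel

/-- the partial products -/
def L6 : List (Fin 6 × Mat 6) := [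
    (0, ![![0, 0, 1, 0, 0, 0],
        ![1, 1, 1, 1, 0, 0],
        ![0, 0, 0, 1, 0, 0],
        ![0, 0, 0, 0, 1, 0],
        ![0, 0, 0, 0, 0, 1],
        ![-1, 0, -1, -1, -1, -1]]),
    (2, ![![1, 0, 1, 0, 0, 0],
        ![0, 1, 1, 1, 0, 0],
        ![0, 0, 0, 1, 0, 0],
        ![0, 0, 0, 0, 1, 0],
        ![0, 0, 0, 0, 0, 1],
        ![0, 0, -1, -1, -1, -1]]),
    (3, ![![1, 0, 0, 0, 0, 0],
        ![0, 1, 0, 1, 0, 0],
        ![0, 0, 1, 1, 0, 0],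
        ![0, 0, 0, 0, 1, 0],
        ![0, 0, 0, 0, 0, 1],
        ![0, 0, 0, -1, -1, -1]]),
    (4, ![![1, 0, 0, 0, 0, 0],
        ![0, 1, 0, 0, 0, 0],
        ![0, 0, 1, 0, 0, 0],
        ![0, 0, 0, 1, 1, 0],
        ![0, 0, 0, 0, 0, 1],
        ![0, 0, 0, 0, -1, -1]]),
    (5, ![![1, 0, 0, 0, 0, 0],
        ![0, 1, 0, 0, 0, 0],
        ![0, 0, 1, 0, 0, 0],
        ![0, 0, 0, 1, 0, 0],
        ![0, 0, 0, 0, 1, 1],
        ![0, 0, 0, 0, 0, -1]])]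

/-- the eigenvector -/
def V6 : Fin (1 + 1) → Fin 6 → ℤ := ![![0, 0, 1, 2, 2, 1],
      ![1, 0, 1, 0, -1, -1]]

/-- the functional -/
def U6 : Fin 6 → ℤ := ![-1, 0, 1, 0, 0, 0]

theorem row6 : RowOK Am L6 (vec chevE6 6 71) c6 V6 U6 := by
  rw [vec_hi]
  decide +kernel

/-- the partial products -/
def T8 : List (Fin 6 × Mat 6) := [
    (4, ![![1, 0, 1, 1, 1, 0],
        ![0, -1, 0, -1, -1, 0],
        ![0, 0, -1, -1, -1, 0],
        ![0, 1, 1, 1, 1, 0],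
        ![0, 0, 0, 1, 1, 1],
        ![0, 0, 0, 0, -1, -1]]),
    (5, ![![1, 0, 1, 1, 0, 0],
        ![0, -1, 0, -1, 0, 0],
        ![0, 0, -1, -1, 0, 0],
        ![0, 1, 1, 1, 0, 0],
        ![0, 0, 0, 1, 1, 1],
        ![0, 0, 0, 0, 0, -1]]),
    (3, ![![1, 0, 1, 1, 0, 0],
        ![0, -1, 0, -1, 0, 0],
        ![0, 0, -1, -1, 0, 0],
        ![0, 1, 1, 1, 0, 0],
        ![0, 0, 0, 1, 1, 0],
        ![0, 0, 0, 0, 0, 1]]),
    (2, ![![1, 0, 1, 0, 0, 0],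
        ![0, -1, 0, 0, 0, 0],
        ![0, 0, -1, 0, 0, 0],
        ![0, 1, 1, 1, 0, 0],
        ![0, 0, 0, 0, 1, 0],
        ![0, 0, 0, 0, 0, 1]]),
    (1, ![![1, 0, 0, 0, 0, 0],
        ![0, -1, 0, 0, 0, 0],
        ![0, 0, 1, 0, 0, 0],
        ![0, 1, 0, 1, 0, 0],
        ![0, 0, 0, 0, 1, 0],
        ![0, 0, 0, 0, 0, 1]])]

theorem chain8 : ChainOK Am T8 := by decide +kernel

/-- the eigenvector -/
def V8_8 : Fin (3 + 1) → Fin 6 → ℤ := ![![0, -1, -1, -1, -1, 0],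
      ![0, 0, 0, -1, 0, 0],
      ![0, 0, 0, 0, -1, -1],
      ![0, 0, 0, 0, 0, 1]]

/-- the functional -/
def U8_8 : Fin 6 → ℤ := ![0, -1, 0, 0, 0, 0]

theorem tor8_8 : EigOK (hd T8) c8 V8_8 U8_8 := by decide +kernel

/-- the eigenvector -/
def V8_2 : Fin (0 + 1) → Fin 6 → ℤ := ![![0, 1, -1, 0, 0, 0]]

/-- the functional -/
def U8_2 : Fin 6 → ℤ := ![0, 1, 0, 0, 0, 0]

theorem tor8_2 : EigOK (hd T8) c2 V8_2 U8_2 := by decide +kernel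

/-- the eigenvector -/
def V8_1 : Fin (0 + 1) → Fin 6 → ℤ := ![![-4, -3, -5, -6, -4, -2]]

/-- the functional -/
def U8_1 : Fin 6 → ℤ := ![0, -1, 0, 0, 0, 1]

theorem tor8_1 : EigOK (hd T8) c1 V8_1 U8_1 := by decide +kernel

/-- the partial products -/
def T9 : List (Fin 6 × Mat 6) := [
    (5, ![![-1, 0, -1, -1, 0, 0],
        ![0, -1, -1, -2, -1, -1],
        ![1, 0, 1, 1, 1, 1],
        ![0, 1, 1, 1, 0, 0],
        ![0, 0, -1, 0, 0, 0],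
        ![0, 0, 1, 1, 1, 0]]),
    (2, ![![-1, 0, -1, -1, 0, 0],
        ![0, -1, -1, -2, -1, 0],
        ![1, 0, 1, 1, 1, 0],
        ![0, 1, 1, 1, 0, 0],
        ![0, 0, -1, 0, 0, 0],
        ![0, 0, 1, 1, 1, 1]]),
    (3, ![![-1, 0, -1, -1, 0, 0],
        ![0, -1, -1, -2, -1, 0],
        ![1, 0, 1, 1, 1, 0],
        ![0, 1, 0, 1, 0, 0],
        ![0, 0, 1, 0, 0, 0],
        ![0, 0, 0, 1, 1, 1]]),
    (4, ![![-1, 0, -1, 0, 0, 0],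
        ![0, -1, -1, -1, -1, 0],
        ![1, 0, 1, 1, 1, 0],
        ![0, 1, 0, 0, 0, 0],
        ![0, 0, 1, 1, 0, 0],
        ![0, 0, 0, 0, 1, 1]]),
    (2, ![![-1, 0, -1, 0, 0, 0],
        ![0, -1, -1, -1, 0, 0],
        ![1, 0, 1, 1, 0, 0],
        ![0, 1, 0, 0, 0, 0],
        ![0, 0, 1, 1, 1, 0],
        ![0, 0, 0, 0, 0, 1]]),
    (3, ![![-1, 0, 0, 0, 0, 0],
        ![0, -1, 0, -1, 0, 0],
        ![1, 0, 1, 1, 0, 0],
        ![0, 1, 0, 0, 0, 0],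
        ![0, 0, 0, 1, 1, 0],
        ![0, 0, 0, 0, 0, 1]]),
    (1, ![![-1, 0, 0, 0, 0, 0],
        ![0, -1, 0, 0, 0, 0],
        ![1, 0, 1, 0, 0, 0],
        ![0, 1, 0, 1, 0, 0],
        ![0, 0, 0, 0, 1, 0],
        ![0, 0, 0, 0, 0, 1]]),
    (0, ![![-1, 0, 0, 0, 0, 0],
        ![0, 1, 0, 0, 0, 0],
        ![1, 0, 1, 0, 0, 0],
        ![0, 0, 0, 1, 0, 0],
        ![0, 0, 0, 0, 1, 0],
        ![0, 0, 0, 0, 0, 1]])]

theorem chain9 : ChainOK Am T9 := by decide +kernel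

/-- the eigenvector -/
def V9_9 : Fin (5 + 1) → Fin 6 → ℤ := ![![1, 0, 1, 0, 0, 0],
      ![0, 1, 1, 1, 0, 0],
      ![0, 0, 0, 1, 0, 0],
      ![0, -1, 0, -1, 0, 0],
      ![0, 0, 0, -1, -1, 0],
      ![0, 0, 0, 0, -1, -1]]

/-- the functional -/
def U9_9 : Fin 6 → ℤ := ![1, 0, 0, 0, 0, 0]

theorem tor9_9 : EigOK (hd T9) c9 V9_9 U9_9 := by decide +kernel

/-- the partial products -/
def T12 : List (Fin 6 × Mat 6) := [
    (5, ![![-1, 0, -1, -1, -1, -1],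
        ![0, -1, 0, -1, -1, -1],
        ![1, 0, 0, 0, 0, 0],
        ![0, 1, 1, 1, 1, 1],
        ![0, 0, 0, 1, 0, 0],
        ![0, 0, 0, 0, 1, 0]]),
    (4, ![![-1, 0, -1, -1, -1, 0],
        ![0, -1, 0, -1, -1, 0],
        ![1, 0, 0, 0, 0, 0],
        ![0, 1, 1, 1, 1, 0],
        ![0, 0, 0, 1, 0, 0],
        ![0, 0, 0, 0, 1, 1]]),
    (3, ![![-1, 0, -1, -1, 0, 0],
        ![0, -1, 0, -1, 0, 0],
        ![1, 0, 0, 0, 0, 0],
        ![0, 1, 1, 1, 0, 0],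
        ![0, 0, 0, 1, 1, 0],
        ![0, 0, 0, 0, 0, 1]]),
    (2, ![![-1, 0, -1, 0, 0, 0],
        ![0, -1, 0, 0, 0, 0],
        ![1, 0, 0, 0, 0, 0],
        ![0, 1, 1, 1, 0, 0],
        ![0, 0, 0, 0, 1, 0],
        ![0, 0, 0, 0, 0, 1]]),
    (1, ![![-1, 0, 0, 0, 0, 0],
        ![0, -1, 0, 0, 0, 0],
        ![1, 0, 1, 0, 0, 0],
        ![0, 1, 0, 1, 0, 0],
        ![0, 0, 0, 0, 1, 0],
        ![0, 0, 0, 0, 0, 1]]),
    (0, ![![-1, 0, 0, 0, 0, 0],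
        ![0, 1, 0, 0, 0, 0],
        ![1, 0, 1, 0, 0, 0],
        ![0, 0, 0, 1, 0, 0],
        ![0, 0, 0, 0, 1, 0],
        ![0, 0, 0, 0, 0, 1]])]

theorem chain12 : ChainOK Am T12 := by decide +kernel

/-- the eigenvector -/
def V12_12 : Fin (3 + 1) → Fin 6 → ℤ := ![![-1, 0, -1, -1, 0, 0],
      ![0, -1, -1, -1, -1, 0],
      ![0, -1, 0, -1, -1, -1],
      ![0, 1, 0, 0, 0, 0]]

/-- the functional -/
def U12_12 : Fin 6 → ℤ := ![-1, 0, 0, 0, 0, 0]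

theorem tor12_12 : EigOK (hd T12) c12 V12_12 U12_12 := by decide +kernel

/-- the eigenvector -/
def V12_3 : Fin (1 + 1) → Fin 6 → ℤ := ![![0, 0, -1, 0, 0, -1],
      ![1, 0, 0, 0, 1, 0]]

/-- the functional -/
def U12_3 : Fin 6 → ℤ := ![0, 0, -1, 0, 0, 0]

theorem tor12_3 : EigOK (hd T12) c3 V12_3 U12_3 := by decide +kernel

end Cfsg.Agent.H378.AdjE6
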