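import Cfsg.Agent.H378.CycTab

/-!
# Weyl group elements of type E7 (helper378)

`rowM` : a product of simple reflections fixing the highest root with the eigenvalue of order `M`;
`torM_m` : a product of simple reflections with the eigenvalues of order `M` and `m`.
-/

set_option autoImplicit false

namespace Cfsg.Agent.H378.AdjE7

open Cfsg.Agent.H129.WData Cfsg.Agent.H378.AdjTab Cfsg.Agent.H378.CycTab Cfsg.Agent.H493.PGTorus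
open Cfsg.Agent.ChevalleyStructure.CoxeterGeomTypes Cfsg.Agent.Nodes.RGDChev
open Cfsg.Lie Cfsg.Lie.ChevalleyDatum

/-- the Cartan matrix -/
def Am : Mat 7 := ![![2, 0, -1, 0, 0, 0, 0],
      ![0, 2, 0, -1, 0, 0, 0],
      ![-1, 0, 2, -1, 0, 0, 0],
      ![0, -1, -1, 2, -1, 0, 0],
      ![0, 0, 0, -1, 2, -1, 0],
      ![0, 0, 0, 0, -1, 2, -1],
      ![0, 0, 0, 0, 0, -1, 2]]

theorem hA : ∀ i j, Am i j = cartanOf chevE7 7 i j := by decide +kernel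

/-- the highest root -/
def hi : Fin 7 → ℤ := ![2, 2, 3, 4, 3, 2, 1]

theorem lt_nroots : 125 < chevE7.nroots := by decide +kernel

theorem vec_hi : vec chevE7 7 125 = hi := by
  have h : ∀ i : Fin 7, vec chevE7 7 125 i = hi i := by
    unfold vec
    decide +kernel
  exact funext h

theorem orth : SmallTor.Orth chevE7 7 1 0 3 where
  hr := by decide +kernel
  hs := by decide +kernel
  zero := by decide +kernel
  odd := by decide +kernel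

/-- the partial products -/
def L2 : List (Fin 7 × Mat 7) := [
    (1, ![![1, 0, 0, 0, 0, 0, 0],
        ![0, -1, 0, 0, 0, 0, 0],
        ![0, 0, 1, 0, 0, 0, 0],
        ![0, 1, 0, 1, 0, 0, 0],
        ![0, 0, 0, 0, 1, 0, 0],
        ![0, 0, 0, 0, 0, 1, 0],
        ![0, 0, 0, 0, 0, 0, 1]])]

/-- the eigenvector -/
def V2 : Fin (0 + 1) → Fin 7 → ℤ := ![![0, 1, 0, 0, 0, 0, 0]]

/-- the functional -/
def U2 : Fin 7 → ℤ := ![0, 1, 0, 0, 0, 0, 0]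

theorem row2 : RowOK Am L2 (vec chevE7 7 125) c2 V2 U2 := by
  rw [vec_hi]
  decide +kernel

/-- the partial products -/
def L3 : List (Fin 7 × Mat 7) := [
    (1, ![![1, 0, 0, 0, 0, 0, 0],
        ![0, 0, 0, 1, 0, 0, 0],
        ![0, 1, 1, 1, 0, 0, 0],
        ![0, -1, 0, -1, 0, 0, 0],
        ![0, 1, 0, 1, 1, 0, 0],
        ![0, 0, 0, 0, 0, 1, 0],
        ![0, 0, 0, 0, 0, 0, 1]]),
    (3, ![![1, 0, 0, 0, 0, 0, 0],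
        ![0, 1, 0, 1, 0, 0, 0],
        ![0, 0, 1, 1, 0, 0, 0],
        ![0, 0, 0, -1, 0, 0, 0],
        ![0, 0, 0, 1, 1, 0, 0],
        ![0, 0, 0, 0, 0, 1, 0],
        ![0, 0, 0, 0, 0, 0, 1]])]

/-- the eigenvector -/
def V3 : Fin (1 + 1) → Fin 7 → ℤ := ![![0, -1, 0, 0, 0, 0, 0],
      ![0, 0, 0, 1, 0, 0, 0]]

/-- the functional -/
def U3 : Fin 7 → ℤ := ![0, -1, 0, 0, 0, 0, 0]

theorem row3 : RowOK Am L3 (vec chevE7 7 125) c3 V3 U3 := by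
  rw [vec_hi]
  decide +kernel

/-- the partial products -/
def L4 : List (Fin 7 × Mat 7) := [
    (1, ![![1, 0, 1, 0, 0, 0, 0],
        ![0, 0, 1, 1, 0, 0, 0],
        ![0, 1, 0, 1, 0, 0, 0],
        ![0, -1, -1, -1, 0, 0, 0],
        ![0, 1, 1, 1, 1, 0, 0],
        ![0, 0, 0, 0, 0, 1, 0],
        ![0, 0, 0, 0, 0, 0, 1]]),
    (2, ![![1, 0, 1, 0, 0, 0, 0],
        ![0, 1, 1, 1, 0, 0, 0],
        ![0, 0, 0, 1, 0, 0, 0],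
        ![0, 0, -1, -1, 0, 0, 0],
        ![0, 0, 1, 1, 1, 0, 0],
        ![0, 0, 0, 0, 0, 1, 0],
        ![0, 0, 0, 0, 0, 0, 1]]),
    (3, ![![1, 0, 0, 0, 0, 0, 0],
        ![0, 1, 0, 1, 0, 0, 0],
        ![0, 0, 1, 1, 0, 0, 0],
        ![0, 0, 0, -1, 0, 0, 0],
        ![0, 0, 0, 1, 1, 0, 0],
        ![0, 0, 0, 0, 0, 1, 0],
        ![0, 0, 0, 0, 0, 0, 1]])]

/-- the eigenvector -/
def V4 : Fin (1 + 1) → Fin 7 → ℤ := ![![0, -1, -1, -1, 0, 0, 0],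
      ![0, 0, 0, 1, 0, 0, 0]]

/-- the functional -/
def U4 : Fin 7 → ℤ := ![0, -1, 0, 0, 0, 0, 0]

theorem row4 : RowOK Am L4 (vec chevE7 7 125) c4 V4 U4 := by
  rw [vec_hi]
  decide +kernel

/-- the partial products -/
def L5 : List (Fin 7 × Mat 7) := [
    (1, ![![1, 0, 0, 0, 0, 0, 0],
        ![0, 0, 0, 1, 0, 0, 0],
        ![0, 1, 1, 1, 0, 0, 0],
        ![0, 0, 0, 0, 1, 0, 0],
        ![0, 0, 0, 0, 0, 1, 0],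
        ![0, -1, 0, -1, -1, -1, 0],
        ![0, 1, 0, 1, 1, 1, 1]]),
    (3, ![![1, 0, 0, 0, 0, 0, 0],
        ![0, 1, 0, 1, 0, 0, 0],
        ![0, 0, 1, 1, 0, 0, 0],
        ![0, 0, 0, 0, 1, 0, 0],
        ![0, 0, 0, 0, 0, 1, 0],
        ![0, 0, 0, -1, -1, -1, 0],
        ![0, 0, 0, 1, 1, 1, 1]]),
    (4, ![![1, 0, 0, 0, 0, 0, 0],
        ![0, 1, 0, 0, 0, 0, 0],
        ![0, 0, 1, 0, 0, 0, 0],
        ![0, 0, 0, 1, 1, 0, 0],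
        ![0, 0, 0, 0, 0, 1, 0],
        ![0, 0, 0, 0, -1, -1, 0],
        ![0, 0, 0, 0, 1, 1, 1]]),
    (5, ![![1, 0, 0, 0, 0, 0, 0],
        ![0, 1, 0, 0, 0, 0, 0],
        ![0, 0, 1, 0, 0, 0, 0],
        ![0, 0, 0, 1, 0, 0, 0],
        ![0, 0, 0, 0, 1, 1, 0],
        ![0, 0, 0, 0, 0, -1, 0],
        ![0, 0, 0, 0, 0, 1, 1]])]

/-- the eigenvector -/
def V5 : Fin (3 + 1) → Fin 7 → ℤ := ![![0, 1, 0, 0, 1, 0, 0],
      ![0, 0, 0, 0, 0, -1, 0],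
      ![0, 1, 0, 0, 0, 0, 0],
      ![0, 0, 0, -1, 0, -1, 0]]

/-- the functional -/
def U5 : Fin 7 → ℤ := ![0, 0, 0, 0, 1, 0, 0]

theorem row5 : RowOK Am L5 (vec chevE7 7 125) c5 V5 U5 := by
  rw [vec_hi]
  decide +kernel

/-- the partial products -/
def L6 : List (Fin 7 × Mat 7) := [
    (1, ![![1, 0, 1, 0, 0, 0, 0],
        ![0, 0, 1, 1, 0, 0, 0],
        ![0, 1, 0, 1, 0, 0, 0],
        ![0, 0, 0, 0, 1, 0, 0],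
        ![0, -1, -1, -1, -1, 0, 0],
        ![0, 1, 1, 1, 1, 1, 0],
        ![0, 0, 0, 0, 0, 0, 1]]),
    (2, ![![1, 0, 1, 0, 0, 0, 0],
        ![0, 1, 1, 1, 0, 0, 0],
        ![0, 0, 0, 1, 0, 0, 0],
        ![0, 0, 0, 0, 1, 0, 0],
        ![0, 0, -1, -1, -1, 0, 0],
        ![0, 0, 1, 1, 1, 1, 0],
        ![0, 0, 0, 0, 0, 0, 1]]),
    (3, ![![1, 0, 0, 0, 0, 0, 0],
        ![0, 1, 0, 1, 0, 0, 0],
        ![0, 0, 1, 1, 0, 0, 0],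
        ![0, 0, 0, 0, 1, 0, 0],
        ![0, 0, 0, -1, -1, 0, 0],
        ![0, 0, 0, 1, 1, 1, 0],
        ![0, 0, 0, 0, 0, 0, 1]]),
    (4, ![![1, 0, 0, 0, 0, 0, 0],
        ![0, 1, 0, 0, 0, 0, 0],
        ![0, 0, 1, 0, 0, 0, 0],
        ![0, 0, 0, 1, 1, 0, 0],
        ![0, 0, 0, 0, -1, 0, 0],
        ![0, 0, 0, 0, 1, 1, 0],
        ![0, 0, 0, 0, 0, 0, 1]])]

/-- the eigenvector -/
def V6 : Fin (1 + 1) → Fin 7 → ℤ := ![![0, 0, 0, 1, 1, 0, 0],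
      ![0, 1, 1, 1, 0, 0, 0]]

/-- the functional -/
def U6 : Fin 7 → ℤ := ![0, -1, 0, 1, 0, 0, 0]

theorem row6 : RowOK Am L6 (vec chevE7 7 125) c6 V6 U6 := by
  rw [vec_hi]
  decide +kernel

/-- the partial products -/
def L8 : List (Fin 7 × Mat 7) := [
    (1, ![![1, 0, 1, 0, 0, 0, 0],
        ![0, 0, 1, 1, 0, 0, 0],
        ![0, 1, 0, 1, 0, 0, 0],
        ![0, 0, 0, 0, 1, 0, 0],
        ![0, 0, 0, 0, 0, 1, 0],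
        ![0, -1, -1, -1, -1, -1, 0],
        ![0, 1, 1, 1, 1, 1, 1]]),
    (2, ![![1, 0, 1, 0, 0, 0, 0],
        ![0, 1, 1, 1, 0, 0, 0],
        ![0, 0, 0, 1, 0, 0, 0],
        ![0, 0, 0, 0, 1, 0, 0],
        ![0, 0, 0, 0, 0, 1, 0],
        ![0, 0, -1, -1, -1, -1, 0],
        ![0, 0, 1, 1, 1, 1, 1]]),
    (3, ![![1, 0, 0, 0, 0, 0, 0],
        ![0, 1, 0, 1, 0, 0, 0],
        ![0, 0, 1, 1, 0, 0, 0],
        ![0, 0, 0, 0, 1, 0, 0],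
        ![0, 0, 0, 0, 0, 1, 0],
        ![0, 0, 0, -1, -1, -1, 0],
        ![0, 0, 0, 1, 1, 1, 1]]),
    (4, ![![1, 0, 0, 0, 0, 0, 0],
        ![0, 1, 0, 0, 0, 0, 0],
        ![0, 0, 1, 0, 0, 0, 0],
        ![0, 0, 0, 1, 1, 0, 0],
        ![0, 0, 0, 0, 0, 1, 0],
        ![0, 0, 0, 0, -1, -1, 0],
        ![0, 0, 0, 0, 1, 1, 1]]),
    (5, ![![1, 0, 0, 0, 0, 0, 0],
        ![0, 1, 0, 0, 0, 0, 0],
        ![0, 0, 1, 0, 0, 0, 0],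
        ![0, 0, 0, 1, 0, 0, 0],
        ![0, 0, 0, 0, 1, 1, 0],
        ![0, 0, 0, 0, 0, -1, 0],
        ![0, 0, 0, 0, 0, 1, 1]])]

/-- the eigenvector -/
def V8 : Fin (3 + 1) → Fin 7 → ℤ := ![![0, -1, -1, -1, -1, -1, 0],
      ![0, 0, 0, 0, 0, 1, 0],
      ![0, 0, 0, 0, 1, 0, 0],
      ![0, 0, 0, 1, 0, 0, 0]]

/-- the functional -/
def U8 : Fin 7 → ℤ := ![0, -1, 0, 0, 0, 0, 0]

theorem row8 : RowOK Am L8 (vec chevE7 7 125) c8 V8 U8 := by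
  rw [vec_hi]
  decide +kernel

/-- the partial products -/
def L10 : List (Fin 7 × Mat 7) := [
    (1, ![![1, 0, 1, 0, 0, 0, 0],
        ![0, 0, 1, 1, 0, 0, 0],
        ![0, 1, 0, 1, 0, 0, 0],
        ![0, 0, 0, 0, 1, 0, 0],
        ![0, 0, 0, 0, 0, 1, 0],
        ![0, 0, 0, 0, 0, 0, 1],
        ![0, -1, -1, -1, -1, -1, -1]]),
    (2, ![![1, 0, 1, 0, 0, 0, 0],
        ![0, 1, 1, 1, 0, 0, 0],
        ![0, 0, 0, 1, 0, 0, 0],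
        ![0, 0, 0, 0, 1, 0, 0],
        ![0, 0, 0, 0, 0, 1, 0],
        ![0, 0, 0, 0, 0, 0, 1],
        ![0, 0, -1, -1, -1, -1, -1]]),
    (3, ![![1, 0, 0, 0, 0, 0, 0],
        ![0, 1, 0, 1, 0, 0, 0],
        ![0, 0, 1, 1, 0, 0, 0],
        ![0, 0, 0, 0, 1, 0, 0],
        ![0, 0, 0, 0, 0, 1, 0],
        ![0, 0, 0, 0, 0, 0, 1],
        ![0, 0, 0, -1, -1, -1, -1]]),
    (4, ![![1, 0, 0, 0, 0, 0, 0],
        ![0, 1, 0, 0, 0, 0, 0],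
        ![0, 0, 1, 0, 0, 0, 0],
        ![0, 0, 0, 1, 1, 0, 0],
        ![0, 0, 0, 0, 0, 1, 0],
        ![0, 0, 0, 0, 0, 0, 1],
        ![0, 0, 0, 0, -1, -1, -1]]),
    (5, ![![1, 0, 0, 0, 0, 0, 0],
        ![0, 1, 0, 0, 0, 0, 0],
        ![0, 0, 1, 0, 0, 0, 0],
        ![0, 0, 0, 1, 0, 0, 0],
        ![0, 0, 0, 0, 1, 1, 0],
        ![0, 0, 0, 0, 0, 0, 1],
        ![0, 0, 0, 0, 0, -1, -1]]),
    (6, ![![1, 0, 0, 0, 0, 0, 0],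
        ![0, 1, 0, 0, 0, 0, 0],
        ![0, 0, 1, 0, 0, 0, 0],
        ![0, 0, 0, 1, 0, 0, 0],
        ![0, 0, 0, 0, 1, 0, 0],
        ![0, 0, 0, 0, 0, 1, 1],
        ![0, 0, 0, 0, 0, 0, -1]])]

/-- the eigenvector -/
def V10 : Fin (3 + 1) → Fin 7 → ℤ := ![![0, 0, 0, 0, 0, -1, -1],
      ![0, 0, 0, 0, -1, 0, 1],
      ![0, 0, 0, -1, 0, 0, -1],
      ![0, -1, -1, -1, -1, -1, 0]]

/-- the functional -/
def U10 : Fin 7 → ℤ := ![0, 0, 1, 0, 0, -1, 0]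

theorem row10 : RowOK Am L10 (vec chevE7 7 125) c10 V10 U10 := by
  rw [vec_hi]
  decide +kernel

/-- the partial products -/
def T12 : List (Fin 7 × Mat 7) := [
    (5, ![![0, 0, 1, 0, 0, 0, 0],
        ![-1, -1, -1, -1, 0, 0, 0],
        ![0, 0, 0, 1, 0, 0, 0],
        ![1, 1, 1, 1, 1, 1, 0],
        ![-1, 0, -1, -1, -1, -1, 0],
        ![1, 0, 1, 1, 1, 0, 0],
        ![0, 0, 0, 0, 0, 1, 1]]),
    (0, ![![0, 0, 1, 0, 0, 0, 0],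
        ![-1, -1, -1, -1, 0, 0, 0],
        ![0, 0, 0, 1, 0, 0, 0],
        ![1, 1, 1, 1, 1, 0, 0],
        ![-1, 0, -1, -1, -1, 0, 0],
        ![1, 0, 1, 1, 1, 1, 0],
        ![0, 0, 0, 0, 0, 0, 1]]),
    (2, ![![1, 0, 1, 0, 0, 0, 0],
        ![0, -1, -1, -1, 0, 0, 0],
        ![0, 0, 0, 1, 0, 0, 0],
        ![0, 1, 1, 1, 1, 0, 0],
        ![0, 0, -1, -1, -1, 0, 0],
        ![0, 0, 1, 1, 1, 1, 0],
        ![0, 0, 0, 0, 0, 0, 1]]),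
    (3, ![![1, 0, 0, 0, 0, 0, 0],
        ![0, -1, 0, -1, 0, 0, 0],
        ![0, 0, 1, 1, 0, 0, 0],
        ![0, 1, 0, 1, 1, 0, 0],
        ![0, 0, 0, -1, -1, 0, 0],
        ![0, 0, 0, 1, 1, 1, 0],
        ![0, 0, 0, 0, 0, 0, 1]]),
    (4, ![![1, 0, 0, 0, 0, 0, 0],
        ![0, -1, 0, 0, 0, 0, 0],
        ![0, 0, 1, 0, 0, 0, 0],
        ![0, 1, 0, 1, 1, 0, 0],
        ![0, 0, 0, 0, -1, 0, 0],
        ![0, 0, 0, 0, 1, 1, 0],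
        ![0, 0, 0, 0, 0, 0, 1]]),
    (1, ![![1, 0, 0, 0, 0, 0, 0],
        ![0, -1, 0, 0, 0, 0, 0],
        ![0, 0, 1, 0, 0, 0, 0],
        ![0, 1, 0, 1, 0, 0, 0],
        ![0, 0, 0, 0, 1, 0, 0],
        ![0, 0, 0, 0, 0, 1, 0],
        ![0, 0, 0, 0, 0, 0, 1]])]

theorem chain12 : ChainOK Am T12 := by decide +kernel

/-- the eigenvector -/
def V12_12 : Fin (3 + 1) → Fin 7 → ℤ := ![![0, -1, 0, 0, 0, 0, 0],
      ![0, 0, 0, -1, -1, 0, 0],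
      ![0, 0, -1, -1, -1, -1, 0],
      ![-1, -1, -1, -1, 0, 0, 0]]

/-- the functional -/
def U12_12 : Fin 7 → ℤ := ![1, -1, 0, 0, 0, 0, 0]

theorem tor12_12 : EigOK (hd T12) c12 V12_12 U12_12 := by decide +kernel

/-- the eigenvector -/
def V12_3 : Fin (1 + 1) → Fin 7 → ℤ := ![![1, 0, 0, 0, 1, 1, 0],
      ![0, 0, -1, 0, 0, 1, 0]]

/-- the functional -/
def U12_3 : Fin 7 → ℤ := ![1, 0, 0, 0, 0, 0, 0]

theorem tor12_3 : EigOK (hd T12) c3 V12_3 U12_3 := by decide +kernel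

/-- the eigenvector -/
def V12_1 : Fin (0 + 1) → Fin 7 → ℤ := ![![2, 3, 4, 6, 5, 4, 3]]

/-- the functional -/
def U12_1 : Fin 7 → ℤ := ![-1, 1, 0, 0, 0, 0, 0]

theorem tor12_1 : EigOK (hd T12) c1 V12_1 U12_1 := by decide +kernel

/-- the partial products -/
def T7 : List (Fin 7 × Mat 7) := [
    (6, ![![-1, 0, -1, 0, 0, 0, 0],
        ![0, 1, 1, 1, 1, 0, 0],
        ![1, 0, 1, 1, 1, 0, 0],
        ![0, 0, -1, -1, -1, 0, 0],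
        ![0, 0, 1, 1, 1, 1, 1],
        ![0, 0, 0, 0, -1, -1, -1],
        ![0, 0, 0, 0, 1, 1, 0]]),
    (4, ![![-1, 0, -1, 0, 0, 0, 0],
        ![0, 1, 1, 1, 1, 0, 0],
        ![1, 0, 1, 1, 1, 0, 0],
        ![0, 0, -1, -1, -1, 0, 0],
        ![0, 0, 1, 1, 1, 1, 0],
        ![0, 0, 0, 0, -1, -1, 0],
        ![0, 0, 0, 0, 1, 1, 1]]),
    (5, ![![-1, 0, -1, 0, 0, 0, 0],
        ![0, 1, 1, 1, 0, 0, 0],
        ![1, 0, 1, 1, 0, 0, 0],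
        ![0, 0, -1, -1, 0, 0, 0],
        ![0, 0, 1, 1, 1, 1, 0],
        ![0, 0, 0, 0, 0, -1, 0],
        ![0, 0, 0, 0, 0, 1, 1]]),
    (2, ![![-1, 0, -1, 0, 0, 0, 0],
        ![0, 1, 1, 1, 0, 0, 0],
        ![1, 0, 1, 1, 0, 0, 0],
        ![0, 0, -1, -1, 0, 0, 0],
        ![0, 0, 1, 1, 1, 0, 0],
        ![0, 0, 0, 0, 0, 1, 0],
        ![0, 0, 0, 0, 0, 0, 1]]),
    (3, ![![-1, 0, 0, 0, 0, 0, 0],
        ![0, 1, 0, 1, 0, 0, 0],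
        ![1, 0, 1, 1, 0, 0, 0],
        ![0, 0, 0, -1, 0, 0, 0],
        ![0, 0, 0, 1, 1, 0, 0],
        ![0, 0, 0, 0, 0, 1, 0],
        ![0, 0, 0, 0, 0, 0, 1]]),
    (0, ![![-1, 0, 0, 0, 0, 0, 0],
        ![0, 1, 0, 0, 0, 0, 0],
        ![1, 0, 1, 0, 0, 0, 0],
        ![0, 0, 0, 1, 0, 0, 0],
        ![0, 0, 0, 0, 1, 0, 0],
        ![0, 0, 0, 0, 0, 1, 0],
        ![0, 0, 0, 0, 0, 0, 1]])]

theorem chain7 : ChainOK Am T7 := by decide +kernel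

/-- the eigenvector -/
def V7_7 : Fin (5 + 1) → Fin 7 → ℤ := ![![0, 0, 1, 0, -1, 0, 0],
      ![-1, 0, 0, 0, 0, 1, 0],
      ![0, 0, 0, 0, 0, 1, 1],
      ![0, 0, 1, 1, 0, 0, 0],
      ![0, 0, 1, 0, 0, 1, 0],
      ![-1, 0, 0, 0, 0, 1, 1]]

/-- the functional -/
def U7_7 : Fin 7 → ℤ := ![0, 0, 0, 0, -1, 0, 0]

theorem tor7_7 : EigOK (hd T7) c7 V7_7 U7_7 := by decide +kernel

/-- the eigenvector -/
def V7_1 : Fin (0 + 1) → Fin 7 → ℤ := ![![4, 7, 8, 12, 9, 6, 3]]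

/-- the functional -/
def U7_1 : Fin 7 → ℤ := ![1, 0, 0, 0, 0, 0, -1]

theorem tor7_1 : EigOK (hd T7) c1 V7_1 U7_1 := by decide +kernel

/-- the partial products -/
def T9 : List (Fin 7 × Mat 7) := [
    (3, ![![0, 0, 1, 1, 0, 0, 0],
        ![-1, 0, -1, 0, 0, 0, 0],
        ![0, 1, 0, 0, 0, 0, 0],
        ![1, 0, 1, 1, 1, 0, 0],
        ![0, 0, 0, 0, 0, 1, 0],
        ![-1, -1, -1, -2, -1, -1, 0],
        ![1, 1, 1, 2, 1, 1, 1]]),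
    (0, ![![0, 0, 1, 0, 0, 0, 0],
        ![-1, 0, -1, -1, 0, 0, 0],
        ![0, 1, 0, 1, 0, 0, 0],
        ![1, 0, 1, 1, 1, 0, 0],
        ![0, 0, 0, 0, 0, 1, 0],
        ![-1, -1, -1, -1, -1, -1, 0],
        ![1, 1, 1, 1, 1, 1, 1]]),
    (2, ![![1, 0, 1, 0, 0, 0, 0],
        ![0, 0, -1, -1, 0, 0, 0],
        ![0, 1, 0, 1, 0, 0, 0],
        ![0, 0, 1, 1, 1, 0, 0],
        ![0, 0, 0, 0, 0, 1, 0],
        ![0, -1, -1, -1, -1, -1, 0],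
        ![0, 1, 1, 1, 1, 1, 1]]),
    (1, ![![1, 0, 0, 0, 0, 0, 0],
        ![0, 0, 0, -1, 0, 0, 0],
        ![0, 1, 1, 1, 0, 0, 0],
        ![0, 0, 0, 1, 1, 0, 0],
        ![0, 0, 0, 0, 0, 1, 0],
        ![0, -1, 0, -1, -1, -1, 0],
        ![0, 1, 0, 1, 1, 1, 1]]),
    (3, ![![1, 0, 0, 0, 0, 0, 0],
        ![0, -1, 0, -1, 0, 0, 0],
        ![0, 0, 1, 1, 0, 0, 0],
        ![0, 1, 0, 1, 1, 0, 0],
        ![0, 0, 0, 0, 0, 1, 0],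
        ![0, 0, 0, -1, -1, -1, 0],
        ![0, 0, 0, 1, 1, 1, 1]]),
    (4, ![![1, 0, 0, 0, 0, 0, 0],
        ![0, -1, 0, 0, 0, 0, 0],
        ![0, 0, 1, 0, 0, 0, 0],
        ![0, 1, 0, 1, 1, 0, 0],
        ![0, 0, 0, 0, 0, 1, 0],
        ![0, 0, 0, 0, -1, -1, 0],
        ![0, 0, 0, 0, 1, 1, 1]]),
    (5, ![![1, 0, 0, 0, 0, 0, 0],
        ![0, -1, 0, 0, 0, 0, 0],
        ![0, 0, 1, 0, 0, 0, 0],
        ![0, 1, 0, 1, 0, 0, 0],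
        ![0, 0, 0, 0, 1, 1, 0],
        ![0, 0, 0, 0, 0, -1, 0],
        ![0, 0, 0, 0, 0, 1, 1]]),
    (1, ![![1, 0, 0, 0, 0, 0, 0],
        ![0, -1, 0, 0, 0, 0, 0],
        ![0, 0, 1, 0, 0, 0, 0],
        ![0, 1, 0, 1, 0, 0, 0],
        ![0, 0, 0, 0, 1, 0, 0],
        ![0, 0, 0, 0, 0, 1, 0],
        ![0, 0, 0, 0, 0, 0, 1]])]

theorem chain9 : ChainOK Am T9 := by decide +kernel

/-- the eigenvector -/
def V9_9 : Fin (5 + 1) → Fin 7 → ℤ := ![![-1, 0, -1, -1, -1, -1, 0],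
      ![0, 0, 0, -1, -1, 0, 0],
      ![0, -1, 0, -1, 0, 0, 0],
      ![-1, 0, -1, 0, 0, 0, 0],
      ![0, 1, 0, 0, 0, 0, 0],
      ![0, 0, 1, 0, 0, 0, 0]]

/-- the functional -/
def U9_9 : Fin 7 → ℤ := ![0, 0, 0, 0, 0, -1, 0]

theorem tor9_9 : EigOK (hd T9) c9 V9_9 U9_9 := by decide +kernel

/-- the eigenvector -/
def V9_1 : Fin (0 + 1) → Fin 7 → ℤ := ![![2, 3, 4, 6, 5, 4, 3]]

/-- the functional -/
def U9_1 : Fin 7 → ℤ := ![-1, 1, 0, 0, 0, 0, 0]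

theorem tor9_1 : EigOK (hd T9) c1 V9_1 U9_1 := by decide +kernel

/-- the partial products -/
def T14 : List (Fin 7 × Mat 7) := [
    (6, ![![0, 0, 1, 1, 0, 0, 0],
        ![-1, -1, -1, -2, -1, 0, 0],
        ![0, 0, 0, 0, 1, 0, 0],
        ![1, 1, 1, 2, 1, 1, 1],
        ![-1, 0, -1, -1, -1, -1, -1],
        ![1, 0, 1, 0, 0, 0, 0],
        ![0, 0, 0, 1, 1, 1, 0]]),
    (3, ![![0, 0, 1, 1, 0, 0, 0],
        ![-1, -1, -1, -2, -1, 0, 0],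
        ![0, 0, 0, 0, 1, 0, 0],
        ![1, 1, 1, 2, 1, 1, 0],
        ![-1, 0, -1, -1, -1, -1, 0],
        ![1, 0, 1, 0, 0, 0, 0],
        ![0, 0, 0, 1, 1, 1, 1]]),
    (4, ![![0, 0, 1, 0, 0, 0, 0],
        ![-1, -1, -1, -1, -1, 0, 0],
        ![0, 0, 0, 1, 1, 0, 0],
        ![1, 1, 1, 1, 1, 1, 0],
        ![-1, 0, -1, -1, -1, -1, 0],
        ![1, 0, 1, 1, 0, 0, 0],
        ![0, 0, 0, 0, 1, 1, 1]]),
    (5, ![![0, 0, 1, 0, 0, 0, 0],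
        ![-1, -1, -1, -1, 0, 0, 0],
        ![0, 0, 0, 1, 0, 0, 0],
        ![1, 1, 1, 1, 1, 1, 0],
        ![-1, 0, -1, -1, -1, -1, 0],
        ![1, 0, 1, 1, 1, 0, 0],
        ![0, 0, 0, 0, 0, 1, 1]]),
    (0, ![![0, 0, 1, 0, 0, 0, 0],
        ![-1, -1, -1, -1, 0, 0, 0],
        ![0, 0, 0, 1, 0, 0, 0],
        ![1, 1, 1, 1, 1, 0, 0],
        ![-1, 0, -1, -1, -1, 0, 0],
        ![1, 0, 1, 1, 1, 1, 0],
        ![0, 0, 0, 0, 0, 0, 1]]),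
    (2, ![![1, 0, 1, 0, 0, 0, 0],
        ![0, -1, -1, -1, 0, 0, 0],
        ![0, 0, 0, 1, 0, 0, 0],
        ![0, 1, 1, 1, 1, 0, 0],
        ![0, 0, -1, -1, -1, 0, 0],
        ![0, 0, 1, 1, 1, 1, 0],
        ![0, 0, 0, 0, 0, 0, 1]]),
    (3, ![![1, 0, 0, 0, 0, 0, 0],
        ![0, -1, 0, -1, 0, 0, 0],
        ![0, 0, 1, 1, 0, 0, 0],
        ![0, 1, 0, 1, 1, 0, 0],
        ![0, 0, 0, -1, -1, 0, 0],
        ![0, 0, 0, 1, 1, 1, 0],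
        ![0, 0, 0, 0, 0, 0, 1]]),
    (4, ![![1, 0, 0, 0, 0, 0, 0],
        ![0, -1, 0, 0, 0, 0, 0],
        ![0, 0, 1, 0, 0, 0, 0],
        ![0, 1, 0, 1, 1, 0, 0],
        ![0, 0, 0, 0, -1, 0, 0],
        ![0, 0, 0, 0, 1, 1, 0],
        ![0, 0, 0, 0, 0, 0, 1]]),
    (1, ![![1, 0, 0, 0, 0, 0, 0],
        ![0, -1, 0, 0, 0, 0, 0],
        ![0, 0, 1, 0, 0, 0, 0],
        ![0, 1, 0, 1, 0, 0, 0],
        ![0, 0, 0, 0, 1, 0, 0],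
        ![0, 0, 0, 0, 0, 1, 0],
        ![0, 0, 0, 0, 0, 0, 1]])]

theorem chain14 : ChainOK Am T14 := by decide +kernel

/-- the eigenvector -/
def V14_14 : Fin (5 + 1) → Fin 7 → ℤ := ![![0, -1, 0, -1, -1, -1, 0],
      ![0, 0, -1, -1, -1, 0, -1],
      ![-1, -1, -1, -1, 0, 0, 1],
      ![0, 1, 0, 0, -1, -1, -1],
      ![0, -1, 0, 0, 1, 0, 0],
      ![0, 0, 0, -1, -1, 0, 0]]

/-- the functional -/
def U14_14 : Fin 7 → ℤ := ![0, -1, 0, 1, -1, 0, 0]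

theorem tor14_14 : EigOK (hd T14) c14 V14_14 U14_14 := by decide +kernel

/-- the eigenvector -/
def V14_2 : Fin (0 + 1) → Fin 7 → ℤ := ![![2, 1, 0, 0, 1, 0, 1]]

/-- the functional -/
def U14_2 : Fin 7 → ℤ := ![0, 1, 0, 0, 0, 0, 0]

theorem tor14_2 : EigOK (hd T14) c2 V14_2 U14_2 := by decide +kernel

/-- the partial products -/
def T18 : List (Fin 7 × Mat 7) := [
    (6, ![![0, 1, 1, 1, 0, 0, 0],
        ![0, 0, 0, 1, 0, 0, 0],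
        ![-1, -1, -1, -1, 0, 0, 0],
        ![1, 1, 1, 1, 1, 1, 1],
        ![0, -1, 0, -1, -1, -1, -1],
        ![0, 1, 0, 1, 1, 0, 0],
        ![0, 0, 0, 0, 0, 1, 0]]),
    (5, ![![0, 1, 1, 1, 0, 0, 0],
        ![0, 0, 0, 1, 0, 0, 0],
        ![-1, -1, -1, -1, 0, 0, 0],
        ![1, 1, 1, 1, 1, 1, 0],
        ![0, -1, 0, -1, -1, -1, 0],
        ![0, 1, 0, 1, 1, 0, 0],
        ![0, 0, 0, 0, 0, 1, 1]]),
    (1, ![![0, 1, 1, 1, 0, 0, 0],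
        ![0, 0, 0, 1, 0, 0, 0],
        ![-1, -1, -1, -1, 0, 0, 0],
        ![1, 1, 1, 1, 1, 0, 0],
        ![0, -1, 0, -1, -1, 0, 0],
        ![0, 1, 0, 1, 1, 1, 0],
        ![0, 0, 0, 0, 0, 0, 1]]),
    (3, ![![0, 0, 1, 1, 0, 0, 0],
        ![0, 1, 0, 1, 0, 0, 0],
        ![-1, 0, -1, -1, 0, 0, 0],
        ![1, 0, 1, 1, 1, 0, 0],
        ![0, 0, 0, -1, -1, 0, 0],
        ![0, 0, 0, 1, 1, 1, 0],
        ![0, 0, 0, 0, 0, 0, 1]]),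
    (4, ![![0, 0, 1, 0, 0, 0, 0],
        ![0, 1, 0, 0, 0, 0, 0],
        ![-1, 0, -1, 0, 0, 0, 0],
        ![1, 0, 1, 1, 1, 0, 0],
        ![0, 0, 0, 0, -1, 0, 0],
        ![0, 0, 0, 0, 1, 1, 0],
        ![0, 0, 0, 0, 0, 0, 1]]),
    (0, ![![0, 0, 1, 0, 0, 0, 0],
        ![0, 1, 0, 0, 0, 0, 0],
        ![-1, 0, -1, 0, 0, 0, 0],
        ![1, 0, 1, 1, 0, 0, 0],
        ![0, 0, 0, 0, 1, 0, 0],
        ![0, 0, 0, 0, 0, 1, 0],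
        ![0, 0, 0, 0, 0, 0, 1]]),
    (2, ![![1, 0, 1, 0, 0, 0, 0],
        ![0, 1, 0, 0, 0, 0, 0],
        ![0, 0, -1, 0, 0, 0, 0],
        ![0, 0, 1, 1, 0, 0, 0],
        ![0, 0, 0, 0, 1, 0, 0],
        ![0, 0, 0, 0, 0, 1, 0],
        ![0, 0, 0, 0, 0, 0, 1]])]

theorem chain18 : ChainOK Am T18 := by decide +kernel

/-- the eigenvector -/
def V18_18 : Fin (5 + 1) → Fin 7 → ℤ := ![![1, 0, 1, 0, 0, 0, 0],
      ![0, 0, 0, 1, 1, 0, 0],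
      ![0, 1, 1, 1, 1, 1, 0],
      ![0, 0, 0, 1, 1, 1, 1],
      ![0, 1, 1, 1, 0, 0, 0],
      ![1, 0, 0, 0, 0, 0, 0]]

/-- the functional -/
def U18_18 : Fin 7 → ℤ := ![0, -1, 1, 0, 0, 0, 0]

theorem tor18_18 : EigOK (hd T18) c18 V18_18 U18_18 := by decide +kernel

/-- the eigenvector -/
def V18_2 : Fin (0 + 1) → Fin 7 → ℤ := ![![0, 1, 0, 0, 1, 0, 1]]

/-- the functional -/
def U18_2 : Fin 7 → ℤ := ![0, 1, 0, 0, 0, 0, 0]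

theorem tor18_2 : EigOK (hd T18) c2 V18_2 U18_2 := by decide +kernel

end Cfsg.Agent.H378.AdjE7
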