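import Cfsg.Agent.H378.CycTab

/-!
# Weyl group elements of type E8 (helper378)

`rowM` : a product of simple reflections fixing the highest root with the eigenvalue of order `M`;
`torM_m` : a product of simple reflections with the eigenvalues of order `M` and `m`.
-/

set_option autoImplicit false

namespace Cfsg.Agent.H378.AdjE8

open Cfsg.Agent.H129.WData Cfsg.Agent.H378.AdjTab Cfsg.Agent.H378.CycTab Cfsg.Agent.H493.PGTorus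
open Cfsg.Agent.ChevalleyStructure.CoxeterGeomTypes Cfsg.Agent.Nodes.RGDChev
open Cfsg.Lie Cfsg.Lie.ChevalleyDatum

/-- the Cartan matrix -/
def Am : Mat 8 := ![![2, 0, -1, 0, 0, 0, 0, 0],
      ![0, 2, 0, -1, 0, 0, 0, 0],
      ![-1, 0, 2, -1, 0, 0, 0, 0],
      ![0, -1, -1, 2, -1, 0, 0, 0],
      ![0, 0, 0, -1, 2, -1, 0, 0],
      ![0, 0, 0, 0, -1, 2, -1, 0],
      ![0, 0, 0, 0, 0, -1, 2, -1],
      ![0, 0, 0, 0, 0, 0, -1, 2]]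

theorem hA : ∀ i j, Am i j = cartanOf chevE8 8 i j := by decide +kernel

/-- the highest root -/
def hi : Fin 8 → ℤ := ![2, 3, 4, 6, 5, 4, 3, 2]

theorem lt_nroots : 239 < chevE8.nroots := by decide +kernel

theorem vec_hi : vec chevE8 8 239 = hi := by
  have h : ∀ i : Fin 8, vec chevE8 8 239 i = hi i := by
    unfold vec
    decide +kernel
  exact funext h

theorem orth : SmallTor.Orth chevE8 8 0 0 6 where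
  hr := by decide +kernel
  hs := by decide +kernel
  zero := by decide +kernel
  odd := by decide +kernel

/-- the partial products -/
def L2 : List (Fin 8 × Mat 8) := [
    (0, ![![-1, 0, 0, 0, 0, 0, 0, 0],
        ![0, 1, 0, 0, 0, 0, 0, 0],
        ![1, 0, 1, 0, 0, 0, 0, 0],
        ![0, 0, 0, 1, 0, 0, 0, 0],
        ![0, 0, 0, 0, 1, 0, 0, 0],
        ![0, 0, 0, 0, 0, 1, 0, 0],
        ![0, 0, 0, 0, 0, 0, 1, 0],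
        ![0, 0, 0, 0, 0, 0, 0, 1]])]

/-- the eigenvector -/
def V2 : Fin (0 + 1) → Fin 8 → ℤ := ![![1, 0, 0, 0, 0, 0, 0, 0]]

/-- the functional -/
def U2 : Fin 8 → ℤ := ![1, 0, 0, 0, 0, 0, 0, 0]

theorem row2 : RowOK Am L2 (vec chevE8 8 239) c2 V2 U2 := by
  rw [vec_hi]
  decide +kernel

/-- the partial products -/
def L3 : List (Fin 8 × Mat 8) := [
    (0, ![![0, 0, 1, 0, 0, 0, 0, 0],
        ![0, 1, 0, 0, 0, 0, 0, 0],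
        ![-1, 0, -1, 0, 0, 0, 0, 0],
        ![1, 0, 1, 1, 0, 0, 0, 0],
        ![0, 0, 0, 0, 1, 0, 0, 0],
        ![0, 0, 0, 0, 0, 1, 0, 0],
        ![0, 0, 0, 0, 0, 0, 1, 0],
        ![0, 0, 0, 0, 0, 0, 0, 1]]),
    (2, ![![1, 0, 1, 0, 0, 0, 0, 0],
        ![0, 1, 0, 0, 0, 0, 0, 0],
        ![0, 0, -1, 0, 0, 0, 0, 0],
        ![0, 0, 1, 1, 0, 0, 0, 0],
        ![0, 0, 0, 0, 1, 0, 0, 0],
        ![0, 0, 0, 0, 0, 1, 0, 0],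
        ![0, 0, 0, 0, 0, 0, 1, 0],
        ![0, 0, 0, 0, 0, 0, 0, 1]])]

/-- the eigenvector -/
def V3 : Fin (1 + 1) → Fin 8 → ℤ := ![![-1, 0, 0, 0, 0, 0, 0, 0],
      ![0, 0, 1, 0, 0, 0, 0, 0]]

/-- the functional -/
def U3 : Fin 8 → ℤ := ![-1, 0, 0, 0, 0, 0, 0, 0]

theorem row3 : RowOK Am L3 (vec chevE8 8 239) c3 V3 U3 := by
  rw [vec_hi]
  decide +kernel

/-- the partial products -/
def L4 : List (Fin 8 × Mat 8) := [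
    (0, ![![0, 0, 1, 0, 0, 0, 0, 0],
        ![1, 1, 1, 1, 0, 0, 0, 0],
        ![0, 0, 0, 1, 0, 0, 0, 0],
        ![-1, 0, -1, -1, 0, 0, 0, 0],
        ![1, 0, 1, 1, 1, 0, 0, 0],
        ![0, 0, 0, 0, 0, 1, 0, 0],
        ![0, 0, 0, 0, 0, 0, 1, 0],
        ![0, 0, 0, 0, 0, 0, 0, 1]]),
    (2, ![![1, 0, 1, 0, 0, 0, 0, 0],
        ![0, 1, 1, 1, 0, 0, 0, 0],
        ![0, 0, 0, 1, 0, 0, 0, 0],
        ![0, 0, -1, -1, 0, 0, 0, 0],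
        ![0, 0, 1, 1, 1, 0, 0, 0],
        ![0, 0, 0, 0, 0, 1, 0, 0],
        ![0, 0, 0, 0, 0, 0, 1, 0],
        ![0, 0, 0, 0, 0, 0, 0, 1]]),
    (3, ![![1, 0, 0, 0, 0, 0, 0, 0],
        ![0, 1, 0, 1, 0, 0, 0, 0],
        ![0, 0, 1, 1, 0, 0, 0, 0],
        ![0, 0, 0, -1, 0, 0, 0, 0],
        ![0, 0, 0, 1, 1, 0, 0, 0],
        ![0, 0, 0, 0, 0, 1, 0, 0],
        ![0, 0, 0, 0, 0, 0, 1, 0],
        ![0, 0, 0, 0, 0, 0, 0, 1]])]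

/-- the eigenvector -/
def V4 : Fin (1 + 1) → Fin 8 → ℤ := ![![1, 0, 1, 0, 0, 0, 0, 0],
      ![0, 0, -1, -1, 0, 0, 0, 0]]

/-- the functional -/
def U4 : Fin 8 → ℤ := ![1, 0, 0, 0, 0, 0, 0, 0]

theorem row4 : RowOK Am L4 (vec chevE8 8 239) c4 V4 U4 := by
  rw [vec_hi]
  decide +kernel

/-- the partial products -/
def L5 : List (Fin 8 × Mat 8) := [
    (0, ![![0, 0, 1, 0, 0, 0, 0, 0],
        ![1, 0, 1, 1, 0, 0, 0, 0],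
        ![0, 1, 0, 1, 0, 0, 0, 0],
        ![-1, -1, -1, -1, 0, 0, 0, 0],
        ![1, 1, 1, 1, 1, 0, 0, 0],
        ![0, 0, 0, 0, 0, 1, 0, 0],
        ![0, 0, 0, 0, 0, 0, 1, 0],
        ![0, 0, 0, 0, 0, 0, 0, 1]]),
    (1, ![![1, 0, 1, 0, 0, 0, 0, 0],
        ![0, 0, 1, 1, 0, 0, 0, 0],
        ![0, 1, 0, 1, 0, 0, 0, 0],
        ![0, -1, -1, -1, 0, 0, 0, 0],
        ![0, 1, 1, 1, 1, 0, 0, 0],
        ![0, 0, 0, 0, 0, 1, 0, 0],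
        ![0, 0, 0, 0, 0, 0, 1, 0],
        ![0, 0, 0, 0, 0, 0, 0, 1]]),
    (2, ![![1, 0, 1, 0, 0, 0, 0, 0],
        ![0, 1, 1, 1, 0, 0, 0, 0],
        ![0, 0, 0, 1, 0, 0, 0, 0],
        ![0, 0, -1, -1, 0, 0, 0, 0],
        ![0, 0, 1, 1, 1, 0, 0, 0],
        ![0, 0, 0, 0, 0, 1, 0, 0],
        ![0, 0, 0, 0, 0, 0, 1, 0],
        ![0, 0, 0, 0, 0, 0, 0, 1]]),
    (3, ![![1, 0, 0, 0, 0, 0, 0, 0],
        ![0, 1, 0, 1, 0, 0, 0, 0],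
        ![0, 0, 1, 1, 0, 0, 0, 0],
        ![0, 0, 0, -1, 0, 0, 0, 0],
        ![0, 0, 0, 1, 1, 0, 0, 0],
        ![0, 0, 0, 0, 0, 1, 0, 0],
        ![0, 0, 0, 0, 0, 0, 1, 0],
        ![0, 0, 0, 0, 0, 0, 0, 1]])]

/-- the eigenvector -/
def V5 : Fin (3 + 1) → Fin 8 → ℤ := ![![-1, 0, 0, 0, 0, 0, 0, 0],
      ![0, 0, 1, 1, 0, 0, 0, 0],
      ![0, 1, 1, 1, 0, 0, 0, 0],
      ![0, 0, 1, 0, 0, 0, 0, 0]]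

/-- the functional -/
def U5 : Fin 8 → ℤ := ![-1, 0, 0, 0, 0, 0, 0, 0]

theorem row5 : RowOK Am L5 (vec chevE8 8 239) c5 V5 U5 := by
  rw [vec_hi]
  decide +kernel

/-- the partial products -/
def L6 : List (Fin 8 × Mat 8) := [
    (1, ![![1, 0, 1, 0, 0, 0, 0, 0],
        ![0, 0, 1, 1, 0, 0, 0, 0],
        ![0, 1, 0, 1, 0, 0, 0, 0],
        ![0, 0, 0, 0, 1, 0, 0, 0],
        ![0, -1, -1, -1, -1, 0, 0, 0],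
        ![0, 1, 1, 1, 1, 1, 0, 0],
        ![0, 0, 0, 0, 0, 0, 1, 0],
        ![0, 0, 0, 0, 0, 0, 0, 1]]),
    (2, ![![1, 0, 1, 0, 0, 0, 0, 0],
        ![0, 1, 1, 1, 0, 0, 0, 0],
        ![0, 0, 0, 1, 0, 0, 0, 0],
        ![0, 0, 0, 0, 1, 0, 0, 0],
        ![0, 0, -1, -1, -1, 0, 0, 0],
        ![0, 0, 1, 1, 1, 1, 0, 0],
        ![0, 0, 0, 0, 0, 0, 1, 0],
        ![0, 0, 0, 0, 0, 0, 0, 1]]),
    (3, ![![1, 0, 0, 0, 0, 0, 0, 0],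
        ![0, 1, 0, 1, 0, 0, 0, 0],
        ![0, 0, 1, 1, 0, 0, 0, 0],
        ![0, 0, 0, 0, 1, 0, 0, 0],
        ![0, 0, 0, -1, -1, 0, 0, 0],
        ![0, 0, 0, 1, 1, 1, 0, 0],
        ![0, 0, 0, 0, 0, 0, 1, 0],
        ![0, 0, 0, 0, 0, 0, 0, 1]]),
    (4, ![![1, 0, 0, 0, 0, 0, 0, 0],
        ![0, 1, 0, 0, 0, 0, 0, 0],
        ![0, 0, 1, 0, 0, 0, 0, 0],
        ![0, 0, 0, 1, 1, 0, 0, 0],
        ![0, 0, 0, 0, -1, 0, 0, 0],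
        ![0, 0, 0, 0, 1, 1, 0, 0],
        ![0, 0, 0, 0, 0, 0, 1, 0],
        ![0, 0, 0, 0, 0, 0, 0, 1]])]

/-- the eigenvector -/
def V6 : Fin (1 + 1) → Fin 8 → ℤ := ![![0, 0, 0, 1, 1, 0, 0, 0],
      ![0, 1, 1, 1, 0, 0, 0, 0]]

/-- the functional -/
def U6 : Fin 8 → ℤ := ![0, -1, 0, 1, 0, 0, 0, 0]

theorem row6 : RowOK Am L6 (vec chevE8 8 239) c6 V6 U6 := by
  rw [vec_hi]
  decide +kernel

/-- the partial products -/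
def L7 : List (Fin 8 × Mat 8) := [
    (0, ![![0, 0, 1, 0, 0, 0, 0, 0],
        ![1, 1, 1, 1, 0, 0, 0, 0],
        ![0, 0, 0, 1, 0, 0, 0, 0],
        ![0, 0, 0, 0, 1, 0, 0, 0],
        ![0, 0, 0, 0, 0, 1, 0, 0],
        ![0, 0, 0, 0, 0, 0, 1, 0],
        ![-1, 0, -1, -1, -1, -1, -1, 0],
        ![1, 0, 1, 1, 1, 1, 1, 1]]),
    (2, ![![1, 0, 1, 0, 0, 0, 0, 0],
        ![0, 1, 1, 1, 0, 0, 0, 0],
        ![0, 0, 0, 1, 0, 0, 0, 0],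
        ![0, 0, 0, 0, 1, 0, 0, 0],
        ![0, 0, 0, 0, 0, 1, 0, 0],
        ![0, 0, 0, 0, 0, 0, 1, 0],
        ![0, 0, -1, -1, -1, -1, -1, 0],
        ![0, 0, 1, 1, 1, 1, 1, 1]]),
    (3, ![![1, 0, 0, 0, 0, 0, 0, 0],
        ![0, 1, 0, 1, 0, 0, 0, 0],
        ![0, 0, 1, 1, 0, 0, 0, 0],
        ![0, 0, 0, 0, 1, 0, 0, 0],
        ![0, 0, 0, 0, 0, 1, 0, 0],
        ![0, 0, 0, 0, 0, 0, 1, 0],
        ![0, 0, 0, -1, -1, -1, -1, 0],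
        ![0, 0, 0, 1, 1, 1, 1, 1]]),
    (4, ![![1, 0, 0, 0, 0, 0, 0, 0],
        ![0, 1, 0, 0, 0, 0, 0, 0],
        ![0, 0, 1, 0, 0, 0, 0, 0],
        ![0, 0, 0, 1, 1, 0, 0, 0],
        ![0, 0, 0, 0, 0, 1, 0, 0],
        ![0, 0, 0, 0, 0, 0, 1, 0],
        ![0, 0, 0, 0, -1, -1, -1, 0],
        ![0, 0, 0, 0, 1, 1, 1, 1]]),
    (5, ![![1, 0, 0, 0, 0, 0, 0, 0],
        ![0, 1, 0, 0, 0, 0, 0, 0],
        ![0, 0, 1, 0, 0, 0, 0, 0],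
        ![0, 0, 0, 1, 0, 0, 0, 0],
        ![0, 0, 0, 0, 1, 1, 0, 0],
        ![0, 0, 0, 0, 0, 0, 1, 0],
        ![0, 0, 0, 0, 0, -1, -1, 0],
        ![0, 0, 0, 0, 0, 1, 1, 1]]),
    (6, ![![1, 0, 0, 0, 0, 0, 0, 0],
        ![0, 1, 0, 0, 0, 0, 0, 0],
        ![0, 0, 1, 0, 0, 0, 0, 0],
        ![0, 0, 0, 1, 0, 0, 0, 0],
        ![0, 0, 0, 0, 1, 0, 0, 0],
        ![0, 0, 0, 0, 0, 1, 1, 0],
        ![0, 0, 0, 0, 0, 0, -1, 0],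
        ![0, 0, 0, 0, 0, 0, 1, 1]])]

/-- the eigenvector -/
def V7 : Fin (5 + 1) → Fin 8 → ℤ := ![![1, 0, 0, 1, 0, 1, 0, 0],
      ![0, 0, 0, 0, 0, 0, -1, 0],
      ![1, 0, 0, 1, 0, 0, 0, 0],
      ![0, 0, 0, 0, -1, 0, -1, 0],
      ![1, 0, 0, 0, 0, 0, 0, 0],
      ![0, 0, -1, 0, -1, 0, -1, 0]]

/-- the functional -/
def U7 : Fin 8 → ℤ := ![0, 0, 0, 0, 0, 1, 0, 0]

theorem row7 : RowOK Am L7 (vec chevE8 8 239) c7 V7 U7 := by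
  rw [vec_hi]
  decide +kernel

/-- the partial products -/
def L8 : List (Fin 8 × Mat 8) := [
    (0, ![![0, 0, 1, 0, 0, 0, 0, 0],
        ![1, 0, 1, 1, 0, 0, 0, 0],
        ![0, 1, 0, 1, 0, 0, 0, 0],
        ![0, 0, 0, 0, 1, 0, 0, 0],
        ![-1, -1, -1, -1, -1, 0, 0, 0],
        ![1, 1, 1, 1, 1, 1, 0, 0],
        ![0, 0, 0, 0, 0, 0, 1, 0],
        ![0, 0, 0, 0, 0, 0, 0, 1]]),
    (1, ![![1, 0, 1, 0, 0, 0, 0, 0],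
        ![0, 0, 1, 1, 0, 0, 0, 0],
        ![0, 1, 0, 1, 0, 0, 0, 0],
        ![0, 0, 0, 0, 1, 0, 0, 0],
        ![0, -1, -1, -1, -1, 0, 0, 0],
        ![0, 1, 1, 1, 1, 1, 0, 0],
        ![0, 0, 0, 0, 0, 0, 1, 0],
        ![0, 0, 0, 0, 0, 0, 0, 1]]),
    (2, ![![1, 0, 1, 0, 0, 0, 0, 0],
        ![0, 1, 1, 1, 0, 0, 0, 0],
        ![0, 0, 0, 1, 0, 0, 0, 0],
        ![0, 0, 0, 0, 1, 0, 0, 0],
        ![0, 0, -1, -1, -1, 0, 0, 0],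
        ![0, 0, 1, 1, 1, 1, 0, 0],
        ![0, 0, 0, 0, 0, 0, 1, 0],
        ![0, 0, 0, 0, 0, 0, 0, 1]]),
    (3, ![![1, 0, 0, 0, 0, 0, 0, 0],
        ![0, 1, 0, 1, 0, 0, 0, 0],
        ![0, 0, 1, 1, 0, 0, 0, 0],
        ![0, 0, 0, 0, 1, 0, 0, 0],
        ![0, 0, 0, -1, -1, 0, 0, 0],
        ![0, 0, 0, 1, 1, 1, 0, 0],
        ![0, 0, 0, 0, 0, 0, 1, 0],
        ![0, 0, 0, 0, 0, 0, 0, 1]]),
    (4, ![![1, 0, 0, 0, 0, 0, 0, 0],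
        ![0, 1, 0, 0, 0, 0, 0, 0],
        ![0, 0, 1, 0, 0, 0, 0, 0],
        ![0, 0, 0, 1, 1, 0, 0, 0],
        ![0, 0, 0, 0, -1, 0, 0, 0],
        ![0, 0, 0, 0, 1, 1, 0, 0],
        ![0, 0, 0, 0, 0, 0, 1, 0],
        ![0, 0, 0, 0, 0, 0, 0, 1]])]

/-- the eigenvector -/
def V8 : Fin (3 + 1) → Fin 8 → ℤ := ![![0, 1, 0, 1, 0, 0, 0, 0],
      ![0, 0, 1, 0, 0, 0, 0, 0],
      ![1, 0, 0, 0, 0, 0, 0, 0],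
      ![-1, 0, -1, -1, -1, 0, 0, 0]]

/-- the functional -/
def U8 : Fin 8 → ℤ := ![0, 1, 0, 0, 0, 0, 0, 0]

theorem row8 : RowOK Am L8 (vec chevE8 8 239) c8 V8 U8 := by
  rw [vec_hi]
  decide +kernel

/-- the partial products -/
def L9 : List (Fin 8 × Mat 8) := [
    (2, ![![0, 0, 0, 1, 1, 0, 0, 0],
        ![1, 0, 0, 0, 0, 0, 0, 0],
        ![0, 1, 0, 0, 0, 0, 0, 0],
        ![-1, -1, -1, -1, -1, 0, 0, 0],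
        ![1, 1, 2, 2, 2, 1, 0, 0],
        ![0, 0, 0, 0, -1, -1, 0, 0],
        ![0, 0, 0, 0, 1, 1, 1, 0],
        ![0, 0, 0, 0, 0, 0, 0, 1]]),
    (0, ![![0, 0, 1, 1, 1, 0, 0, 0],
        ![1, 0, 1, 0, 0, 0, 0, 0],
        ![0, 1, 0, 0, 0, 0, 0, 0],
        ![-1, -1, -1, -1, -1, 0, 0, 0],
        ![1, 1, 1, 2, 2, 1, 0, 0],
        ![0, 0, 0, 0, -1, -1, 0, 0],
        ![0, 0, 0, 0, 1, 1, 1, 0],
        ![0, 0, 0, 0, 0, 0, 0, 1]]),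
    (4, ![![1, 0, 1, 1, 1, 0, 0, 0],
        ![0, 0, 1, 0, 0, 0, 0, 0],
        ![0, 1, 0, 0, 0, 0, 0, 0],
        ![0, -1, -1, -1, -1, 0, 0, 0],
        ![0, 1, 1, 2, 2, 1, 0, 0],
        ![0, 0, 0, 0, -1, -1, 0, 0],
        ![0, 0, 0, 0, 1, 1, 1, 0],
        ![0, 0, 0, 0, 0, 0, 0, 1]]),
    (5, ![![1, 0, 1, 1, 0, 0, 0, 0],
        ![0, 0, 1, 0, 0, 0, 0, 0],
        ![0, 1, 0, 0, 0, 0, 0, 0],
        ![0, -1, -1, -1, 0, 0, 0, 0],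
        ![0, 1, 1, 2, 1, 1, 0, 0],
        ![0, 0, 0, 0, 0, -1, 0, 0],
        ![0, 0, 0, 0, 0, 1, 1, 0],
        ![0, 0, 0, 0, 0, 0, 0, 1]]),
    (3, ![![1, 0, 1, 1, 0, 0, 0, 0],
        ![0, 0, 1, 0, 0, 0, 0, 0],
        ![0, 1, 0, 0, 0, 0, 0, 0],
        ![0, -1, -1, -1, 0, 0, 0, 0],
        ![0, 1, 1, 2, 1, 0, 0, 0],
        ![0, 0, 0, 0, 0, 1, 0, 0],
        ![0, 0, 0, 0, 0, 0, 1, 0],
        ![0, 0, 0, 0, 0, 0, 0, 1]]),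
    (1, ![![1, 0, 1, 0, 0, 0, 0, 0],
        ![0, 0, 1, 1, 0, 0, 0, 0],
        ![0, 1, 0, 1, 0, 0, 0, 0],
        ![0, -1, -1, -1, 0, 0, 0, 0],
        ![0, 1, 1, 1, 1, 0, 0, 0],
        ![0, 0, 0, 0, 0, 1, 0, 0],
        ![0, 0, 0, 0, 0, 0, 1, 0],
        ![0, 0, 0, 0, 0, 0, 0, 1]]),
    (2, ![![1, 0, 1, 0, 0, 0, 0, 0],
        ![0, 1, 1, 1, 0, 0, 0, 0],
        ![0, 0, 0, 1, 0, 0, 0, 0],
        ![0, 0, -1, -1, 0, 0, 0, 0],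
        ![0, 0, 1, 1, 1, 0, 0, 0],
        ![0, 0, 0, 0, 0, 1, 0, 0],
        ![0, 0, 0, 0, 0, 0, 1, 0],
        ![0, 0, 0, 0, 0, 0, 0, 1]]),
    (3, ![![1, 0, 0, 0, 0, 0, 0, 0],
        ![0, 1, 0, 1, 0, 0, 0, 0],
        ![0, 0, 1, 1, 0, 0, 0, 0],
        ![0, 0, 0, -1, 0, 0, 0, 0],
        ![0, 0, 0, 1, 1, 0, 0, 0],
        ![0, 0, 0, 0, 0, 1, 0, 0],
        ![0, 0, 0, 0, 0, 0, 1, 0],
        ![0, 0, 0, 0, 0, 0, 0, 1]])]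

/-- the eigenvector -/
def V9 : Fin (5 + 1) → Fin 8 → ℤ := ![![1, 0, 0, 0, 0, 0, 0, 0],
      ![0, 1, 0, 0, 0, 0, 0, 0],
      ![0, 0, 1, 0, 0, 0, 0, 0],
      ![0, -1, -1, -1, 0, 0, 0, 0],
      ![0, 0, -1, -1, -1, -1, 0, 0],
      ![0, 0, 0, -1, -1, 0, 0, 0]]

/-- the functional -/
def U9 : Fin 8 → ℤ := ![1, 0, 0, 0, 0, 0, 0, 0]

theorem row9 : RowOK Am L9 (vec chevE8 8 239) c9 V9 U9 := by
  rw [vec_hi]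
  decide +kernel

/-- the partial products -/
def L10 : List (Fin 8 × Mat 8) := [
    (1, ![![1, 0, 1, 0, 0, 0, 0, 0],
        ![0, 0, 1, 1, 0, 0, 0, 0],
        ![0, 1, 0, 1, 0, 0, 0, 0],
        ![0, 0, 0, 0, 1, 0, 0, 0],
        ![0, 0, 0, 0, 0, 1, 0, 0],
        ![0, 0, 0, 0, 0, 0, 1, 0],
        ![0, -1, -1, -1, -1, -1, -1, 0],
        ![0, 1, 1, 1, 1, 1, 1, 1]]),
    (2, ![![1, 0, 1, 0, 0, 0, 0, 0],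
        ![0, 1, 1, 1, 0, 0, 0, 0],
        ![0, 0, 0, 1, 0, 0, 0, 0],
        ![0, 0, 0, 0, 1, 0, 0, 0],
        ![0, 0, 0, 0, 0, 1, 0, 0],
        ![0, 0, 0, 0, 0, 0, 1, 0],
        ![0, 0, -1, -1, -1, -1, -1, 0],
        ![0, 0, 1, 1, 1, 1, 1, 1]]),
    (3, ![![1, 0, 0, 0, 0, 0, 0, 0],
        ![0, 1, 0, 1, 0, 0, 0, 0],
        ![0, 0, 1, 1, 0, 0, 0, 0],
        ![0, 0, 0, 0, 1, 0, 0, 0],
        ![0, 0, 0, 0, 0, 1, 0, 0],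
        ![0, 0, 0, 0, 0, 0, 1, 0],
        ![0, 0, 0, -1, -1, -1, -1, 0],
        ![0, 0, 0, 1, 1, 1, 1, 1]]),
    (4, ![![1, 0, 0, 0, 0, 0, 0, 0],
        ![0, 1, 0, 0, 0, 0, 0, 0],
        ![0, 0, 1, 0, 0, 0, 0, 0],
        ![0, 0, 0, 1, 1, 0, 0, 0],
        ![0, 0, 0, 0, 0, 1, 0, 0],
        ![0, 0, 0, 0, 0, 0, 1, 0],
        ![0, 0, 0, 0, -1, -1, -1, 0],
        ![0, 0, 0, 0, 1, 1, 1, 1]]),
    (5, ![![1, 0, 0, 0, 0, 0, 0, 0],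
        ![0, 1, 0, 0, 0, 0, 0, 0],
        ![0, 0, 1, 0, 0, 0, 0, 0],
        ![0, 0, 0, 1, 0, 0, 0, 0],
        ![0, 0, 0, 0, 1, 1, 0, 0],
        ![0, 0, 0, 0, 0, 0, 1, 0],
        ![0, 0, 0, 0, 0, -1, -1, 0],
        ![0, 0, 0, 0, 0, 1, 1, 1]]),
    (6, ![![1, 0, 0, 0, 0, 0, 0, 0],
        ![0, 1, 0, 0, 0, 0, 0, 0],
        ![0, 0, 1, 0, 0, 0, 0, 0],
        ![0, 0, 0, 1, 0, 0, 0, 0],
        ![0, 0, 0, 0, 1, 0, 0, 0],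
        ![0, 0, 0, 0, 0, 1, 1, 0],
        ![0, 0, 0, 0, 0, 0, -1, 0],
        ![0, 0, 0, 0, 0, 0, 1, 1]])]

/-- the eigenvector -/
def V10 : Fin (3 + 1) → Fin 8 → ℤ := ![![0, 0, 0, 0, 0, -1, -1, 0],
      ![0, 0, 0, 0, -1, 0, 1, 0],
      ![0, 0, 0, -1, 0, 0, -1, 0],
      ![0, -1, -1, -1, -1, -1, 0, 0]]

/-- the functional -/
def U10 : Fin 8 → ℤ := ![0, 0, 1, 0, 0, -1, 0, 0]

theorem row10 : RowOK Am L10 (vec chevE8 8 239) c10 V10 U10 := by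
  rw [vec_hi]
  decide +kernel

/-- the partial products -/
def L12 : List (Fin 8 × Mat 8) := [
    (0, ![![0, 0, 1, 0, 0, 0, 0, 0],
        ![1, 0, 1, 1, 0, 0, 0, 0],
        ![0, 1, 0, 1, 0, 0, 0, 0],
        ![0, 0, 0, 0, 1, 0, 0, 0],
        ![0, 0, 0, 0, 0, 1, 0, 0],
        ![-1, -1, -1, -1, -1, -1, 0, 0],
        ![1, 1, 1, 1, 1, 1, 1, 0],
        ![0, 0, 0, 0, 0, 0, 0, 1]]),
    (1, ![![1, 0, 1, 0, 0, 0, 0, 0],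
        ![0, 0, 1, 1, 0, 0, 0, 0],
        ![0, 1, 0, 1, 0, 0, 0, 0],
        ![0, 0, 0, 0, 1, 0, 0, 0],
        ![0, 0, 0, 0, 0, 1, 0, 0],
        ![0, -1, -1, -1, -1, -1, 0, 0],
        ![0, 1, 1, 1, 1, 1, 1, 0],
        ![0, 0, 0, 0, 0, 0, 0, 1]]),
    (2, ![![1, 0, 1, 0, 0, 0, 0, 0],
        ![0, 1, 1, 1, 0, 0, 0, 0],
        ![0, 0, 0, 1, 0, 0, 0, 0],
        ![0, 0, 0, 0, 1, 0, 0, 0],
        ![0, 0, 0, 0, 0, 1, 0, 0],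
        ![0, 0, -1, -1, -1, -1, 0, 0],
        ![0, 0, 1, 1, 1, 1, 1, 0],
        ![0, 0, 0, 0, 0, 0, 0, 1]]),
    (3, ![![1, 0, 0, 0, 0, 0, 0, 0],
        ![0, 1, 0, 1, 0, 0, 0, 0],
        ![0, 0, 1, 1, 0, 0, 0, 0],
        ![0, 0, 0, 0, 1, 0, 0, 0],
        ![0, 0, 0, 0, 0, 1, 0, 0],
        ![0, 0, 0, -1, -1, -1, 0, 0],
        ![0, 0, 0, 1, 1, 1, 1, 0],
        ![0, 0, 0, 0, 0, 0, 0, 1]]),
    (4, ![![1, 0, 0, 0, 0, 0, 0, 0],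
        ![0, 1, 0, 0, 0, 0, 0, 0],
        ![0, 0, 1, 0, 0, 0, 0, 0],
        ![0, 0, 0, 1, 1, 0, 0, 0],
        ![0, 0, 0, 0, 0, 1, 0, 0],
        ![0, 0, 0, 0, -1, -1, 0, 0],
        ![0, 0, 0, 0, 1, 1, 1, 0],
        ![0, 0, 0, 0, 0, 0, 0, 1]]),
    (5, ![![1, 0, 0, 0, 0, 0, 0, 0],
        ![0, 1, 0, 0, 0, 0, 0, 0],
        ![0, 0, 1, 0, 0, 0, 0, 0],
        ![0, 0, 0, 1, 0, 0, 0, 0],
        ![0, 0, 0, 0, 1, 1, 0, 0],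
        ![0, 0, 0, 0, 0, -1, 0, 0],
        ![0, 0, 0, 0, 0, 1, 1, 0],
        ![0, 0, 0, 0, 0, 0, 0, 1]])]

/-- the eigenvector -/
def V12 : Fin (3 + 1) → Fin 8 → ℤ := ![![0, 1, 0, 1, 1, 1, 0, 0],
      ![0, 0, 1, 1, 1, 0, 0, 0],
      ![1, 0, 1, 1, 0, 0, 0, 0],
      ![0, 1, 0, 0, 0, 0, 0, 0]]

/-- the functional -/
def U12 : Fin 8 → ℤ := ![0, 0, -1, 1, 0, 0, 0, 0]

theorem row12 : RowOK Am L12 (vec chevE8 8 239) c12 V12 U12 := by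
  rw [vec_hi]
  decide +kernel

/-- the partial products -/
def L14 : List (Fin 8 × Mat 8) := [
    (3, ![![0, 1, 1, 2, 1, 0, 0, 0],
        ![0, 0, 0, 0, -1, 0, 0, 0],
        ![-1, -1, -1, -2, -1, 0, 0, 0],
        ![1, 0, 1, 1, 1, 0, 0, 0],
        ![0, 1, 0, 1, 1, 1, 0, 0],
        ![0, 0, 0, 0, 0, 0, 1, 0],
        ![0, 0, 0, -1, -1, -1, -1, 0],
        ![0, 0, 0, 1, 1, 1, 1, 1]]),
    (1, ![![0, 1, 1, 1, 1, 0, 0, 0],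
        ![0, 0, 0, -1, -1, 0, 0, 0],
        ![-1, -1, -1, -1, -1, 0, 0, 0],
        ![1, 0, 1, 1, 1, 0, 0, 0],
        ![0, 1, 0, 1, 1, 1, 0, 0],
        ![0, 0, 0, 0, 0, 0, 1, 0],
        ![0, 0, 0, 0, -1, -1, -1, 0],
        ![0, 0, 0, 0, 1, 1, 1, 1]]),
    (4, ![![0, 0, 1, 1, 1, 0, 0, 0],
        ![0, -1, 0, -1, -1, 0, 0, 0],
        ![-1, 0, -1, -1, -1, 0, 0, 0],
        ![1, 1, 1, 1, 1, 0, 0, 0],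
        ![0, 0, 0, 1, 1, 1, 0, 0],
        ![0, 0, 0, 0, 0, 0, 1, 0],
        ![0, 0, 0, 0, -1, -1, -1, 0],
        ![0, 0, 0, 0, 1, 1, 1, 1]]),
    (3, ![![0, 0, 1, 1, 0, 0, 0, 0],
        ![0, -1, 0, -1, 0, 0, 0, 0],
        ![-1, 0, -1, -1, 0, 0, 0, 0],
        ![1, 1, 1, 1, 0, 0, 0, 0],
        ![0, 0, 0, 1, 1, 1, 0, 0],
        ![0, 0, 0, 0, 0, 0, 1, 0],
        ![0, 0, 0, 0, 0, -1, -1, 0],
        ![0, 0, 0, 0, 0, 1, 1, 1]]),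
    (0, ![![0, 0, 1, 0, 0, 0, 0, 0],
        ![0, -1, 0, 0, 0, 0, 0, 0],
        ![-1, 0, -1, 0, 0, 0, 0, 0],
        ![1, 1, 1, 1, 0, 0, 0, 0],
        ![0, 0, 0, 0, 1, 1, 0, 0],
        ![0, 0, 0, 0, 0, 0, 1, 0],
        ![0, 0, 0, 0, 0, -1, -1, 0],
        ![0, 0, 0, 0, 0, 1, 1, 1]]),
    (5, ![![1, 0, 1, 0, 0, 0, 0, 0],
        ![0, -1, 0, 0, 0, 0, 0, 0],
        ![0, 0, -1, 0, 0, 0, 0, 0],
        ![0, 1, 1, 1, 0, 0, 0, 0],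
        ![0, 0, 0, 0, 1, 1, 0, 0],
        ![0, 0, 0, 0, 0, 0, 1, 0],
        ![0, 0, 0, 0, 0, -1, -1, 0],
        ![0, 0, 0, 0, 0, 1, 1, 1]]),
    (1, ![![1, 0, 1, 0, 0, 0, 0, 0],
        ![0, -1, 0, 0, 0, 0, 0, 0],
        ![0, 0, -1, 0, 0, 0, 0, 0],
        ![0, 1, 1, 1, 0, 0, 0, 0],
        ![0, 0, 0, 0, 1, 0, 0, 0],
        ![0, 0, 0, 0, 0, 1, 1, 0],
        ![0, 0, 0, 0, 0, 0, -1, 0],
        ![0, 0, 0, 0, 0, 0, 1, 1]]),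
    (2, ![![1, 0, 1, 0, 0, 0, 0, 0],
        ![0, 1, 0, 0, 0, 0, 0, 0],
        ![0, 0, -1, 0, 0, 0, 0, 0],
        ![0, 0, 1, 1, 0, 0, 0, 0],
        ![0, 0, 0, 0, 1, 0, 0, 0],
        ![0, 0, 0, 0, 0, 1, 1, 0],
        ![0, 0, 0, 0, 0, 0, -1, 0],
        ![0, 0, 0, 0, 0, 0, 1, 1]]),
    (6, ![![1, 0, 0, 0, 0, 0, 0, 0],
        ![0, 1, 0, 0, 0, 0, 0, 0],
        ![0, 0, 1, 0, 0, 0, 0, 0],
        ![0, 0, 0, 1, 0, 0, 0, 0],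
        ![0, 0, 0, 0, 1, 0, 0, 0],
        ![0, 0, 0, 0, 0, 1, 1, 0],
        ![0, 0, 0, 0, 0, 0, -1, 0],
        ![0, 0, 0, 0, 0, 0, 1, 1]])]

/-- the eigenvector -/
def V14 : Fin (5 + 1) → Fin 8 → ℤ := ![![0, 0, 0, 0, -1, -1, -1, 0],
      ![0, 0, -1, -1, 0, 0, 1, 0],
      ![-1, -1, -1, -1, -1, 0, -1, 0],
      ![0, 0, 0, -1, 0, -1, 0, 0],
      ![0, -1, 0, 0, -1, 0, 0, 0],
      ![0, 1, 0, 0, 0, 0, 0, 0]]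

/-- the functional -/
def U14 : Fin 8 → ℤ := ![0, 0, -1, 1, 0, -1, 0, 0]

theorem row14 : RowOK Am L14 (vec chevE8 8 239) c14 V14 U14 := by
  rw [vec_hi]
  decide +kernel

/-- the partial products -/
def L18 : List (Fin 8 × Mat 8) := [
    (0, ![![0, 0, 1, 0, 0, 0, 0, 0],
        ![1, 0, 1, 1, 0, 0, 0, 0],
        ![0, 1, 0, 1, 0, 0, 0, 0],
        ![0, 0, 0, 0, 1, 0, 0, 0],
        ![0, 0, 0, 0, 0, 1, 0, 0],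
        ![0, 0, 0, 0, 0, 0, 1, 0],
        ![-1, -1, -1, -1, -1, -1, -1, 0],
        ![1, 1, 1, 1, 1, 1, 1, 1]]),
    (1, ![![1, 0, 1, 0, 0, 0, 0, 0],
        ![0, 0, 1, 1, 0, 0, 0, 0],
        ![0, 1, 0, 1, 0, 0, 0, 0],
        ![0, 0, 0, 0, 1, 0, 0, 0],
        ![0, 0, 0, 0, 0, 1, 0, 0],
        ![0, 0, 0, 0, 0, 0, 1, 0],
        ![0, -1, -1, -1, -1, -1, -1, 0],
        ![0, 1, 1, 1, 1, 1, 1, 1]]),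
    (2, ![![1, 0, 1, 0, 0, 0, 0, 0],
        ![0, 1, 1, 1, 0, 0, 0, 0],
        ![0, 0, 0, 1, 0, 0, 0, 0],
        ![0, 0, 0, 0, 1, 0, 0, 0],
        ![0, 0, 0, 0, 0, 1, 0, 0],
        ![0, 0, 0, 0, 0, 0, 1, 0],
        ![0, 0, -1, -1, -1, -1, -1, 0],
        ![0, 0, 1, 1, 1, 1, 1, 1]]),
    (3, ![![1, 0, 0, 0, 0, 0, 0, 0],
        ![0, 1, 0, 1, 0, 0, 0, 0],
        ![0, 0, 1, 1, 0, 0, 0, 0],
        ![0, 0, 0, 0, 1, 0, 0, 0],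
        ![0, 0, 0, 0, 0, 1, 0, 0],
        ![0, 0, 0, 0, 0, 0, 1, 0],
        ![0, 0, 0, -1, -1, -1, -1, 0],
        ![0, 0, 0, 1, 1, 1, 1, 1]]),
    (4, ![![1, 0, 0, 0, 0, 0, 0, 0],
        ![0, 1, 0, 0, 0, 0, 0, 0],
        ![0, 0, 1, 0, 0, 0, 0, 0],
        ![0, 0, 0, 1, 1, 0, 0, 0],
        ![0, 0, 0, 0, 0, 1, 0, 0],
        ![0, 0, 0, 0, 0, 0, 1, 0],
        ![0, 0, 0, 0, -1, -1, -1, 0],
        ![0, 0, 0, 0, 1, 1, 1, 1]]),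
    (5, ![![1, 0, 0, 0, 0, 0, 0, 0],
        ![0, 1, 0, 0, 0, 0, 0, 0],
        ![0, 0, 1, 0, 0, 0, 0, 0],
        ![0, 0, 0, 1, 0, 0, 0, 0],
        ![0, 0, 0, 0, 1, 1, 0, 0],
        ![0, 0, 0, 0, 0, 0, 1, 0],
        ![0, 0, 0, 0, 0, -1, -1, 0],
        ![0, 0, 0, 0, 0, 1, 1, 1]]),
    (6, ![![1, 0, 0, 0, 0, 0, 0, 0],
        ![0, 1, 0, 0, 0, 0, 0, 0],
        ![0, 0, 1, 0, 0, 0, 0, 0],
        ![0, 0, 0, 1, 0, 0, 0, 0],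
        ![0, 0, 0, 0, 1, 0, 0, 0],
        ![0, 0, 0, 0, 0, 1, 1, 0],
        ![0, 0, 0, 0, 0, 0, -1, 0],
        ![0, 0, 0, 0, 0, 0, 1, 1]])]

/-- the eigenvector -/
def V18 : Fin (5 + 1) → Fin 8 → ℤ := ![![-1, 0, 0, 0, 0, 0, 0, 0],
      ![1, 0, 1, 1, 1, 1, 1, 0],
      ![0, 1, 0, 1, 1, 1, 0, 0],
      ![1, 0, 1, 1, 1, 0, 0, 0],
      ![0, 1, 0, 1, 0, 0, 0, 0],
      ![0, 0, 1, 0, 0, 0, 0, 0]]

/-- the functional -/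
def U18 : Fin 8 → ℤ := ![-1, -1, 0, 1, 0, 0, 0, 0]

theorem row18 : RowOK Am L18 (vec chevE8 8 239) c18 V18 U18 := by
  rw [vec_hi]
  decide +kernel

/-- the partial products -/
def T15 : List (Fin 8 × Mat 8) := [
    (7, ![![0, -1, 0, -1, -1, -1, 0, 0],
        ![1, 1, 1, 1, 1, 1, 1, 1],
        ![0, 1, 1, 2, 2, 2, 1, 1],
        ![-1, -1, -2, -2, -2, -2, -1, -1],
        ![1, 1, 2, 2, 1, 1, 0, 0],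
        ![0, 0, 0, 0, 1, 0, 0, 0],
        ![0, -1, -1, -1, -1, 0, 0, 0],
        ![0, 1, 1, 1, 1, 1, 1, 0]]),
    (2, ![![0, -1, 0, -1, -1, -1, 0, 0],
        ![1, 1, 1, 1, 1, 1, 1, 0],
        ![0, 1, 1, 2, 2, 2, 1, 0],
        ![-1, -1, -2, -2, -2, -2, -1, 0],
        ![1, 1, 2, 2, 1, 1, 0, 0],
        ![0, 0, 0, 0, 1, 0, 0, 0],
        ![0, -1, -1, -1, -1, 0, 0, 0],
        ![0, 1, 1, 1, 1, 1, 1, 1]]),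
    (1, ![![0, -1, -1, -1, -1, -1, 0, 0],
        ![1, 1, 1, 1, 1, 1, 1, 0],
        ![0, 1, 1, 2, 2, 2, 1, 0],
        ![-1, -1, -1, -2, -2, -2, -1, 0],
        ![1, 1, 1, 2, 1, 1, 0, 0],
        ![0, 0, 0, 0, 1, 0, 0, 0],
        ![0, -1, 0, -1, -1, 0, 0, 0],
        ![0, 1, 0, 1, 1, 1, 1, 1]]),
    (3, ![![0, 0, -1, -1, -1, -1, 0, 0],
        ![1, 0, 1, 1, 1, 1, 1, 0],
        ![0, 1, 1, 2, 2, 2, 1, 0],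
        ![-1, -1, -1, -2, -2, -2, -1, 0],
        ![1, 1, 1, 2, 1, 1, 0, 0],
        ![0, 0, 0, 0, 1, 0, 0, 0],
        ![0, 0, 0, -1, -1, 0, 0, 0],
        ![0, 0, 0, 1, 1, 1, 1, 1]]),
    (4, ![![0, 0, -1, -1, -1, -1, 0, 0],
        ![1, 0, 1, 1, 1, 1, 1, 0],
        ![0, 1, 1, 2, 2, 2, 1, 0],
        ![-1, -1, -1, -2, -2, -2, -1, 0],
        ![1, 1, 1, 1, 1, 1, 0, 0],
        ![0, 0, 0, 1, 1, 0, 0, 0],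
        ![0, 0, 0, 0, -1, 0, 0, 0],
        ![0, 0, 0, 0, 1, 1, 1, 1]]),
    (5, ![![0, 0, -1, -1, -1, -1, 0, 0],
        ![1, 0, 1, 1, 1, 1, 1, 0],
        ![0, 1, 1, 2, 2, 2, 1, 0],
        ![-1, -1, -1, -2, -2, -2, -1, 0],
        ![1, 1, 1, 1, 1, 1, 0, 0],
        ![0, 0, 0, 1, 0, 0, 0, 0],
        ![0, 0, 0, 0, 1, 0, 0, 0],
        ![0, 0, 0, 0, 0, 1, 1, 1]]),
    (6, ![![0, 0, -1, -1, -1, 0, 0, 0],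
        ![1, 0, 1, 1, 1, 1, 1, 0],
        ![0, 1, 1, 2, 2, 1, 1, 0],
        ![-1, -1, -1, -2, -2, -1, -1, 0],
        ![1, 1, 1, 1, 1, 0, 0, 0],
        ![0, 0, 0, 1, 0, 0, 0, 0],
        ![0, 0, 0, 0, 1, 1, 0, 0],
        ![0, 0, 0, 0, 0, 0, 1, 1]]),
    (4, ![![0, 0, -1, -1, -1, 0, 0, 0],
        ![1, 0, 1, 1, 1, 1, 0, 0],
        ![0, 1, 1, 2, 2, 1, 0, 0],
        ![-1, -1, -1, -2, -2, -1, 0, 0],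
        ![1, 1, 1, 1, 1, 0, 0, 0],
        ![0, 0, 0, 1, 0, 0, 0, 0],
        ![0, 0, 0, 0, 1, 1, 1, 0],
        ![0, 0, 0, 0, 0, 0, 0, 1]]),
    (5, ![![0, 0, -1, -1, 0, 0, 0, 0],
        ![1, 0, 1, 1, 1, 1, 0, 0],
        ![0, 1, 1, 2, 1, 1, 0, 0],
        ![-1, -1, -1, -2, -1, -1, 0, 0],
        ![1, 1, 1, 1, 0, 0, 0, 0],
        ![0, 0, 0, 1, 1, 0, 0, 0],
        ![0, 0, 0, 0, 0, 1, 1, 0],
        ![0, 0, 0, 0, 0, 0, 0, 1]]),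
    (3, ![![0, 0, -1, -1, 0, 0, 0, 0],
        ![1, 0, 1, 1, 1, 0, 0, 0],
        ![0, 1, 1, 2, 1, 0, 0, 0],
        ![-1, -1, -1, -2, -1, 0, 0, 0],
        ![1, 1, 1, 1, 0, 0, 0, 0],
        ![0, 0, 0, 1, 1, 1, 0, 0],
        ![0, 0, 0, 0, 0, 0, 1, 0],
        ![0, 0, 0, 0, 0, 0, 0, 1]]),
    (4, ![![0, 0, -1, 0, 0, 0, 0, 0],
        ![1, 0, 1, 1, 1, 0, 0, 0],
        ![0, 1, 1, 1, 1, 0, 0, 0],
        ![-1, -1, -1, -1, -1, 0, 0, 0],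
        ![1, 1, 1, 1, 0, 0, 0, 0],
        ![0, 0, 0, 0, 1, 1, 0, 0],
        ![0, 0, 0, 0, 0, 0, 1, 0],
        ![0, 0, 0, 0, 0, 0, 0, 1]]),
    (0, ![![0, 0, -1, 0, 0, 0, 0, 0],
        ![1, 0, 1, 1, 0, 0, 0, 0],
        ![0, 1, 1, 1, 0, 0, 0, 0],
        ![-1, -1, -1, -1, 0, 0, 0, 0],
        ![1, 1, 1, 1, 1, 0, 0, 0],
        ![0, 0, 0, 0, 0, 1, 0, 0],
        ![0, 0, 0, 0, 0, 0, 1, 0],
        ![0, 0, 0, 0, 0, 0, 0, 1]]),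
    (2, ![![-1, 0, -1, 0, 0, 0, 0, 0],
        ![0, 0, 1, 1, 0, 0, 0, 0],
        ![1, 1, 1, 1, 0, 0, 0, 0],
        ![0, -1, -1, -1, 0, 0, 0, 0],
        ![0, 1, 1, 1, 1, 0, 0, 0],
        ![0, 0, 0, 0, 0, 1, 0, 0],
        ![0, 0, 0, 0, 0, 0, 1, 0],
        ![0, 0, 0, 0, 0, 0, 0, 1]]),
    (1, ![![-1, 0, 0, 0, 0, 0, 0, 0],
        ![0, 0, 0, 1, 0, 0, 0, 0],
        ![1, 1, 1, 1, 0, 0, 0, 0],
        ![0, -1, 0, -1, 0, 0, 0, 0],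
        ![0, 1, 0, 1, 1, 0, 0, 0],
        ![0, 0, 0, 0, 0, 1, 0, 0],
        ![0, 0, 0, 0, 0, 0, 1, 0],
        ![0, 0, 0, 0, 0, 0, 0, 1]]),
    (3, ![![-1, 0, 0, 0, 0, 0, 0, 0],
        ![0, 1, 0, 1, 0, 0, 0, 0],
        ![1, 0, 1, 1, 0, 0, 0, 0],
        ![0, 0, 0, -1, 0, 0, 0, 0],
        ![0, 0, 0, 1, 1, 0, 0, 0],
        ![0, 0, 0, 0, 0, 1, 0, 0],
        ![0, 0, 0, 0, 0, 0, 1, 0],
        ![0, 0, 0, 0, 0, 0, 0, 1]]),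
    (0, ![![-1, 0, 0, 0, 0, 0, 0, 0],
        ![0, 1, 0, 0, 0, 0, 0, 0],
        ![1, 0, 1, 0, 0, 0, 0, 0],
        ![0, 0, 0, 1, 0, 0, 0, 0],
        ![0, 0, 0, 0, 1, 0, 0, 0],
        ![0, 0, 0, 0, 0, 1, 0, 0],
        ![0, 0, 0, 0, 0, 0, 1, 0],
        ![0, 0, 0, 0, 0, 0, 0, 1]])]

theorem chain15 : ChainOK Am T15 := by decide +kernel

/-- the eigenvector -/
def V15_15 : Fin (7 + 1) → Fin 8 → ℤ := ![![1, 1, 1, 1, 1, 1, 1, 0],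
      ![-1, 0, -1, 0, 0, 0, 0, 1],
      ![0, 0, 1, 0, -1, -1, -1, -1],
      ![1, 0, 0, 0, 1, 0, 0, 0],
      ![-1, 0, -1, 0, 0, 1, 0, 0],
      ![0, 0, 1, 0, 0, 0, 1, 0],
      ![1, 0, 0, 0, 0, 0, 0, 1],
      ![-1, 0, -1, -1, -1, -1, -1, -1]]

/-- the functional -/
def U15_15 : Fin 8 → ℤ := ![0, 1, 0, 0, 0, 0, 0, 0]

theorem tor15_15 : EigOK (hd T15) c15 V15_15 U15_15 := by decide +kernel

/-- the partial products -/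
def T20 : List (Fin 8 × Mat 8) := [
    (6, ![![-1, 0, -1, 0, 0, 0, 0, 0],
        ![0, 0, 0, 0, -1, -1, -1, 0],
        ![1, 1, 2, 2, 1, 1, 1, 0],
        ![0, 0, 0, 0, 1, 0, 0, 0],
        ![0, -1, -1, -1, -1, 0, 0, 0],
        ![0, 1, 0, 0, 0, 0, 0, 0],
        ![0, 0, 1, 1, 1, 1, 1, 1],
        ![0, 0, 0, 0, 0, 0, -1, -1]]),
    (7, ![![-1, 0, -1, 0, 0, 0, 0, 0],
        ![0, 0, 0, 0, -1, -1, 0, 0],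
        ![1, 1, 2, 2, 1, 1, 0, 0],
        ![0, 0, 0, 0, 1, 0, 0, 0],
        ![0, -1, -1, -1, -1, 0, 0, 0],
        ![0, 1, 0, 0, 0, 0, 0, 0],
        ![0, 0, 1, 1, 1, 1, 1, 1],
        ![0, 0, 0, 0, 0, 0, 0, -1]]),
    (2, ![![-1, 0, -1, 0, 0, 0, 0, 0],
        ![0, 0, 0, 0, -1, -1, 0, 0],
        ![1, 1, 2, 2, 1, 1, 0, 0],
        ![0, 0, 0, 0, 1, 0, 0, 0],
        ![0, -1, -1, -1, -1, 0, 0, 0],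
        ![0, 1, 0, 0, 0, 0, 0, 0],
        ![0, 0, 1, 1, 1, 1, 1, 0],
        ![0, 0, 0, 0, 0, 0, 0, 1]]),
    (3, ![![-1, 0, 0, 0, 0, 0, 0, 0],
        ![0, 0, 0, 0, -1, -1, 0, 0],
        ![1, 1, 1, 2, 1, 1, 0, 0],
        ![0, 0, 0, 0, 1, 0, 0, 0],
        ![0, -1, 0, -1, -1, 0, 0, 0],
        ![0, 1, 0, 0, 0, 0, 0, 0],
        ![0, 0, 0, 1, 1, 1, 1, 0],
        ![0, 0, 0, 0, 0, 0, 0, 1]]),
    (4, ![![-1, 0, 0, 0, 0, 0, 0, 0],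
        ![0, 0, 0, -1, -1, -1, 0, 0],
        ![1, 1, 1, 1, 1, 1, 0, 0],
        ![0, 0, 0, 1, 1, 0, 0, 0],
        ![0, -1, 0, -1, -1, 0, 0, 0],
        ![0, 1, 0, 1, 0, 0, 0, 0],
        ![0, 0, 0, 0, 1, 1, 1, 0],
        ![0, 0, 0, 0, 0, 0, 0, 1]]),
    (5, ![![-1, 0, 0, 0, 0, 0, 0, 0],
        ![0, 0, 0, -1, -1, -1, 0, 0],
        ![1, 1, 1, 1, 1, 1, 0, 0],
        ![0, 0, 0, 1, 0, 0, 0, 0],
        ![0, -1, 0, -1, 0, 0, 0, 0],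
        ![0, 1, 0, 1, 1, 0, 0, 0],
        ![0, 0, 0, 0, 0, 1, 1, 0],
        ![0, 0, 0, 0, 0, 0, 0, 1]]),
    (1, ![![-1, 0, 0, 0, 0, 0, 0, 0],
        ![0, 0, 0, -1, -1, 0, 0, 0],
        ![1, 1, 1, 1, 1, 0, 0, 0],
        ![0, 0, 0, 1, 0, 0, 0, 0],
        ![0, -1, 0, -1, 0, 0, 0, 0],
        ![0, 1, 0, 1, 1, 1, 0, 0],
        ![0, 0, 0, 0, 0, 0, 1, 0],
        ![0, 0, 0, 0, 0, 0, 0, 1]]),
    (3, ![![-1, 0, 0, 0, 0, 0, 0, 0],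
        ![0, -1, 0, -1, -1, 0, 0, 0],
        ![1, 0, 1, 1, 1, 0, 0, 0],
        ![0, 1, 0, 1, 0, 0, 0, 0],
        ![0, 0, 0, -1, 0, 0, 0, 0],
        ![0, 0, 0, 1, 1, 1, 0, 0],
        ![0, 0, 0, 0, 0, 0, 1, 0],
        ![0, 0, 0, 0, 0, 0, 0, 1]]),
    (4, ![![-1, 0, 0, 0, 0, 0, 0, 0],
        ![0, -1, 0, -1, -1, 0, 0, 0],
        ![1, 0, 1, 1, 1, 0, 0, 0],
        ![0, 1, 0, 0, 0, 0, 0, 0],
        ![0, 0, 0, 1, 0, 0, 0, 0],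
        ![0, 0, 0, 0, 1, 1, 0, 0],
        ![0, 0, 0, 0, 0, 0, 1, 0],
        ![0, 0, 0, 0, 0, 0, 0, 1]]),
    (3, ![![-1, 0, 0, 0, 0, 0, 0, 0],
        ![0, -1, 0, -1, 0, 0, 0, 0],
        ![1, 0, 1, 1, 0, 0, 0, 0],
        ![0, 1, 0, 0, 0, 0, 0, 0],
        ![0, 0, 0, 1, 1, 0, 0, 0],
        ![0, 0, 0, 0, 0, 1, 0, 0],
        ![0, 0, 0, 0, 0, 0, 1, 0],
        ![0, 0, 0, 0, 0, 0, 0, 1]]),
    (1, ![![-1, 0, 0, 0, 0, 0, 0, 0],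
        ![0, -1, 0, 0, 0, 0, 0, 0],
        ![1, 0, 1, 0, 0, 0, 0, 0],
        ![0, 1, 0, 1, 0, 0, 0, 0],
        ![0, 0, 0, 0, 1, 0, 0, 0],
        ![0, 0, 0, 0, 0, 1, 0, 0],
        ![0, 0, 0, 0, 0, 0, 1, 0],
        ![0, 0, 0, 0, 0, 0, 0, 1]]),
    (0, ![![-1, 0, 0, 0, 0, 0, 0, 0],
        ![0, 1, 0, 0, 0, 0, 0, 0],
        ![1, 0, 1, 0, 0, 0, 0, 0],
        ![0, 0, 0, 1, 0, 0, 0, 0],
        ![0, 0, 0, 0, 1, 0, 0, 0],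
        ![0, 0, 0, 0, 0, 1, 0, 0],
        ![0, 0, 0, 0, 0, 0, 1, 0],
        ![0, 0, 0, 0, 0, 0, 0, 1]])]

theorem chain20 : ChainOK Am T20 := by decide +kernel

/-- the eigenvector -/
def V20_20 : Fin (7 + 1) → Fin 8 → ℤ := ![![-1, -1, -1, -1, -1, 0, 0, 0],
      ![0, -1, -1, -2, -1, -1, 0, 0],
      ![0, 0, 0, 0, 0, -1, -1, -1],
      ![0, 0, 0, 0, -1, -1, -1, 0],
      ![-1, 0, -1, -1, -1, 0, 0, 0],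
      ![0, -1, -1, -2, -1, 0, 0, 0],
      ![0, 0, 0, 0, 1, 0, 0, 0],
      ![0, 0, 0, 1, 0, 0, 0, 0]]

/-- the functional -/
def U20_20 : Fin 8 → ℤ := ![-1, -1, 1, 0, 0, 0, 0, 0]

theorem tor20_20 : EigOK (hd T20) c20 V20_20 U20_20 := by decide +kernel

/-- the partial products -/
def T24 : List (Fin 8 × Mat 8) := [
    (6, ![![-1, 0, -1, -1, -1, -1, -1, 0],
        ![0, 0, -1, 0, 0, 0, 0, 0],
        ![1, 1, 1, 1, 1, 1, 1, 0],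
        ![0, -1, 0, -1, -1, -1, -1, 0],
        ![0, 1, 1, 2, 1, 1, 1, 0],
        ![0, 0, 0, 0, 1, 0, 0, 0],
        ![0, 0, 0, 0, 0, 1, 1, 1],
        ![0, 0, 0, 0, 0, 0, -1, -1]]),
    (7, ![![-1, 0, -1, -1, -1, -1, 0, 0],
        ![0, 0, -1, 0, 0, 0, 0, 0],
        ![1, 1, 1, 1, 1, 1, 0, 0],
        ![0, -1, 0, -1, -1, -1, 0, 0],
        ![0, 1, 1, 2, 1, 1, 0, 0],
        ![0, 0, 0, 0, 1, 0, 0, 0],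
        ![0, 0, 0, 0, 0, 1, 1, 1],
        ![0, 0, 0, 0, 0, 0, 0, -1]]),
    (5, ![![-1, 0, -1, -1, -1, -1, 0, 0],
        ![0, 0, -1, 0, 0, 0, 0, 0],
        ![1, 1, 1, 1, 1, 1, 0, 0],
        ![0, -1, 0, -1, -1, -1, 0, 0],
        ![0, 1, 1, 2, 1, 1, 0, 0],
        ![0, 0, 0, 0, 1, 0, 0, 0],
        ![0, 0, 0, 0, 0, 1, 1, 0],
        ![0, 0, 0, 0, 0, 0, 0, 1]]),
    (4, ![![-1, 0, -1, -1, -1, 0, 0, 0],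
        ![0, 0, -1, 0, 0, 0, 0, 0],
        ![1, 1, 1, 1, 1, 0, 0, 0],
        ![0, -1, 0, -1, -1, 0, 0, 0],
        ![0, 1, 1, 2, 1, 0, 0, 0],
        ![0, 0, 0, 0, 1, 1, 0, 0],
        ![0, 0, 0, 0, 0, 0, 1, 0],
        ![0, 0, 0, 0, 0, 0, 0, 1]]),
    (3, ![![-1, 0, -1, -1, 0, 0, 0, 0],
        ![0, 0, -1, 0, 0, 0, 0, 0],
        ![1, 1, 1, 1, 0, 0, 0, 0],
        ![0, -1, 0, -1, 0, 0, 0, 0],
        ![0, 1, 1, 2, 1, 0, 0, 0],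
        ![0, 0, 0, 0, 0, 1, 0, 0],
        ![0, 0, 0, 0, 0, 0, 1, 0],
        ![0, 0, 0, 0, 0, 0, 0, 1]]),
    (2, ![![-1, 0, -1, 0, 0, 0, 0, 0],
        ![0, 0, -1, -1, 0, 0, 0, 0],
        ![1, 1, 1, 1, 0, 0, 0, 0],
        ![0, -1, 0, 0, 0, 0, 0, 0],
        ![0, 1, 1, 1, 1, 0, 0, 0],
        ![0, 0, 0, 0, 0, 1, 0, 0],
        ![0, 0, 0, 0, 0, 0, 1, 0],
        ![0, 0, 0, 0, 0, 0, 0, 1]]),
    (1, ![![-1, 0, 0, 0, 0, 0, 0, 0],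
        ![0, 0, 0, -1, 0, 0, 0, 0],
        ![1, 1, 1, 1, 0, 0, 0, 0],
        ![0, -1, 0, 0, 0, 0, 0, 0],
        ![0, 1, 0, 1, 1, 0, 0, 0],
        ![0, 0, 0, 0, 0, 1, 0, 0],
        ![0, 0, 0, 0, 0, 0, 1, 0],
        ![0, 0, 0, 0, 0, 0, 0, 1]]),
    (3, ![![-1, 0, 0, 0, 0, 0, 0, 0],
        ![0, -1, 0, -1, 0, 0, 0, 0],
        ![1, 0, 1, 1, 0, 0, 0, 0],
        ![0, 1, 0, 0, 0, 0, 0, 0],
        ![0, 0, 0, 1, 1, 0, 0, 0],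
        ![0, 0, 0, 0, 0, 1, 0, 0],
        ![0, 0, 0, 0, 0, 0, 1, 0],
        ![0, 0, 0, 0, 0, 0, 0, 1]]),
    (1, ![![-1, 0, 0, 0, 0, 0, 0, 0],
        ![0, -1, 0, 0, 0, 0, 0, 0],
        ![1, 0, 1, 0, 0, 0, 0, 0],
        ![0, 1, 0, 1, 0, 0, 0, 0],
        ![0, 0, 0, 0, 1, 0, 0, 0],
        ![0, 0, 0, 0, 0, 1, 0, 0],
        ![0, 0, 0, 0, 0, 0, 1, 0],
        ![0, 0, 0, 0, 0, 0, 0, 1]]),
    (0, ![![-1, 0, 0, 0, 0, 0, 0, 0],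
        ![0, 1, 0, 0, 0, 0, 0, 0],
        ![1, 0, 1, 0, 0, 0, 0, 0],
        ![0, 0, 0, 1, 0, 0, 0, 0],
        ![0, 0, 0, 0, 1, 0, 0, 0],
        ![0, 0, 0, 0, 0, 1, 0, 0],
        ![0, 0, 0, 0, 0, 0, 1, 0],
        ![0, 0, 0, 0, 0, 0, 0, 1]])]

theorem chain24 : ChainOK Am T24 := by decide +kernel

/-- the eigenvector -/
def V24_24 : Fin (7 + 1) → Fin 8 → ℤ := ![![0, 1, 0, 0, 0, 0, 0, 0],
      ![1, 0, 1, 0, 0, 0, 0, 0],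
      ![0, 0, 1, 1, 0, 0, 0, 0],
      ![0, 0, 0, 1, 1, 0, 0, 0],
      ![0, 0, 0, 1, 1, 1, 0, 0],
      ![0, 1, 0, 1, 1, 1, 1, 1],
      ![1, 1, 1, 1, 1, 1, 1, 0],
      ![0, 0, 1, 0, 0, 0, 0, 0]]

/-- the functional -/
def U24_24 : Fin 8 → ℤ := ![0, 1, 0, 0, 0, 0, -1, 0]

theorem tor24_24 : EigOK (hd T24) c24 V24_24 U24_24 := by decide +kernel

/-- the partial products -/
def T30 : List (Fin 8 × Mat 8) := [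
    (7, ![![0, 0, 1, 0, 0, 0, 0, 0],
        ![-1, -1, -1, -1, -1, -1, 0, 0],
        ![0, 0, 0, 1, 1, 1, 0, 0],
        ![0, 1, 0, 0, 0, 0, 0, 0],
        ![1, 0, 1, 1, 0, 0, 0, 0],
        ![0, 0, 0, 0, 1, 1, 1, 1],
        ![0, 0, 0, 0, 0, -1, -1, -1],
        ![0, 0, 0, 0, 0, 1, 1, 0]]),
    (5, ![![0, 0, 1, 0, 0, 0, 0, 0],
        ![-1, -1, -1, -1, -1, -1, 0, 0],
        ![0, 0, 0, 1, 1, 1, 0, 0],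
        ![0, 1, 0, 0, 0, 0, 0, 0],
        ![1, 0, 1, 1, 0, 0, 0, 0],
        ![0, 0, 0, 0, 1, 1, 1, 0],
        ![0, 0, 0, 0, 0, -1, -1, 0],
        ![0, 0, 0, 0, 0, 1, 1, 1]]),
    (6, ![![0, 0, 1, 0, 0, 0, 0, 0],
        ![-1, -1, -1, -1, -1, 0, 0, 0],
        ![0, 0, 0, 1, 1, 0, 0, 0],
        ![0, 1, 0, 0, 0, 0, 0, 0],
        ![1, 0, 1, 1, 0, 0, 0, 0],
        ![0, 0, 0, 0, 1, 1, 1, 0],
        ![0, 0, 0, 0, 0, 0, -1, 0],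
        ![0, 0, 0, 0, 0, 0, 1, 1]]),
    (4, ![![0, 0, 1, 0, 0, 0, 0, 0],
        ![-1, -1, -1, -1, -1, 0, 0, 0],
        ![0, 0, 0, 1, 1, 0, 0, 0],
        ![0, 1, 0, 0, 0, 0, 0, 0],
        ![1, 0, 1, 1, 0, 0, 0, 0],
        ![0, 0, 0, 0, 1, 1, 0, 0],
        ![0, 0, 0, 0, 0, 0, 1, 0],
        ![0, 0, 0, 0, 0, 0, 0, 1]]),
    (0, ![![0, 0, 1, 0, 0, 0, 0, 0],
        ![-1, -1, -1, -1, 0, 0, 0, 0],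
        ![0, 0, 0, 1, 0, 0, 0, 0],
        ![0, 1, 0, 0, 0, 0, 0, 0],
        ![1, 0, 1, 1, 1, 0, 0, 0],
        ![0, 0, 0, 0, 0, 1, 0, 0],
        ![0, 0, 0, 0, 0, 0, 1, 0],
        ![0, 0, 0, 0, 0, 0, 0, 1]]),
    (2, ![![1, 0, 1, 0, 0, 0, 0, 0],
        ![0, -1, -1, -1, 0, 0, 0, 0],
        ![0, 0, 0, 1, 0, 0, 0, 0],
        ![0, 1, 0, 0, 0, 0, 0, 0],
        ![0, 0, 1, 1, 1, 0, 0, 0],
        ![0, 0, 0, 0, 0, 1, 0, 0],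
        ![0, 0, 0, 0, 0, 0, 1, 0],
        ![0, 0, 0, 0, 0, 0, 0, 1]]),
    (3, ![![1, 0, 0, 0, 0, 0, 0, 0],
        ![0, -1, 0, -1, 0, 0, 0, 0],
        ![0, 0, 1, 1, 0, 0, 0, 0],
        ![0, 1, 0, 0, 0, 0, 0, 0],
        ![0, 0, 0, 1, 1, 0, 0, 0],
        ![0, 0, 0, 0, 0, 1, 0, 0],
        ![0, 0, 0, 0, 0, 0, 1, 0],
        ![0, 0, 0, 0, 0, 0, 0, 1]]),
    (1, ![![1, 0, 0, 0, 0, 0, 0, 0],
        ![0, -1, 0, 0, 0, 0, 0, 0],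
        ![0, 0, 1, 0, 0, 0, 0, 0],
        ![0, 1, 0, 1, 0, 0, 0, 0],
        ![0, 0, 0, 0, 1, 0, 0, 0],
        ![0, 0, 0, 0, 0, 1, 0, 0],
        ![0, 0, 0, 0, 0, 0, 1, 0],
        ![0, 0, 0, 0, 0, 0, 0, 1]])]

theorem chain30 : ChainOK Am T30 := by decide +kernel

/-- the eigenvector -/
def V30_30 : Fin (7 + 1) → Fin 8 → ℤ := ![![0, -1, -1, 0, 0, 0, 0, 0],
      ![-1, -1, -1, -1, 0, 0, 0, 0],
      ![0, 0, 0, -1, -1, 0, 0, 0],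
      ![0, 0, 0, -1, -1, -1, -1, 0],
      ![0, 0, 0, -1, -1, -1, -1, -1],
      ![0, 0, 0, -1, -1, -1, 0, 0],
      ![0, 0, -1, 0, 0, 0, 0, 0],
      ![-1, -1, -1, 0, 0, 0, 0, 0]]

/-- the functional -/
def U30_30 : Fin 8 → ℤ := ![1, -1, 0, 0, 0, 0, 0, 0]

theorem tor30_30 : EigOK (hd T30) c30 V30_30 U30_30 := by decide +kernel

end Cfsg.Agent.H378.AdjE8
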