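import Cfsg.Agent.H378.CycTab

/-!
# Weyl group elements of type F4 (helper378)

`rowM` : a product of simple reflections fixing the highest root with the eigenvalue of order `M`;
`torM_m` : a product of simple reflections with the eigenvalues of order `M` and `m`.
-/

set_option autoImplicit false

namespace Cfsg.Agent.H378.AdjF4

open Cfsg.Agent.H129.WData Cfsg.Agent.H378.AdjTab Cfsg.Agent.H378.CycTab Cfsg.Agent.H493.PGTorus
open Cfsg.Agent.ChevalleyStructure.CoxeterGeomTypes Cfsg.Agent.Nodes.RGDChev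
open Cfsg.Lie Cfsg.Lie.ChevalleyDatum

/-- the Cartan matrix -/
def Am : Mat 4 := ![![2, -1, 0, 0],
      ![-1, 2, -2, 0],
      ![0, -1, 2, -1],
      ![0, 0, -1, 2]]

theorem hA : ∀ i j, Am i j = cartanOf chevF4 4 i j := by decide +kernel

/-- the highest root -/
def hi : Fin 4 → ℤ := ![2, 4, 3, 2]

theorem lt_nroots : 47 < chevF4.nroots := by decide +kernel

theorem vec_hi : vec chevF4 4 47 = hi := by
  have h : ∀ i : Fin 4, vec chevF4 4 47 i = hi i := by
    unfold vec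
    decide +kernel
  exact funext h

theorem orth : SmallTor.Orth chevF4 4 0 0 3 where
  hr := by decide +kernel
  hs := by decide +kernel
  zero := by decide +kernel
  odd := by decide +kernel

/-- the partial products -/
def L2 : List (Fin 4 × Mat 4) := [
    (0, ![![-1, 0, 0, 0],
        ![1, 1, 0, 0],
        ![0, 0, 1, 0],
        ![0, 0, 0, 1]])]

/-- the eigenvector -/
def V2 : Fin (0 + 1) → Fin 4 → ℤ := ![![1, 0, 0, 0]]

/-- the functional -/
def U2 : Fin 4 → ℤ := ![1, 0, 0, 0]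

theorem row2 : RowOK Am L2 (vec chevF4 4 47) c2 V2 U2 := by
  rw [vec_hi]
  decide +kernel

/-- the partial products -/
def L3 : List (Fin 4 × Mat 4) := [
    (0, ![![0, 1, 0, 0],
        ![-1, -1, 0, 0],
        ![2, 2, 1, 0],
        ![0, 0, 0, 1]]),
    (1, ![![1, 1, 0, 0],
        ![0, -1, 0, 0],
        ![0, 2, 1, 0],
        ![0, 0, 0, 1]])]

/-- the eigenvector -/
def V3 : Fin (1 + 1) → Fin 4 → ℤ := ![![-1, 0, 0, 0],
      ![0, 1, 0, 0]]

/-- the functional -/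
def U3 : Fin 4 → ℤ := ![-1, 0, 0, 0]

theorem row3 : RowOK Am L3 (vec chevF4 4 47) c3 V3 U3 := by
  rw [vec_hi]
  decide +kernel

/-- the partial products -/
def L4 : List (Fin 4 × Mat 4) := [
    (1, ![![1, 1, 0, 0],
        ![0, 1, 1, 0],
        ![0, -2, -1, 0],
        ![0, 2, 1, 1]]),
    (2, ![![1, 0, 0, 0],
        ![0, 1, 1, 0],
        ![0, 0, -1, 0],
        ![0, 0, 1, 1]])]

/-- the eigenvector -/
def V4 : Fin (1 + 1) → Fin 4 → ℤ := ![![0, 1, 1, 0],
      ![0, 1, 0, 0]]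

/-- the functional -/
def U4 : Fin 4 → ℤ := ![0, 0, 1, 0]

theorem row4 : RowOK Am L4 (vec chevF4 4 47) c4 V4 U4 := by
  rw [vec_hi]
  decide +kernel

/-- the partial products -/
def L6 : List (Fin 4 × Mat 4) := [
    (0, ![![0, 1, 0, 0],
        ![1, 1, 1, 0],
        ![-2, -2, -1, 0],
        ![2, 2, 1, 1]]),
    (1, ![![1, 1, 0, 0],
        ![0, 1, 1, 0],
        ![0, -2, -1, 0],
        ![0, 2, 1, 1]]),
    (2, ![![1, 0, 0, 0],
        ![0, 1, 1, 0],
        ![0, 0, -1, 0],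
        ![0, 0, 1, 1]])]

/-- the eigenvector -/
def V6 : Fin (1 + 1) → Fin 4 → ℤ := ![![0, 1, 1, 0],
      ![1, 1, 0, 0]]

/-- the functional -/
def U6 : Fin 4 → ℤ := ![-1, 1, 0, 0]

theorem row6 : RowOK Am L6 (vec chevF4 4 47) c6 V6 U6 := by
  rw [vec_hi]
  decide +kernel

/-- the partial products -/
def T8 : List (Fin 4 × Mat 4) := [
    (3, ![![1, 2, 1, 1],
        ![-1, -1, 0, 0],
        ![0, 0, -1, -1],
        ![2, 2, 2, 1]]),
    (2, ![![1, 2, 1, 0],
        ![-1, -1, 0, 0],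
        ![0, 0, -1, 0],
        ![2, 2, 2, 1]]),
    (0, ![![1, 2, 1, 0],
        ![-1, -1, -1, 0],
        ![0, 0, 1, 0],
        ![2, 2, 1, 1]]),
    (1, ![![1, 2, 1, 0],
        ![0, -1, -1, 0],
        ![0, 0, 1, 0],
        ![0, 2, 1, 1]]),
    (2, ![![1, 1, 1, 0],
        ![0, -1, -1, 0],
        ![0, 2, 1, 0],
        ![0, 0, 1, 1]]),
    (1, ![![1, 1, 0, 0],
        ![0, -1, 0, 0],
        ![0, 2, 1, 0],
        ![0, 0, 0, 1]])]

theorem chain8 : ChainOK Am T8 := by decide +kernel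

/-- the eigenvector -/
def V8_8 : Fin (3 + 1) → Fin 4 → ℤ := ![![0, 1, 1, 1],
      ![1, 1, 0, 0],
      ![0, -1, 0, 0],
      ![-1, -1, -1, 0]]

/-- the functional -/
def U8_8 : Fin 4 → ℤ := ![0, 0, 0, 1]

theorem tor8_8 : EigOK (hd T8) c8 V8_8 U8_8 := by decide +kernel

/-- the partial products -/
def T12 : List (Fin 4 × Mat 4) := [
    (3, ![![0, 1, 0, 0],
        ![1, 1, 1, 1],
        ![-2, -2, -1, -1],
        ![2, 2, 1, 0]]),
    (0, ![![0, 1, 0, 0],
        ![1, 1, 1, 0],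
        ![-2, -2, -1, 0],
        ![2, 2, 1, 1]]),
    (1, ![![1, 1, 0, 0],
        ![0, 1, 1, 0],
        ![0, -2, -1, 0],
        ![0, 2, 1, 1]]),
    (2, ![![1, 0, 0, 0],
        ![0, 1, 1, 0],
        ![0, 0, -1, 0],
        ![0, 0, 1, 1]])]

theorem chain12 : ChainOK Am T12 := by decide +kernel

/-- the eigenvector -/
def V12_12 : Fin (3 + 1) → Fin 4 → ℤ := ![![1, 1, 1, 0],
      ![0, 1, 1, 1],
      ![0, 1, 0, 0],
      ![1, 0, 0, 0]]

/-- the functional -/
def U12_12 : Fin 4 → ℤ := ![0, 0, 1, -1]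

theorem tor12_12 : EigOK (hd T12) c12 V12_12 U12_12 := by decide +kernel

end Cfsg.Agent.H378.AdjF4
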