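import Cfsg.Agent.H378.TwAdj
import Cfsg.Agent.H378.RegTw
import Cfsg.Agent.H343.WitExc

/-!
# `³D₄(q)` and `²E₆(q)`: primes near 2, centralisers in the odd components (helper378)

* `near_3D4` : every prime divisor of the order is `Near`, or `q` has order 12 modulo `r`;
* `cent_3D4` : if `q` has order 12 modulo `r` and `x` has order `r` then `C(x)` is abelian of order dividing `Φ₁₂(q)`;
* `near_2E6` : every prime divisor is `Near`, or `q` has order 18 modulo `r`, or `q = 2` and `r ∈ {13, 17}`;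
* `cent_2E6` : if `q` has order 18 modulo `r` and `x` has order `r` then `C(x)` is abelian of order dividing `Φ₁₈(q)`;
* `comm_2E6_two` : `q = 2`, `x` of order 13 or 17;
* `good2_3D4`, `ac_3D4`, `good2_2E6`, `ac_2E6`.
-/

set_option autoImplicit false
set_option linter.unusedSectionVars false

namespace Cfsg.Agent.H378.TwRows

open CoxeterSystem Subgroup Cfsg Cfsg.Lie Cfsg.Lie.ChevalleyDatum
open Cfsg.Agent.ChevalleyStructure.CoxeterGeomTypes
open Cfsg.Agent.Nodes Cfsg.Agent.Nodes.RGDChev Cfsg.Agent.KFacts.RgdChevCoord Cfsg.Agent.BpExc.TorChev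
open Cfsg.Agent.BpExc.TowChev
open Cfsg.Agent.H493.PGTorus Cfsg.Agent.H493.PGCyc Cfsg.Agent.H129.WData
open Cfsg.Agent.H564.NearTwo Cfsg.Agent.H94.PG
open Cfsg.Agent.H378.ExcAdj Cfsg.Agent.H378.TwAdj

universe u v

/-! ### arithmetic -/

theorem int_dvd {r a : ℕ} {b : ℤ} (h : (r : ℤ) ∣ b) (e : b = (a : ℤ)) : r ∣ a :=
  Int.natCast_dvd_natCast.1 (e ▸ h)

theorem eval_cyc12 (q : ℤ) : (Polynomial.cyclotomic 12 ℤ).eval q = q ^ 4 - q ^ 2 + 1 := by
  have h := Polynomial.cyclotomic_expand_eq_cyclotomic Nat.prime_two (show 2 ∣ 6 by norm_num) ℤ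
  rw [show 6 * 2 = 12 from rfl, Polynomial.cyclotomic_six] at h
  rw [← h, Polynomial.expand_eval]
  simp
  ring

theorem eval_cyc18 (q : ℤ) : (Polynomial.cyclotomic 18 ℤ).eval q = q ^ 6 - q ^ 3 + 1 := by
  have h := Polynomial.cyclotomic_expand_eq_cyclotomic Nat.prime_three (show 3 ∣ 6 by norm_num) ℤ
  rw [show 6 * 3 = 18 from rfl, Polynomial.cyclotomic_six] at h
  rw [← h, Polynomial.expand_eval]
  simp
  ring

/-- the divisors of `q^4 - q^2 + 1` -/
theorem od_of_c12 {q r : ℕ} (hr : r.Prime) (h : (r : ℤ) ∣ pv c12 (q : ℤ)) : od q r = 12 := by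
  rw [pv_c12] at h
  have hr' := Nat.prime_iff_prime_int.1 hr
  have h12 : od q r ∣ 12 := by
    rw [od, ← CycTab.dvd_iff]
    refine h.trans ⟨((q : ℤ) ^ 2 + 1) * ((q : ℤ) ^ 6 - 1), by ring⟩
  have hsmall : ∀ n : ℕ, (r : ℤ) ∣ (n : ℤ) → r ∣ n := fun n h => Int.natCast_dvd_natCast.1 h
  have h6 : ¬ od q r ∣ 6 := by
    intro h1
    rw [od, ← CycTab.dvd_iff] at h1
    have h2 : (r : ℤ) ∣ 2 := by
      have e : (2 : ℤ) = ((q : ℤ) ^ 2 + 1) * ((q : ℤ) ^ 4 - (q : ℤ) ^ 2 + 1) - ((q : ℤ) ^ 6 - 1) := by ring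
      rw [e]
      exact dvd_sub (Dvd.dvd.mul_left h _) h1
    have h3 : r = 2 := (Nat.prime_dvd_prime_iff_eq hr Nat.prime_two).1 (hsmall 2 (by exact_mod_cast h2))
    subst h3
    have h4 : (2 : ℤ) ∣ (q : ℤ) ^ 2 * ((q : ℤ) ^ 2 - 1) := by
      have e : (q : ℤ) ^ 2 * ((q : ℤ) ^ 2 - 1) = ((q : ℤ) - 1) * (q : ℤ) * ((q : ℤ) * ((q : ℤ) + 1)) := by ring
      rw [e]
      have h5 : Even ((q : ℤ) * ((q : ℤ) + 1)) := Int.even_mul_succ_self _
      exact Dvd.dvd.mul_left (even_iff_two_dvd.1 h5) _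
    have h5 : (2 : ℤ) ∣ 1 := by
      have e : (1 : ℤ) = ((q : ℤ) ^ 4 - (q : ℤ) ^ 2 + 1) - (q : ℤ) ^ 2 * ((q : ℤ) ^ 2 - 1) := by ring
      rw [e]
      exact dvd_sub (by exact_mod_cast h) h4
    norm_num at h5
  have h4 : ¬ od q r ∣ 4 := by
    intro h1
    rw [od, ← CycTab.dvd_iff] at h1
    have h2 : (r : ℤ) ∣ (q : ℤ) ^ 2 - 2 := by
      have e : (q : ℤ) ^ 2 - 2 = ((q : ℤ) ^ 4 - 1) - ((q : ℤ) ^ 4 - (q : ℤ) ^ 2 + 1) := by ring
      rw [e]
      exact dvd_sub h1 h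
    have h3 : (r : ℤ) ∣ 3 := by
      have e : (3 : ℤ) = ((q : ℤ) ^ 4 - 1) - ((q : ℤ) ^ 2 + 2) * ((q : ℤ) ^ 2 - 2) := by ring
      rw [e]
      exact dvd_sub h1 (Dvd.dvd.mul_left h2 _)
    have h3 : r = 3 := (Nat.prime_dvd_prime_iff_eq hr Nat.prime_three).1 (hsmall 3 (by exact_mod_cast h3))
    subst h3
    have h5 : ((q : ZMod 3)) ^ 2 - 2 = 0 := by
      have h6 := (ZMod.intCast_zmod_eq_zero_iff_dvd _ 3).2 h2
      push_cast at h6
      exact h6
    have key : ∀ z : ZMod 3, z ^ 2 - 2 ≠ 0 := by decide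
    exact key _ h5
  have h0 : od q r ≤ 12 := Nat.le_of_dvd (by norm_num) h12
  interval_cases h : od q r <;> simp_all

/-- the divisors `≠ 3` of `q^6 - q^3 + 1` -/
theorem od_of_c18 {q r : ℕ} (hr : r.Prime) (h3 : r ≠ 3) (h : (r : ℤ) ∣ pv c18 (q : ℤ)) : od q r = 18 := by
  rw [pv_c18] at h
  have hsmall : ∀ n : ℕ, (r : ℤ) ∣ (n : ℤ) → r ∣ n := fun n h => Int.natCast_dvd_natCast.1 h
  have h18 : od q r ∣ 18 := by
    rw [od, ← CycTab.dvd_iff]
    refine h.trans ⟨((q : ℤ) ^ 3 + 1) * ((q : ℤ) ^ 9 - 1), by ring⟩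
  have h9 : ¬ od q r ∣ 9 := by
    intro h1
    rw [od, ← CycTab.dvd_iff] at h1
    have h2 : (r : ℤ) ∣ 2 := by
      have e : (2 : ℤ) = ((q : ℤ) ^ 3 + 1) * ((q : ℤ) ^ 6 - (q : ℤ) ^ 3 + 1) - ((q : ℤ) ^ 9 - 1) := by ring
      rw [e]
      exact dvd_sub (Dvd.dvd.mul_left h _) h1
    have h3 : r = 2 := (Nat.prime_dvd_prime_iff_eq hr Nat.prime_two).1 (hsmall 2 (by exact_mod_cast h2))
    subst h3
    have h5 : (2 : ℤ) ∣ 1 := by
      have e : (1 : ℤ) = ((q : ℤ) ^ 6 - (q : ℤ) ^ 3 + 1) - ((q : ℤ) ^ 3 - 1) * (((q : ℤ) ^ 3 - 1) + 1) := by ring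
      rw [e]
      exact dvd_sub (by exact_mod_cast h) (even_iff_two_dvd.1 (Int.even_mul_succ_self _))
    norm_num at h5
  have h6 : ¬ od q r ∣ 6 := by
    intro h1
    rw [od, ← CycTab.dvd_iff] at h1
    have h2 : (r : ℤ) ∣ (q : ℤ) ^ 3 - 2 := by
      have e : (q : ℤ) ^ 3 - 2 = ((q : ℤ) ^ 6 - 1) - ((q : ℤ) ^ 6 - (q : ℤ) ^ 3 + 1) := by ring
      rw [e]
      exact dvd_sub h1 h
    have h4 : (r : ℤ) ∣ 3 := by
      have e : (3 : ℤ) = ((q : ℤ) ^ 6 - 1) - ((q : ℤ) ^ 3 + 2) * ((q : ℤ) ^ 3 - 2) := by ring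
      rw [e]
      exact dvd_sub h1 (Dvd.dvd.mul_left h2 _)
    exact h3 ((Nat.prime_dvd_prime_iff_eq hr Nat.prime_three).1 (hsmall 3 (by exact_mod_cast h4)))
  have h0 : od q r ≤ 18 := Nat.le_of_dvd (by norm_num) h18
  interval_cases h : od q r <;> simp_all

theorem near_of_pr {G : Type*} [Group G] {r p : ℕ} (hr : r.Prime) (hp : p.Prime) (hne : r ≠ p) (h : Pr G r p)
    (h2 : p = 2 ∨ Adj G p 2) : Near G r := by
  rcases h2 with rfl | h2
  · exact .of_adj (h.adj hr hp hne)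
  · exact .of_adj_adj (h.adj hr hp hne) h2

theorem two_dvd_c1 {q : ℕ} (h : ¬ 2 ∣ q) : ((2 : ℕ) : ℤ) ∣ pv c1 (q : ℤ) := by
  rw [pv_c1]
  omega

/-! ### `³D₄(q)` -/

section D

variable {K : Type u} [Field K] [Fintype K] {q : ℕ} (hq : IsPrimePow q) (hK : Fintype.card K = q ^ 3)

include hq hK

open Cfsg.Agent.H493.PGD4T in
/-- **`³D₄(q)`**: the prime divisors of the order. -/
theorem near_3D4 {r : ℕ} (hr : r.Prime) (hd : r ∣ Nat.card ↥(twistedD4 K q)) :
    Near ↥(twistedD4 K q) r ∨ od q r = 12 := by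
  by_cases h2 : r = 2
  · exact Or.inl (Or.inl h2)
  obtain ⟨p, n, hp, hn, hpn⟩ := id hq
  have hp := hp.nat_prime
  have hpq : p ∣ q := hpn ▸ dvd_pow_self p hn.ne'
  have hp2 : p = 2 ∨ Adj ↥(twistedD4 K q) p 2 := by
    by_cases hp2 : p = 2
    · exact Or.inl hp2
    · right
      have h2q : ¬ 2 ∣ q := by
        rw [← hpn]
        intro h
        exact hp2 ((Nat.prime_dvd_prime_iff_eq Nat.prime_two hp).1 (Nat.prime_two.dvd_of_dvd_pow h)).symm
      exact (pairD_p hq hK chainA_ok hThA eigA_1 (by decide) (by decide) fixA vanA_1 Nat.prime_two hp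
        (two_dvd_c1 h2q) hpq).symm.adj hp Nat.prime_two hp2
  have hne : ∀ {f : ℕ} {c : Fin (f + 1) → ℤ}, (c 0 = 1 ∨ c 0 = -1) → (r : ℤ) ∣ pv c (q : ℤ) → r ≠ p := by
    intro f c hc h
    rw [← hpn] at h
    exact H493.PGTwist.ne_char hc hp hn h
  rw [Cfsg.Agent.S1067.result hq hK] at hd
  rcases cover hq.two_le hr hd with (h | h | h | h | h) | h
  · left
    rw [← hpn] at h
    rw [(Nat.prime_dvd_prime_iff_eq hr hp).1 (hr.dvd_of_dvd_pow h)]
    rcases hp2 with h3 | h3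
    · exact Or.inl h3
    · exact .of_adj h3
  · exact Or.inl (near_of_pr hr hp (hne (by decide) h)
      (pairD_p hq hK chainA_ok hThA eigA_1 (by decide) (by decide) fixA vanA_1 hr hp h hpq) hp2)
  · exact Or.inl (near_of_pr hr hp (hne (by decide) h)
      (pairD_p hq hK chainB_ok hThB eigB_2 (by decide) (by decide) fixB vanB_2 hr hp h hpq) hp2)
  · exact Or.inl (near_of_pr hr hp (hne (by decide) h)
      (pairD_p hq hK chainA_ok hThA eigA_3 (by decide) (by decide) fixA vanA_3 hr hp h hpq) hp2)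
  · exact Or.inl (near_of_pr hr hp (hne (by decide) h)
      (pairD_p hq hK chainB_ok hThB eigB_6 (by decide) (by decide) fixB vanB_6 hr hp h hpq) hp2)
  · exact Or.inr (od_of_c12 hr h)

/-- **`³D₄(q)`**: centralisers of the elements of order `r`, `q` of order 12 modulo `r`. -/
theorem cent_3D4 {x : ↥(twistedD4 K q)} {r : ℕ} (hr : r.Prime) (hx : orderOf x = r) (h : od q r = 12) :
    (∀ a b : ↥(twistedD4 K q), Commute a x → Commute b x → Commute a b) ∧
      Nat.card ↥(Subgroup.centralizer {x}) ∣ ((Polynomial.cyclotomic 12 ℤ).eval (q : ℤ)).natAbs := by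
  have hfin := H493.PGD4T.finW
  obtain ⟨k, _, _, f, p, _, _, n, hk, hka, hn0, hn⟩ := TorFin.exists_closure K
  obtain ⟨p', e, hp', he, hqe'⟩ := id hq
  have hpF : Fact p.Prime := inferInstance
  have hpp : p' = p := by
    have h1 : p' ∣ p ^ n := by
      rw [← hn, Nat.card_eq_fintype_card, hK, ← hqe']
      exact dvd_pow (dvd_pow_self p' he.ne') (by norm_num)
    exact (Nat.prime_dvd_prime_iff_eq hp'.nat_prime hpF.out).1 (hp'.nat_prime.dvd_of_dvd_pow h1)
  subst hpp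
  have h1 := ExcNear.mod_of_od hr h (by norm_num)
  have h2 := hr.two_le
  have h13 : 13 ≤ r := by
    have := Nat.le_of_dvd (by omega) h1
    omega
  have hqe : q = p' ^ e := hqe'.symm
  have hℓp : r ≠ p' := by
    rintro rfl
    exact RegFin.not_dvd_q hr h (by norm_num) (hqe ▸ dvd_pow_self _ he.ne')
  have key := RegTw.cent_phi RGDTwD4.hp coxeterD4.toCoxeterSystem hk hka he H129.TriD4.isFrob_tau
    (H129.TriD4.fr_tau coxeterD4.toCoxeterSystem) (e0 := H129.TriD4.embT f hq hK) (H129.TriD4.embT_injective f hq hK)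
    (fun a => H129.TriD4.tau_embT f hqe hq hK a) hr hℓp hx (by omega) (m := 12) (by norm_num) (by decide)
    (fun h3 => by have := Nat.le_of_dvd (by norm_num) h3; omega)
    (by rw [hqe']; exact RegFin.cyclotomic_dvd hr h (by norm_num))
  rwa [hqe'] at key

/-- **`³D₄(q)`** -/
theorem ac1'_3D4 : AC1' ↥(twistedD4 K q) := by
  intro x hx h2 hn
  by_cases h12 : od q (orderOf x) = 12
  · exact Or.inl (cent_3D4 hq hK hx rfl h12).1
  · right
    rintro s hs
    have hsd : s.Prime ∧ s ∣ Nat.card ↥(twistedD4 K q) := by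
      rcases hs with rfl | hs
      · exact ⟨hx, orderOf_dvd_natCard x⟩
      · obtain ⟨hs1, -, -, y, x', hy, -⟩ := hs
        exact ⟨hs1, hy ▸ orderOf_dvd_natCard y⟩
    rcases near_3D4 hq hK hsd.1 hsd.2 with h | h
    · exact h
    · exfalso
      rcases hs with rfl | hs
      · exact h12 h
      · obtain ⟨hs1, -, -, y, x', hy, hx', hc⟩ := hs
        have h3 := (cent_3D4 hq hK hs1 hy h).2
        have h4 : orderOf x ∣ ((Polynomial.cyclotomic 12 ℤ).eval (q : ℤ)).natAbs := by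
          rw [← hx']
          have hy' : x' ∈ Subgroup.centralizer {y} := Subgroup.mem_centralizer_singleton_iff.2 hc.symm
          have h5 : orderOf x' ∣ Nat.card ↥(Subgroup.centralizer {y}) := by
            rw [← Subgroup.orderOf_mk x' hy']
            exact orderOf_dvd_natCard _
          exact h5.trans h3
        apply h12
        refine od_of_c12 hx ?_
        rw [pv_c12, ← eval_cyc12]
        exact Int.natCast_dvd.2 h4

theorem good2_3D4 : Good2 ↥(twistedD4 K q) := good2_of_ac1' (ac1'_3D4 hq hK)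

theorem ac_3D4 : AC ↥(twistedD4 K q) := (good2_3D4 hq hK).ac

end D

/-! ### `²E₆(q)` -/

/-- coefficients of a functional, cyclotomic polynomial 1 -/
def VB_1 : Fin 1 → Fin 6 → ℤ := ![![0, 1, 0, 0, 0, 0]]

theorem eigB_1 : EigOK (fun i j => H493.PGE6T.ThB j i) c1 VB_1 ![0, 1, 0, 0, 0, 0] := by decide +kernel

/-- a prime `s ≠ 3` dividing `q² - q + 1` -/
theorem exists_six {q : ℕ} (hq : 3 ≤ q) : ∃ s : ℕ, s.Prime ∧ s ≠ 3 ∧ s ≠ 2 ∧ (s : ℤ) ∣ pv c6 (q : ℤ) := by
  obtain ⟨n, rfl⟩ : ∃ n, q = n + 1 := ⟨q - 1, by omega⟩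
  obtain ⟨s, hs, h3, h2, hd⟩ := ExcNear.exists_three (q := n) (by omega)
  refine ⟨s, hs, h3, h2, ?_⟩
  rw [pv_c6]
  have e : ((n + 1 : ℕ) : ℤ) ^ 2 - ((n + 1 : ℕ) : ℤ) + 1 = ((n ^ 2 + n + 1 : ℕ) : ℤ) := by push_cast; ring
  rw [e]
  exact Int.natCast_dvd_natCast.2 hd

section E

variable {K : Type u} [Field K] [Fintype K] {q : ℕ} (hq : IsPrimePow q) (hK : Fintype.card K = q ^ 2)

include hq hK

/-- elements of order 3 commute with involutions -/
theorem adj_three : Adj ↥(twistedE6 K q) 3 2 := by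
  obtain ⟨k, _, _, ι, hk, hι⟩ := H343.exists_subfield K hq two_ne_zero hK
  have h1 := ETable.Exc.neg_one_pow_q (K := K) hq 2 two_ne_zero (by rw [Nat.card_eq_fintype_card, hK])
  have key : ∀ i, H343.RootIn ETable.Exc.inList_E6 ι (twistedE6 K q) (![39, 44, 60, 71] i) :=
    fun i => ⟨ETable.Exc.orth_twE6.lt i,
      fun t => ETable.Exc.X_mem h1 (ETable.Exc.fix_twE6 i).1 (ETable.Exc.fix_twE6 i).2.1 (hι t),
      fun t => ETable.Exc.X_mem h1 (ETable.Exc.fix_twE6 i).2.2.1 (ETable.Exc.fix_twE6 i).2.2.2 (hι t)⟩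
  obtain ⟨a, ha⟩ := H343.exists_sl2_three k
  let w : Matrix.SpecialLinearGroup (Fin 2) k := ⟨!![0, 1; -1, 0], by simp [Matrix.det_fin_two]⟩
  have hx : orderOf ((key 0).hom a) = 3 := H343.orderOf_hom (key 0).hom (fun _ => (key 0).ker) ha
  have hw4 : w ^ 4 = 1 := by
    have h2 : w * w = -1 := by
      apply Subtype.ext
      show !![(0 : k), 1; -1, 0] * !![0, 1; -1, 0] = _
      rw [Matrix.mul_fin_two]
      ext i j
      fin_cases i <;> fin_cases j <;> simp
    have h3 : w ^ 4 = (w * w) * (w * w) := by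
      rw [show (4 : ℕ) = 2 + 2 from rfl, pow_add, pow_two]
    rw [h3, h2, neg_mul_neg, one_mul]
  have hw1 : (key 1).hom w ≠ 1 := by
    intro h2
    rcases (key 1).ker h2 with h3 | h3
    · have h4 := congrArg (fun g : Matrix.SpecialLinearGroup (Fin 2) k => g.1 0 1) h3
      simp [w] at h4
    · have h4 := congrArg (fun g : Matrix.SpecialLinearGroup (Fin 2) k => g.1 0 1) h3
      simp [w] at h4
  have h2 : 2 ∣ orderOf ((key 1).hom w) := by
    have h5 : orderOf ((key 1).hom w) ∣ 2 ^ 2 := orderOf_dvd_of_pow_eq_one (by rw [← map_pow]; norm_num [hw4])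
    obtain ⟨m, hm, h6⟩ := (Nat.dvd_prime_pow Nat.prime_two).1 h5
    rw [h6]
    apply dvd_pow_self
    rintro rfl
    rw [pow_zero, orderOf_eq_one_iff] at h6
    exact hw1 h6
  refine H94.PG.adj_of_dvd Nat.prime_three Nat.prime_two (by norm_num)
    (x := (key 0).hom a) (y := (key 1).hom w) ?_ (by rw [hx]) h2 (orderOf_pos _).ne' (orderOf_pos _).ne'
  exact (key 0).comm (key 1) (ETable.Exc.orth_twE6.so 0 1 (by decide)) a w

open Cfsg.Agent.H493.PGE6T in
/-- the prime divisors of the order -/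
theorem cases_2E6 {p r : ℕ} (hp : p.Prime) (hpq : p ∣ q) (hr : r.Prime) (hd : r ∣ Nat.card ↥(twistedE6 K q)) :
    (p = 2 ∨ Adj ↥(twistedE6 K q) p 2) ∧
    (r = 2 ∨ Adj ↥(twistedE6 K q) r 2 ∨ (p ≠ 2 ∧ Near ↥(twistedE6 K q) r) ∨
      (r ≠ 3 ∧ ((r : ℤ) ∣ pv c8 (q : ℤ) ∨ (r : ℤ) ∣ pv c12 (q : ℤ) ∨ (r : ℤ) ∣ pv c18 (q : ℤ)))) := by
  obtain ⟨p', n, hp', hn, hpn⟩ := id hq
  have hp' := hp'.nat_prime
  have hpp : p' = p := by
    rw [← hpn] at hpq
    exact ((Nat.prime_dvd_prime_iff_eq hp hp').1 (hp.dvd_of_dvd_pow hpq)).symm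
  subst hpp
  have h3c := fun {s : ℕ} (hs : s.Prime) (h3 : s ≠ 3) => natCard_ne_of hq hK hs h3
  have hp2 : p' = 2 ∨ Adj ↥(twistedE6 K q) p' 2 := by
    by_cases hp2 : p' = 2
    · exact Or.inl hp2
    · right
      have h2q : ¬ 2 ∣ q := by
        rw [← hpn]
        intro h
        exact hp2 ((Nat.prime_dvd_prime_iff_eq Nat.prime_two hp).1 (Nat.prime_two.dvd_of_dvd_pow h)).symm
      exact (pairE_p hq hK chainA_ok hThA eigA_1 (by decide) (by decide) fixA vanA_1 Nat.prime_two hp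
        (h3c Nat.prime_two (by norm_num)) (two_dvd_c1 h2q) hpq).symm.adj hp Nat.prime_two hp2
  refine ⟨hp2, ?_⟩
  by_cases h2 : r = 2
  · exact Or.inl h2
  by_cases h3 : r = 3
  · rw [h3]; exact Or.inr (Or.inl (adj_three hq hK))
  have hne : ∀ {f : ℕ} {c : Fin (f + 1) → ℤ}, (c 0 = 1 ∨ c 0 = -1) → (r : ℤ) ∣ pv c (q : ℤ) → r ≠ p' := by
    intro f c hc h
    rw [← hpn] at h
    exact H493.PGTwist.ne_char hc hp hn h
  have main : r ≠ p' → Pr ↥(twistedE6 K q) r p' → Adj ↥(twistedE6 K q) r 2 ∨ (p' ≠ 2 ∧ Near ↥(twistedE6 K q) r) := by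
    intro h4 h5
    rcases hp2 with h6 | h6
    · left
      rw [h6] at h5
      exact h5.adj hr Nat.prime_two h2
    · exact Or.inr ⟨h6.2.2.1, near_of_pr hr hp h4 h5 (Or.inr h6)⟩
  have main' : r ≠ p' → Pr ↥(twistedE6 K q) r p' → r = 2 ∨ Adj ↥(twistedE6 K q) r 2 ∨
      (p' ≠ 2 ∧ Near ↥(twistedE6 K q) r) ∨
      (r ≠ 3 ∧ ((r : ℤ) ∣ pv c8 (q : ℤ) ∨ (r : ℤ) ∣ pv c12 (q : ℤ) ∨ (r : ℤ) ∣ pv c18 (q : ℤ))) := by
    intro h4 h5
    rcases main h4 h5 with h6 | h6
    · exact Or.inr (Or.inl h6)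
    · exact Or.inr (Or.inr (Or.inl h6))
  have h1 : r ∣ q ^ 36 * (q ^ 2 - 1) * (q ^ 5 + 1) * (q ^ 6 - 1) * (q ^ 8 - 1) * (q ^ 9 + 1) * (q ^ 12 - 1) := by
    rw [← Cfsg.Agent.S1066.result hq hK]
    exact hd.mul_left _
  rcases cover hq.two_le hr h1 with (h | h | h | h | h | h | h) | h | h | h
  · rw [← hpn] at h
    have h4 := (Nat.prime_dvd_prime_iff_eq hr hp).1 (hr.dvd_of_dvd_pow h)
    rw [h4]
    rcases hp2 with h5 | h5
    · exact Or.inl h5
    · exact Or.inr (Or.inl h5)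
  · exact main' (hne (by decide) h)
      (pairE_p hq hK chainA_ok hThA eigA_1 (by decide) (by decide) fixA vanA_1 hr hp (h3c hr h3) h hpq)
  · exact main' (hne (by decide) h)
      (pairE_p hq hK chainA_ok hThA eigA_2 (by decide) (by decide) fixA vanA_2 hr hp (h3c hr h3) h hpq)
  · exact main' (hne (by decide) h)
      (pairE_p hq hK chainB_ok hThB eigB_3 (by decide) (by decide) fixB vanB_3 hr hp (h3c hr h3) h hpq)
  · exact main' (hne (by decide) h)
      (pairE_p hq hK chainC_ok hThC eigC_4 (by decide) (by decide) fixC vanC_4 hr hp (h3c hr h3) h hpq)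
  · exact main' (hne (by decide) h)
      (pairE_p hq hK chainB_ok hThB eigB_6 (by decide) (by decide) fixB vanB_6 hr hp (h3c hr h3) h hpq)
  · exact main' (hne (by decide) h)
      (pairE_p hq hK chainD_ok hThD eigD_10 (by decide) (by decide) fixD vanD_10 hr hp (h3c hr h3) h hpq)
  · exact Or.inr (Or.inr (Or.inr ⟨h3, Or.inl h⟩))
  · exact Or.inr (Or.inr (Or.inr ⟨h3, Or.inr (Or.inl h)⟩))
  · exact Or.inr (Or.inr (Or.inr ⟨h3, Or.inr (Or.inr h)⟩))

open Cfsg.Agent.H493.PGE6T in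
/-- the primes of `q^4 + 1`, `q > 2` -/
theorem near8 (h2q : 2 < q) {p r : ℕ} (hp : p.Prime) (hpq : p ∣ q) (hr : r.Prime) (hr2 : r ≠ 2) (hr3 : r ≠ 3)
    (h : (r : ℤ) ∣ pv c8 (q : ℤ)) : Near ↥(twistedE6 K q) r := by
  have h3c := fun {s : ℕ} (hs : s.Prime) (h3 : s ≠ 3) => natCard_ne_of hq hK hs h3
  by_cases h2 : 2 ∣ q
  · -- `q` even
    have hp2 : p = 2 := by
      obtain ⟨p', n, hp', hn, hpn⟩ := id hq
      rw [← hpn] at h2 hpq
      rw [(Nat.prime_dvd_prime_iff_eq hp hp'.nat_prime).1 (hp.dvd_of_dvd_pow hpq),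
        (Nat.prime_dvd_prime_iff_eq Nat.prime_two hp'.nat_prime).1 (Nat.prime_two.dvd_of_dvd_pow h2)]
    obtain ⟨s, hs, hsd⟩ := Nat.exists_prime_and_dvd (n := q - 1) (by omega)
    have hs2 : s ≠ 2 := by
      rintro rfl
      omega
    have hs1 : (s : ℤ) ∣ pv c1 (q : ℤ) := by
      rw [pv_c1]
      have := Int.natCast_dvd_natCast.2 hsd
      rwa [Nat.cast_sub (by omega), Nat.cast_one] at this
    have hsg : ¬ s ∣ Nat.gcd 3 (q + 1) := by
      intro h4
      have h5 : s ∣ q + 1 := h4.trans (Nat.gcd_dvd_right _ _)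
      have h6 : s ∣ 2 := by
        have e : 2 = (q + 1) - (q - 1) := by omega
        rw [e]
        exact Nat.dvd_sub h5 hsd
      exact hs2 ((Nat.prime_dvd_prime_iff_eq hs Nat.prime_two).1 h6)
    have hrs : Pr ↥(twistedE6 K q) r s := pairE_gen hq hK chainE_ok hThE eigE_8 (by decide) eigE_1 (by decide) hr hs
      (h3c hr hr3) hsg h hs1
    have hsp : Pr ↥(twistedE6 K q) s 2 := pairE_p hq hK chainA_ok hThA eigA_1 (by decide) (by decide) fixA vanA_1 hs
      Nat.prime_two hsg hs1 h2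
    by_cases hrs' : r = s
    · rw [hrs']; exact .of_adj (hsp.adj hs Nat.prime_two hs2)
    · exact .of_adj_adj (hrs.adj hr hs hrs') (hsp.adj hs Nat.prime_two hs2)
  · exact .of_adj ((pairE_gen hq hK chainE_ok hThE eigE_8 (by decide) eigE_1 (by decide) hr Nat.prime_two
      (h3c hr hr3) (h3c Nat.prime_two (by norm_num)) h (two_dvd_c1 h2)).adj hr Nat.prime_two hr2)

open Cfsg.Agent.H493.PGE6T in
/-- the primes of `q^4 - q^2 + 1`, `q > 2` -/
theorem near12 (h2q : 2 < q) {r : ℕ} (hr : r.Prime) (hr3 : r ≠ 3)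
    (h : (r : ℤ) ∣ pv c12 (q : ℤ)) : Near ↥(twistedE6 K q) r := by
  have h3c := fun {s : ℕ} (hs : s.Prime) (h3 : s ≠ 3) => natCard_ne_of hq hK hs h3
  obtain ⟨s, hs, hs3, hs2, hs6⟩ := exists_six (q := q) (by omega)
  have hrs : Pr ↥(twistedE6 K q) r s := pairE_gen hq hK chainF_ok hThF eigF_12 (by decide) eigF_6 (by decide) hr hs
    (h3c hr hr3) (h3c hs hs3) h hs6
  have hs2' : Adj ↥(twistedE6 K q) s 2 := by
    by_cases h2 : 2 ∣ q
    · exact (pairE_p hq hK chainB_ok hThB eigB_6 (by decide) (by decide) fixB vanB_6 hs Nat.prime_two (h3c hs hs3) hs6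
        h2).adj hs Nat.prime_two hs2
    · exact (pairE_gen hq hK chainB_ok hThB eigB_6 (by decide) eigB_1 (by decide) hs Nat.prime_two
        (h3c hs hs3) (h3c Nat.prime_two (by norm_num)) hs6 (two_dvd_c1 h2)).adj hs Nat.prime_two hs2
  by_cases hrs' : r = s
  · rw [hrs']; exact .of_adj hs2'
  · exact .of_adj_adj (hrs.adj hr hs hrs') hs2'

/-- **`²E₆(q)`**: the prime divisors of the order. -/
theorem near_2E6 {r : ℕ} (hr : r.Prime) (hd : r ∣ Nat.card ↥(twistedE6 K q)) :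
    Near ↥(twistedE6 K q) r ∨ od q r = 18 ∨ (q = 2 ∧ (r = 13 ∨ r = 17)) := by
  obtain ⟨p, n, hp, hn, hpn⟩ := id hq
  have hp := hp.nat_prime
  have hpq : p ∣ q := hpn ▸ dvd_pow_self p hn.ne'
  obtain ⟨-, h | h | h | ⟨h3, h⟩⟩ := cases_2E6 hq hK hp hpq hr hd
  · exact Or.inl (Or.inl h)
  · exact Or.inl (.of_adj h)
  · exact Or.inl h.2
  · by_cases hr2 : r = 2
    · exact Or.inl (Or.inl hr2)
    have hq2 := hq.two_le
    by_cases h2 : q = 2
    · rcases h with h | h | h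
      · right; right
        refine ⟨h2, Or.inr ?_⟩
        rw [h2, pv_c8] at h
        have h4 : r ∣ 17 := int_dvd h (by norm_num)
        exact (Nat.prime_dvd_prime_iff_eq hr (by norm_num)).1 h4
      · right; right
        refine ⟨h2, Or.inl ?_⟩
        rw [h2, pv_c12] at h
        have h4 : r ∣ 13 := int_dvd h (by norm_num)
        exact (Nat.prime_dvd_prime_iff_eq hr (by norm_num)).1 h4
      · exact Or.inr (Or.inl (od_of_c18 hr h3 h))
    · rcases h with h | h | h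
      · exact Or.inl (near8 hq hK (by omega) hp hpq hr hr2 h3 h)
      · exact Or.inl (near12 hq hK (by omega) hr h3 h)
      · exact Or.inr (Or.inl (od_of_c18 hr h3 h))

theorem exists_closure' : ∃ (k : Type u) (_ : Field k) (_ : IsAlgClosed k) (_ : K →+* k) (p : ℕ) (_ : Fact p.Prime)
    (_ : CharP k p) (e : ℕ), LocFin k ∧ BpExc.TorAll.HAlg p k ∧ 0 < e ∧ q = p ^ e := by
  obtain ⟨k, _, _, f, p, _, _, n, hk, hka, hn0, hn⟩ := TorFin.exists_closure K
  obtain ⟨p', e, hp', he, hqe'⟩ := id hq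
  have hpF : Fact p.Prime := inferInstance
  have hpp : p' = p := by
    have h1 : p' ∣ p ^ n := by
      rw [← hn, Nat.card_eq_fintype_card, hK, ← hqe']
      exact dvd_pow (dvd_pow_self p' he.ne') (by norm_num)
    exact (Nat.prime_dvd_prime_iff_eq hp'.nat_prime hpF.out).1 (hp'.nat_prime.dvd_of_dvd_pow h1)
  subst hpp
  exact ⟨k, inferInstance, inferInstance, f, p', inferInstance, inferInstance, e, hk, hka, he, hqe'.symm⟩

/-- **`²E₆(q)`**: centralisers of the elements of order `r`, `q` of order 18 modulo `r`. -/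
theorem cent_2E6 {x : ↥(twistedE6 K q)} {r : ℕ} (hr : r.Prime) (hx : orderOf x = r) (h : od q r = 18) :
    (∀ a b : ↥(twistedE6 K q), Commute a x → Commute b x → Commute a b) ∧
      Nat.card ↥(Subgroup.centralizer {x}) ∣ ((Polynomial.cyclotomic 18 ℤ).eval (q : ℤ)).natAbs := by
  have hfin := H493.PGE6.finW
  obtain ⟨k, _, _, f, p, _, _, e, hk, hka, he, hqe⟩ := exists_closure' hq hK
  have h1 := ExcNear.mod_of_od hr h (by norm_num)
  have h2 := hr.two_le
  have h19 : 19 ≤ r := by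
    have := Nat.le_of_dvd (by omega) h1
    omega
  have hℓp : r ≠ p := by
    rintro rfl
    exact RegFin.not_dvd_q hr h (by norm_num) (hqe ▸ dvd_pow_self _ he.ne')
  have key := RegTw.cent_phi RGDTwE6.hp CoxeterMatrix.E₆.toCoxeterSystem hk hka he H493.TwE6Alg.isFrob_tau
    (H493.TwE6Alg.fr_tau CoxeterMatrix.E₆.toCoxeterSystem) (e0 := H493.TwE6Alg.embT f q)
    (H493.TwE6Alg.embT_injective f q)
    (fun a => H493.TwE6Alg.tau_embT f hqe hq hK a) hr hℓp hx (by omega) (m := 18) (by norm_num) (by decide)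
    (fun h3 => by have := Nat.le_of_dvd (by norm_num) h3; omega)
    (by rw [← hqe]; exact RegFin.cyclotomic_dvd hr h (by norm_num))
  rwa [← hqe] at key

/-- **`²E₆(q)`**: an element of prime order `ℓ ∉ {p, 2, 3, 5}` commutes with an element of order `p` or has an abelian
centraliser. -/
theorem comm_or_2E6 {p : ℕ} (hp : p.Prime) (hpq : p ∣ q) {x : ↥(twistedE6 K q)} (hr : (orderOf x).Prime)
    (hxp : orderOf x ≠ p) (h7 : 7 < orderOf x) :
    (∃ v : ↥(twistedE6 K q), orderOf v = p ∧ Commute v x) ∨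
      ∀ a b : ↥(twistedE6 K q), Commute a x → Commute b x → Commute a b := by
  have hfin := H493.PGE6.finW
  obtain ⟨k, _, _, f, p', hpF, _, e, hk, hka, he, hqe⟩ := exists_closure' hq hK
  have hpp : p = p' := by
    rw [hqe] at hpq
    exact (Nat.prime_dvd_prime_iff_eq hp hpF.out).1 (hp.dvd_of_dvd_pow hpq)
  subst hpp
  have hpd : ¬ p ∣ Nat.gcd 3 (q + 1) := by
    intro h3
    have h4 : p ∣ q + 1 := h3.trans (Nat.gcd_dvd_right _ _)
    exact hp.one_lt.ne' (Nat.dvd_one.1 ((Nat.dvd_add_right hpq).1 h4))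
  exact RegTw.adj_or_comm RGDTwE6.hp CoxeterMatrix.E₆.toCoxeterSystem hk hka he H493.TwE6Alg.isFrob_tau
    (H493.TwE6Alg.fr_tau CoxeterMatrix.E₆.toCoxeterSystem) (e0 := H493.TwE6Alg.embT f q)
    (H493.TwE6Alg.embT_injective f q)
    (fun a => H493.TwE6Alg.tau_embT f hqe hq hK a) (d := Nat.gcd 3 (q + 1))
    (fun y hy => H493.TwE6Alg.tau_pow f hqe hq hK hy) hpd hr hxp rfl
    (fun h => by
      have := LatCodim.le_of_dvd_card CoxeterMatrix.E₆.toCoxeterSystem RGDTwE6.hp.isCartan hr h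
      omega)

/-- **`²E₆(q)`** -/
theorem ac1'_2E6 : AC1' ↥(twistedE6 K q) := by
  intro x hx h2 hn
  obtain ⟨p, n, hp, hn', hpn⟩ := id hq
  have hp := hp.nat_prime
  have hpq : p ∣ q := hpn ▸ dvd_pow_self p hn'.ne'
  by_cases h18 : od q (orderOf x) = 18
  · exact Or.inl (cent_2E6 hq hK hx rfl h18).1
  by_cases hq2 : q = 2
  · -- `q = 2`
    left
    have hp2 : p = 2 := by
      rw [hq2] at hpq
      exact (Nat.prime_dvd_prime_iff_eq hp Nat.prime_two).1 hpq
    have h7 : 7 < orderOf x := by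
      obtain ⟨-, h | h | h | ⟨h3, h⟩⟩ := cases_2E6 hq hK hp hpq hx (orderOf_dvd_natCard x)
      · exact absurd h h2
      · exact absurd h hn
      · exact absurd hp2 h.1
      · rcases h with h | h | h
        · rw [pv_c8] at h
          have h4 : orderOf x ∣ 17 := int_dvd h (by norm_num [hq2])
          rw [(Nat.prime_dvd_prime_iff_eq hx (by norm_num)).1 h4]
          norm_num
        · rw [pv_c12] at h
          have h4 : orderOf x ∣ 13 := int_dvd h (by norm_num [hq2])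
          rw [(Nat.prime_dvd_prime_iff_eq hx (by norm_num)).1 h4]
          norm_num
        · exact absurd (od_of_c18 hx h3 h) h18
    rcases comm_or_2E6 hq hK hp hpq hx (by rw [hp2]; exact h2) h7 with ⟨v, hv, hc⟩ | h
    · exact absurd (show Adj ↥(twistedE6 K q) (orderOf x) 2 from
        ⟨hx, Nat.prime_two, h2, x, v, rfl, by rw [hv, hp2], hc.symm⟩) hn
    · exact h
  · right
    rintro s hs
    have hsd : s.Prime ∧ s ∣ Nat.card ↥(twistedE6 K q) := by
      rcases hs with rfl | hs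
      · exact ⟨hx, orderOf_dvd_natCard x⟩
      · obtain ⟨hs1, -, -, y, x', hy, -⟩ := hs
        exact ⟨hs1, hy ▸ orderOf_dvd_natCard y⟩
    rcases near_2E6 hq hK hsd.1 hsd.2 with h | h | h
    · exact h
    · exfalso
      rcases hs with rfl | hs
      · exact h18 h
      · obtain ⟨hs1, -, -, y, x', hy, hx', hc⟩ := hs
        have h3 := (cent_2E6 hq hK hs1 hy h).2
        have h4 : orderOf x ∣ ((Polynomial.cyclotomic 18 ℤ).eval (q : ℤ)).natAbs := by
          rw [← hx']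
          have hy' : x' ∈ Subgroup.centralizer {y} := Subgroup.mem_centralizer_singleton_iff.2 hc.symm
          have h5 : orderOf x' ∣ Nat.card ↥(Subgroup.centralizer {y}) := by
            rw [← Subgroup.orderOf_mk x' hy']
            exact orderOf_dvd_natCard _
          exact h5.trans h3
        have hx3 : orderOf x ≠ 3 := by
          intro h5
          rw [h5] at hn
          exact hn (adj_three hq hK)
        apply h18
        refine od_of_c18 hx hx3 ?_
        rw [pv_c18, ← eval_cyc18]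
        exact Int.natCast_dvd.2 h4
    · exact absurd h.1 hq2

theorem good2_2E6 : Good2 ↥(twistedE6 K q) := good2_of_ac1' (ac1'_2E6 hq hK)

theorem ac_2E6 : AC ↥(twistedE6 K q) := (good2_2E6 hq hK).ac

end E

end Cfsg.Agent.H378.TwRows
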