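import Cfsg.Agent.H378.AdjTab

/-!
# Cyclotomic values (helper378)

`c m` : the coefficients of the `m`-th cyclotomic polynomial; `pv_m` : the polynomial; `dvd_m` : if `q` has order `m`
modulo the prime `r` then `r` divides its value at `q`.
-/

set_option autoImplicit false

namespace Cfsg.Agent.H378.CycTab

open Cfsg.Agent.H493.PGTorus

theorem dvd_iff {r q : ℕ} (n : ℕ) : (r : ℤ) ∣ (q : ℤ) ^ n - 1 ↔ orderOf (q : ZMod r) ∣ n := by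
  rw [← ZMod.intCast_zmod_eq_zero_iff_dvd, orderOf_dvd_iff_pow_eq_one]
  push_cast
  exact sub_eq_zero

theorem of_factor {r : ℕ} (hr : r.Prime) {q m : ℕ} (h : orderOf (q : ZMod r) = m) {P g1 g2 g3 : ℤ} {a b c : ℕ}
    (ha : ¬ m ∣ a) (hb : ¬ m ∣ b) (hc : ¬ m ∣ c) (h1 : g1 ∣ (q : ℤ) ^ a - 1) (h2 : g2 ∣ (q : ℤ) ^ b - 1)
    (h3 : g3 ∣ (q : ℤ) ^ c - 1) (e : (q : ℤ) ^ m - 1 = g1 * g2 * g3 * P) : (r : ℤ) ∣ P := by
  have hp := Nat.prime_iff_prime_int.1 hr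
  have h0 : (r : ℤ) ∣ g1 * g2 * g3 * P := by
    rw [← e, dvd_iff, h]
  rcases hp.dvd_or_dvd h0 with h4 | h4
  · rcases hp.dvd_or_dvd h4 with h5 | h5
    · rcases hp.dvd_or_dvd h5 with h6 | h6
      · exact absurd (h ▸ (dvd_iff a).1 (h6.trans h1)) ha
      · exact absurd (h ▸ (dvd_iff b).1 (h6.trans h2)) hb
    · exact absurd (h ▸ (dvd_iff c).1 (h5.trans h3)) hc
  · exact h4


/-- the cyclotomic polynomial of index 1 -/
def c1 : Fin (0 + 1) → ℤ := ![-1]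

theorem pv1 (q : ℤ) : pv c1 q = q - 1 := by
  simp [pv, c1, Fin.sum_univ_succ]
  try ring

theorem dvd1 {r : ℕ} {q : ℕ} (h : orderOf (q : ZMod r) = 1) : (r : ℤ) ∣ pv c1 (q : ℤ) := by
  rw [pv1]
  have h1 := (dvd_iff (r := r) (q := q) 1).2 (by rw [h])
  rwa [pow_one] at h1

/-- the cyclotomic polynomial of index 2 -/
def c2 : Fin (0 + 1) → ℤ := ![1]

theorem pv2 (q : ℤ) : pv c2 q = q + 1 := by
  simp [pv, c2, Fin.sum_univ_succ]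
  try ring

theorem dvd2 {r : ℕ} (hr : r.Prime) {q : ℕ} (h : orderOf (q : ZMod r) = 2) : (r : ℤ) ∣ pv c2 (q : ℤ) := by
  rw [pv2]
  exact of_factor hr h (a := 1) (b := 1) (c := 1) (by decide) (by decide) (by decide)
    (⟨1, by ring⟩) (one_dvd _) (one_dvd _)
    (show _ = ((q : ℤ) ^ 1 - 1) * (1) * (1) * _ by ring)

/-- the cyclotomic polynomial of index 3 -/
def c3 : Fin (1 + 1) → ℤ := ![1, 1]

theorem pv3 (q : ℤ) : pv c3 q = q ^ 2 + q + 1 := by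
  simp [pv, c3, Fin.sum_univ_succ]
  try ring

theorem dvd3 {r : ℕ} (hr : r.Prime) {q : ℕ} (h : orderOf (q : ZMod r) = 3) : (r : ℤ) ∣ pv c3 (q : ℤ) := by
  rw [pv3]
  exact of_factor hr h (a := 1) (b := 1) (c := 1) (by decide) (by decide) (by decide)
    (⟨1, by ring⟩) (one_dvd _) (one_dvd _)
    (show _ = ((q : ℤ) ^ 1 - 1) * (1) * (1) * _ by ring)

/-- the cyclotomic polynomial of index 4 -/
def c4 : Fin (1 + 1) → ℤ := ![1, 0]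

theorem pv4 (q : ℤ) : pv c4 q = q ^ 2 + 1 := by
  simp [pv, c4, Fin.sum_univ_succ]
  try ring

theorem dvd4 {r : ℕ} (hr : r.Prime) {q : ℕ} (h : orderOf (q : ZMod r) = 4) : (r : ℤ) ∣ pv c4 (q : ℤ) := by
  rw [pv4]
  exact of_factor hr h (a := 2) (b := 1) (c := 1) (by decide) (by decide) (by decide)
    (⟨1, by ring⟩) (one_dvd _) (one_dvd _)
    (show _ = ((q : ℤ) ^ 2 - 1) * (1) * (1) * _ by ring)

/-- the cyclotomic polynomial of index 5 -/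
def c5 : Fin (3 + 1) → ℤ := ![1, 1, 1, 1]

theorem pv5 (q : ℤ) : pv c5 q = q ^ 4 + q ^ 3 + q ^ 2 + q + 1 := by
  simp [pv, c5, Fin.sum_univ_succ]
  try ring

theorem dvd5 {r : ℕ} (hr : r.Prime) {q : ℕ} (h : orderOf (q : ZMod r) = 5) : (r : ℤ) ∣ pv c5 (q : ℤ) := by
  rw [pv5]
  exact of_factor hr h (a := 1) (b := 1) (c := 1) (by decide) (by decide) (by decide)
    (⟨1, by ring⟩) (one_dvd _) (one_dvd _)
    (show _ = ((q : ℤ) ^ 1 - 1) * (1) * (1) * _ by ring)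

/-- the cyclotomic polynomial of index 6 -/
def c6 : Fin (1 + 1) → ℤ := ![1, -1]

theorem pv6 (q : ℤ) : pv c6 q = q ^ 2 - q + 1 := by
  simp [pv, c6, Fin.sum_univ_succ]
  try ring

theorem dvd6 {r : ℕ} (hr : r.Prime) {q : ℕ} (h : orderOf (q : ZMod r) = 6) : (r : ℤ) ∣ pv c6 (q : ℤ) := by
  rw [pv6]
  exact of_factor hr h (a := 3) (b := 2) (c := 1) (by decide) (by decide) (by decide)
    (⟨1, by ring⟩) (⟨(q : ℤ) - 1, by ring⟩) (one_dvd _)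
    (show _ = ((q : ℤ) ^ 3 - 1) * ((q : ℤ) + 1) * (1) * _ by ring)

/-- the cyclotomic polynomial of index 7 -/
def c7 : Fin (5 + 1) → ℤ := ![1, 1, 1, 1, 1, 1]

theorem pv7 (q : ℤ) : pv c7 q = q ^ 6 + q ^ 5 + q ^ 4 + q ^ 3 + q ^ 2 + q + 1 := by
  simp [pv, c7, Fin.sum_univ_succ]
  try ring

theorem dvd7 {r : ℕ} (hr : r.Prime) {q : ℕ} (h : orderOf (q : ZMod r) = 7) : (r : ℤ) ∣ pv c7 (q : ℤ) := by
  rw [pv7]
  exact of_factor hr h (a := 1) (b := 1) (c := 1) (by decide) (by decide) (by decide)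
    (⟨1, by ring⟩) (one_dvd _) (one_dvd _)
    (show _ = ((q : ℤ) ^ 1 - 1) * (1) * (1) * _ by ring)

/-- the cyclotomic polynomial of index 8 -/
def c8 : Fin (3 + 1) → ℤ := ![1, 0, 0, 0]

theorem pv8 (q : ℤ) : pv c8 q = q ^ 4 + 1 := by
  simp [pv, c8, Fin.sum_univ_succ]
  try ring

theorem dvd8 {r : ℕ} (hr : r.Prime) {q : ℕ} (h : orderOf (q : ZMod r) = 8) : (r : ℤ) ∣ pv c8 (q : ℤ) := by
  rw [pv8]
  exact of_factor hr h (a := 4) (b := 1) (c := 1) (by decide) (by decide) (by decide)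
    (⟨1, by ring⟩) (one_dvd _) (one_dvd _)
    (show _ = ((q : ℤ) ^ 4 - 1) * (1) * (1) * _ by ring)

/-- the cyclotomic polynomial of index 9 -/
def c9 : Fin (5 + 1) → ℤ := ![1, 0, 0, 1, 0, 0]

theorem pv9 (q : ℤ) : pv c9 q = q ^ 6 + q ^ 3 + 1 := by
  simp [pv, c9, Fin.sum_univ_succ]
  try ring

theorem dvd9 {r : ℕ} (hr : r.Prime) {q : ℕ} (h : orderOf (q : ZMod r) = 9) : (r : ℤ) ∣ pv c9 (q : ℤ) := by
  rw [pv9]
  exact of_factor hr h (a := 3) (b := 1) (c := 1) (by decide) (by decide) (by decide)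
    (⟨1, by ring⟩) (one_dvd _) (one_dvd _)
    (show _ = ((q : ℤ) ^ 3 - 1) * (1) * (1) * _ by ring)

/-- the cyclotomic polynomial of index 10 -/
def c10 : Fin (3 + 1) → ℤ := ![1, -1, 1, -1]

theorem pv10 (q : ℤ) : pv c10 q = q ^ 4 - q ^ 3 + q ^ 2 - q + 1 := by
  simp [pv, c10, Fin.sum_univ_succ]
  try ring

theorem dvd10 {r : ℕ} (hr : r.Prime) {q : ℕ} (h : orderOf (q : ZMod r) = 10) : (r : ℤ) ∣ pv c10 (q : ℤ) := by
  rw [pv10]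
  exact of_factor hr h (a := 5) (b := 2) (c := 1) (by decide) (by decide) (by decide)
    (⟨1, by ring⟩) (⟨(q : ℤ) - 1, by ring⟩) (one_dvd _)
    (show _ = ((q : ℤ) ^ 5 - 1) * ((q : ℤ) + 1) * (1) * _ by ring)

/-- the cyclotomic polynomial of index 12 -/
def c12 : Fin (3 + 1) → ℤ := ![1, 0, -1, 0]

theorem pv12 (q : ℤ) : pv c12 q = q ^ 4 - q ^ 2 + 1 := by
  simp [pv, c12, Fin.sum_univ_succ]
  try ring

theorem dvd12 {r : ℕ} (hr : r.Prime) {q : ℕ} (h : orderOf (q : ZMod r) = 12) : (r : ℤ) ∣ pv c12 (q : ℤ) := by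
  rw [pv12]
  exact of_factor hr h (a := 6) (b := 4) (c := 1) (by decide) (by decide) (by decide)
    (⟨1, by ring⟩) (⟨(q : ℤ) ^ 2 - 1, by ring⟩) (one_dvd _)
    (show _ = ((q : ℤ) ^ 6 - 1) * ((q : ℤ) ^ 2 + 1) * (1) * _ by ring)

/-- the cyclotomic polynomial of index 14 -/
def c14 : Fin (5 + 1) → ℤ := ![1, -1, 1, -1, 1, -1]

theorem pv14 (q : ℤ) : pv c14 q = q ^ 6 - q ^ 5 + q ^ 4 - q ^ 3 + q ^ 2 - q + 1 := by
  simp [pv, c14, Fin.sum_univ_succ]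
  try ring

theorem dvd14 {r : ℕ} (hr : r.Prime) {q : ℕ} (h : orderOf (q : ZMod r) = 14) : (r : ℤ) ∣ pv c14 (q : ℤ) := by
  rw [pv14]
  exact of_factor hr h (a := 7) (b := 2) (c := 1) (by decide) (by decide) (by decide)
    (⟨1, by ring⟩) (⟨(q : ℤ) - 1, by ring⟩) (one_dvd _)
    (show _ = ((q : ℤ) ^ 7 - 1) * ((q : ℤ) + 1) * (1) * _ by ring)

/-- the cyclotomic polynomial of index 15 -/
def c15 : Fin (7 + 1) → ℤ := ![1, -1, 0, 1, -1, 1, 0, -1]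

theorem pv15 (q : ℤ) : pv c15 q = q ^ 8 - q ^ 7 + q ^ 5 - q ^ 4 + q ^ 3 - q + 1 := by
  simp [pv, c15, Fin.sum_univ_succ]
  try ring

theorem dvd15 {r : ℕ} (hr : r.Prime) {q : ℕ} (h : orderOf (q : ZMod r) = 15) : (r : ℤ) ∣ pv c15 (q : ℤ) := by
  rw [pv15]
  exact of_factor hr h (a := 5) (b := 3) (c := 1) (by decide) (by decide) (by decide)
    (⟨1, by ring⟩) (⟨(q : ℤ) - 1, by ring⟩) (one_dvd _)
    (show _ = ((q : ℤ) ^ 5 - 1) * ((q : ℤ) ^ 2 + (q : ℤ) + 1) * (1) * _ by ring)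

/-- the cyclotomic polynomial of index 18 -/
def c18 : Fin (5 + 1) → ℤ := ![1, 0, 0, -1, 0, 0]

theorem pv18 (q : ℤ) : pv c18 q = q ^ 6 - q ^ 3 + 1 := by
  simp [pv, c18, Fin.sum_univ_succ]
  try ring

theorem dvd18 {r : ℕ} (hr : r.Prime) {q : ℕ} (h : orderOf (q : ZMod r) = 18) : (r : ℤ) ∣ pv c18 (q : ℤ) := by
  rw [pv18]
  exact of_factor hr h (a := 9) (b := 6) (c := 1) (by decide) (by decide) (by decide)
    (⟨1, by ring⟩) (⟨(q : ℤ) ^ 3 - 1, by ring⟩) (one_dvd _)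
    (show _ = ((q : ℤ) ^ 9 - 1) * ((q : ℤ) ^ 3 + 1) * (1) * _ by ring)

/-- the cyclotomic polynomial of index 20 -/
def c20 : Fin (7 + 1) → ℤ := ![1, 0, -1, 0, 1, 0, -1, 0]

theorem pv20 (q : ℤ) : pv c20 q = q ^ 8 - q ^ 6 + q ^ 4 - q ^ 2 + 1 := by
  simp [pv, c20, Fin.sum_univ_succ]
  try ring

theorem dvd20 {r : ℕ} (hr : r.Prime) {q : ℕ} (h : orderOf (q : ZMod r) = 20) : (r : ℤ) ∣ pv c20 (q : ℤ) := by
  rw [pv20]
  exact of_factor hr h (a := 10) (b := 4) (c := 1) (by decide) (by decide) (by decide)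
    (⟨1, by ring⟩) (⟨(q : ℤ) ^ 2 - 1, by ring⟩) (one_dvd _)
    (show _ = ((q : ℤ) ^ 10 - 1) * ((q : ℤ) ^ 2 + 1) * (1) * _ by ring)

/-- the cyclotomic polynomial of index 24 -/
def c24 : Fin (7 + 1) → ℤ := ![1, 0, 0, 0, -1, 0, 0, 0]

theorem pv24 (q : ℤ) : pv c24 q = q ^ 8 - q ^ 4 + 1 := by
  simp [pv, c24, Fin.sum_univ_succ]
  try ring

theorem dvd24 {r : ℕ} (hr : r.Prime) {q : ℕ} (h : orderOf (q : ZMod r) = 24) : (r : ℤ) ∣ pv c24 (q : ℤ) := by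
  rw [pv24]
  exact of_factor hr h (a := 12) (b := 8) (c := 1) (by decide) (by decide) (by decide)
    (⟨1, by ring⟩) (⟨(q : ℤ) ^ 4 - 1, by ring⟩) (one_dvd _)
    (show _ = ((q : ℤ) ^ 12 - 1) * ((q : ℤ) ^ 4 + 1) * (1) * _ by ring)

/-- the cyclotomic polynomial of index 30 -/
def c30 : Fin (7 + 1) → ℤ := ![1, 1, 0, -1, -1, -1, 0, 1]

theorem pv30 (q : ℤ) : pv c30 q = q ^ 8 + q ^ 7 - q ^ 5 - q ^ 4 - q ^ 3 + q + 1 := by
  simp [pv, c30, Fin.sum_univ_succ]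
  try ring

theorem dvd30 {r : ℕ} (hr : r.Prime) {q : ℕ} (h : orderOf (q : ZMod r) = 30) : (r : ℤ) ∣ pv c30 (q : ℤ) := by
  rw [pv30]
  exact of_factor hr h (a := 15) (b := 10) (c := 6) (by decide) (by decide) (by decide)
    (⟨1, by ring⟩) (⟨(q : ℤ) ^ 5 - 1, by ring⟩) (⟨((q : ℤ) ^ 3 - 1) * ((q : ℤ) + 1), by ring⟩)
    (show _ = ((q : ℤ) ^ 15 - 1) * ((q : ℤ) ^ 5 + 1) * ((q : ℤ) ^ 2 - (q : ℤ) + 1) * _ by ring)

end Cfsg.Agent.H378.CycTab
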