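import Cfsg.Agent.H493.PGTorus
import Cfsg.Agent.H378.SmallTor
import Cfsg.Agent.H94.PrimeGraph

/-!
# Adjacency to 2 from explicit Weyl group elements (helper378)

* `RowOK` : the checks (chain of partial products, fixed root, eigenvector modulo `f`);
* `exists_order_dvd` : an element of order `m` for every `m ∣ f(q)`;
* `exists_comm_row` : Lemma R from a row; `adj_row`.
* `exists_hom'` : `ℤ^l/(w-q) → D.group F` with kernel of exponent dividing `gcd(d, q-1)`.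
* `ord` facts: `orderOf (q : ZMod r)`.
-/

set_option autoImplicit false
set_option linter.unusedSectionVars false

namespace Cfsg.Agent.H378.AdjTab

open CoxeterSystem Subgroup Cfsg Cfsg.Lie Cfsg.Lie.ChevalleyDatum
open Cfsg.Agent.ChevalleyStructure Cfsg.Agent.ChevalleyStructure.Elts Cfsg.Agent.ChevalleyStructure.CoxeterGeom
  Cfsg.Agent.ChevalleyStructure.CoxeterGeomTypes Cfsg.Agent.ChevalleyStructure.NPerm
open Cfsg.Agent.Tits.Roots Cfsg.Agent.Tits.Core Cfsg.Agent.Nodes.Reps Cfsg.Agent.Nodes.BNOf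
  Cfsg.Agent.Nodes.RGDChev Cfsg.Agent.Nodes.Bruhat
open Cfsg.Agent.KFacts.RgdField Cfsg.Agent.KFacts.RgdChevCoord Cfsg.Agent.BpExc.TorCent Cfsg.Agent.BpExc.TorChev
open Cfsg.Agent.BpExc.Tow Cfsg.Agent.BpExc.TowChev Cfsg.Agent.BpExc.FamExt Cfsg.Agent.BpExc.FamUntw
  Cfsg.Agent.BpExc.FamInst Cfsg.Agent.BpExc.LangFr Cfsg.Agent.BpExc.FamField
open Cfsg.Agent.GpExc.Field (glMap emb coe_emb glMap_xG emb_injective coe_glMap)
open Cfsg.Agent.H378.TorDual Cfsg.Agent.H378.TorChar Cfsg.Agent.H378.TorFin Cfsg.Agent.H378.RankOne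
  Cfsg.Agent.H378.RootTor Cfsg.Agent.H378.SmallTor
open Cfsg.Agent.H493.PGTorus Cfsg.Agent.H129.WData

universe u v

/-! ### checks -/

/-- the checks of a row: the word and its partial products, the fixed vector `a`, the eigenvector modulo `f` -/
def RowOK {l f : ℕ} (A : Mat l) (L : List (Fin l × Mat l)) (a : Fin l → ℤ) (c : Fin (f + 1) → ℤ)
    (V : Fin (f + 1) → Fin l → ℤ) (U : Fin l → ℤ) : Prop :=
  ChainOK A L ∧ (∀ m, ∑ j, a j * hd L j m = a m) ∧ EigOK (hd L) c V U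

instance decRowOK {l f : ℕ} (A : Mat l) (L : List (Fin l × Mat l)) (a : Fin l → ℤ) (c : Fin (f + 1) → ℤ)
    (V : Fin (f + 1) → Fin l → ℤ) (U : Fin l → ℤ) : Decidable (RowOK A L a c V U) := by
  unfold RowOK; infer_instance

/-- **An element of order `m` in the cokernel** for every `m ∣ f(q)`. -/
theorem exists_order_dvd {l : ℕ} {w : Module.End ℤ (Fin l → ℤ)} {Th : Fin l → Fin l → ℤ}
    (hw : ∀ (x : Fin l → ℤ) (m : Fin l), w x m = ∑ j, x j * Th j m) {n : ℕ} (hn : 0 < n)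
    (hwn : w ^ n = 1) {f : ℕ} {c : Fin (f + 1) → ℤ} {V : Fin (f + 1) → Fin l → ℤ} {U : Fin l → ℤ}
    (h : EigOK Th c V U) {q : ℤ} (hq : 2 ≤ q) {m : ℕ} (hm : 0 < m) (hd : (m : ℤ) ∣ pv c q) :
    ∃ y : Multiplicative (Co (w - q • (1 : Module.End ℤ (Fin l → ℤ)))), orderOf y = m := by
  obtain ⟨N, hN⟩ := hd
  have h1 := eig_apply hw h q
  have h2 := eig_unit h q
  set v := vval V q
  let u : Fin l → ℤ := -N • V (Fin.last f)
  have hu : (w - q • (1 : Module.End ℤ (Fin l → ℤ))) v = (m : ℤ) • u := by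
    rw [h1, hN]
    show _ = (m : ℤ) • (-N • V (Fin.last f))
    rw [smul_smul]
    congr 1
    ring
  refine ⟨Multiplicative.ofAdd (Submodule.Quotient.mk u), ?_⟩
  have key : ∀ j : ℕ, (Multiplicative.ofAdd (Submodule.Quotient.mk u :
      Co (w - q • (1 : Module.End ℤ (Fin l → ℤ))))) ^ j = 1 ↔ m ∣ j := by
    intro j
    rw [← ofAdd_nsmul, ofAdd_eq_one, ← Submodule.Quotient.mk_smul, Submodule.Quotient.mk_eq_zero]
    constructor
    · rintro ⟨v', hv'⟩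
      have h4 : (w - q • (1 : Module.End ℤ (Fin l → ℤ))) ((j : ℤ) • v - (m : ℤ) • v') = 0 := by
        have e1 : (w - q • (1 : Module.End ℤ (Fin l → ℤ))) ((j : ℤ) • v) = (j : ℤ) • (m : ℤ) • u := by
          rw [map_smul, hu]
        have e2 : (w - q • (1 : Module.End ℤ (Fin l → ℤ))) ((m : ℤ) • v') = (m : ℤ) • (j : ℤ) • u := by
          rw [map_smul, hv', natCast_zsmul u j]
        rw [map_sub, e1, e2, smul_comm, sub_self]
      have h5 := sub_injective hn hwn hq h4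
      have h6 : (j : ℤ) • v = (m : ℤ) • v' := sub_eq_zero.mp h5
      have h7 : (m : ℤ) ∣ (j : ℤ) := by
        have h8 : (j : ℤ) = ∑ i, U i * ((j : ℤ) • v) i := by
          have : ∑ i, U i * ((j : ℤ) • v) i = (j : ℤ) * ∑ i, U i * v i := by
            rw [Finset.mul_sum]
            exact Finset.sum_congr rfl fun i _ => by
              show U i * ((j : ℤ) * v i) = _
              ring
          rw [this, h2, mul_one]
        rw [h8, h6]
        refine Finset.dvd_sum fun i _ => ?_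
        show (m : ℤ) ∣ U i * ((m : ℤ) * v' i)
        exact ⟨U i * v' i, by ring⟩
      exact Int.natCast_dvd_natCast.mp h7
    · rintro ⟨i, rfl⟩
      refine ⟨(i : ℤ) • v, ?_⟩
      rw [map_smul, hu, smul_smul, ← natCast_zsmul]
      congr 1
      push_cast
      ring
  refine (orderOf_eq_iff hm).2 ⟨(key m).2 dvd_rfl, fun j hj hj0 hj1 => ?_⟩
  exact absurd (Nat.le_of_dvd hj0 ((key j).1 hj1)) (not_le.2 hj)

variable {D : ChevalleyDatum} {l : ℕ} {M : CoxeterMatrix (Fin l)} (hp : IsType D l M)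
  {W : Type*} [Group W] [Finite W] (cs : CoxeterSystem M W)

theorem exists_order_row {A : Mat l} (hA : ∀ i j, A i j = cartanOf D l i j) {L : List (Fin l × Mat l)}
    (hL : ChainOK A L) {f : ℕ} {c : Fin (f + 1) → ℤ} {V : Fin (f + 1) → Fin l → ℤ} {U : Fin l → ℤ}
    (h : EigOK (hd L) c V U) {q : ℕ} (hq : 2 ≤ q) {m : ℕ} (hm : 0 < m) (hdv : (m : ℤ) ∣ pv c (q : ℤ)) :
    ∃ y : Multiplicative (Co (rep cs hp.isCartan (cs.wordProd (L.map Prod.fst)) - ((q : ℕ) : ℤ) •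
      (1 : Module.End ℤ (Fin l → ℤ)))), orderOf y = m := by
  have hwn : (rep cs hp.isCartan (cs.wordProd (L.map Prod.fst))) ^ Nat.card W = 1 := by
    rw [← map_pow, pow_card_eq_one', map_one]
  exact exists_order_dvd (rep_apply_eq hp cs (chain_rep hp cs hA hL)) Nat.card_pos hwn h (by exact_mod_cast hq) hm hdv

theorem fixes_of_row {A : Mat l} (hA : ∀ i j, A i j = cartanOf D l i j) {L : List (Fin l × Mat l)}
    (hL : ChainOK A L) {a : Fin l → ℤ} (ha : ∀ m, ∑ j, a j * hd L j m = a m) :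
    rep cs hp.isCartan (cs.wordProd (L.map Prod.fst)) a = a := by
  funext m
  rw [rep_apply_eq hp cs (chain_rep hp cs hA hL)]
  exact ha m

include hp cs in
/-- **Lemma R from a row.** -/
theorem exists_comm_row {d : ℕ} {B : Fin l → Fin l → ℤ} (hB : InvC D l d B) (hd0 : d ≠ 0) {A : Mat l}
    (hA : ∀ i j, A i j = cartanOf D l i j) {L : List (Fin l × Mat l)} {r : ℕ} (hr : r < D.nroots)
    {f : ℕ} {c : Fin (f + 1) → ℤ} {V : Fin (f + 1) → Fin l → ℤ} {U : Fin l → ℤ}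
    (h : RowOK A L (vec D l r) c V U) {F : Type u} [Field F] [Finite F] {ℓ : ℕ} (hℓ : ℓ.Prime)
    (hℓq : ¬ ℓ ∣ Nat.card F - 1) (hdv : (ℓ : ℤ) ∣ pv c (Nat.card F : ℕ)) {p : ℕ} [Fact p.Prime] [CharP F p] :
    ∃ x u n : ↥(D.group F), orderOf x = ℓ ∧ orderOf u = p ∧ 2 ∣ orderOf n ∧ Commute x u ∧ Commute x n := by
  obtain ⟨h1, h2, h3⟩ := h
  exact RootTor.exists_comm hp cs hB hd0 (isRoot_vec hp cs hr) (fixes_of_row hp cs hA h1 h2) hℓ hℓq
    (exists_order_row hp cs hA h1 h3 Finite.one_lt_card hℓ.pos hdv)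

theorem adj_of_two {Y : Type*} [Group Y] [Finite Y] {ℓ : ℕ} (hℓ : ℓ.Prime) (h2 : ℓ ≠ 2) {x n : Y}
    (hx : orderOf x = ℓ) (hn : 2 ∣ orderOf n) (h : Commute x n) : H94.PG.Adj Y ℓ 2 :=
  H94.PG.adj_of_dvd hℓ Nat.prime_two h2 h (by rw [hx]) hn (orderOf_pos _).ne' (orderOf_pos _).ne'

include hp cs in
/-- **Adjacency to 2 and to `p` from a row.** -/
theorem adj_row {d : ℕ} {B : Fin l → Fin l → ℤ} (hB : InvC D l d B) (hd0 : d ≠ 0) {A : Mat l}
    (hA : ∀ i j, A i j = cartanOf D l i j) {L : List (Fin l × Mat l)} {r : ℕ} (hr : r < D.nroots)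
    {f : ℕ} {c : Fin (f + 1) → ℤ} {V : Fin (f + 1) → Fin l → ℤ} {U : Fin l → ℤ}
    (h : RowOK A L (vec D l r) c V U) {F : Type u} [Field F] [Finite F] {ℓ : ℕ} (hℓ : ℓ.Prime) (hℓ2 : ℓ ≠ 2)
    (hℓq : ¬ ℓ ∣ Nat.card F - 1) (hdv : (ℓ : ℤ) ∣ pv c (Nat.card F : ℕ)) : H94.PG.Adj ↥(D.group F) ℓ 2 := by
  obtain ⟨p, _, _, -⟩ := exists_charP F
  obtain ⟨x, u, n, hx, -, hn, -, hc⟩ := exists_comm_row hp cs hB hd0 hA hr h hℓ hℓq hdv (p := p)
  exact adj_of_two hℓ hℓ2 hx hn hc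

/-! ### tori: the refined homomorphism -/

section Hom

variable {k : Type u} [Field k] [IsAlgClosed k] (hk : LocFin k) (r : ℕ) [Fact r.Prime] [CharP k r]
  {F : Type u} [Field F] [Finite F] (f : F →+* k) {n : ℕ} (hn0 : 0 < n) (hn : Nat.card F = r ^ n)
  {d : ℕ} {B : Fin l → Fin l → ℤ} (hB : InvC D l d B) (hd : d ≠ 0)

include hk hn0 hn hB hd f in
theorem exists_hom_aux' (w : W) : ∃ φ : Multiplicative (Co (rep cs hp.isCartan w - ((Nat.card F : ℕ) : ℤ) •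
    (1 : Module.End ℤ (Fin l → ℤ)))) →* ↥(D.group F), ∀ x, φ x = 1 → x ^ Nat.gcd d (Nat.card F - 1) = 1 := by
  obtain ⟨d', hd'⟩ : ∃ d', d' = Nat.gcd d (Nat.card F - 1) := ⟨_, rfl⟩
  rw [← hd', hn]
  obtain ⟨g, hg⟩ := exists_rp cs (nsysL hp cs hk r) w
  obtain ⟨z, hz⟩ := lang' hp r hn0 g
  obtain ⟨e, he⟩ := twEquiv hp cs r hk hB hd hg (m := n)
  obtain ⟨e'⟩ := kerOf_equiv k (det_rep_ne_zero cs r hn0 hp.isCartan w)
  have h1 : ∀ t : ↥(TwT D k r n g), ∃ x : ↥(D.group F), emb hp.inList f x = (z * t.1 * z⁻¹) ^ d' := fun t => by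
    rw [hd']
    exact fix_pow_mem' hp f r hn hB hd (conj_fix r hz t.2)
  choose ψ hψ using h1
  have hmul : ∀ s t : ↥(TwT D k r n g), ψ (s * t) = ψ s * ψ t := by
    intro s t
    apply emb_injective hp.inList f
    rw [map_mul, hψ, hψ, hψ]
    have h2 : z * (s * t).1 * z⁻¹ = (z * s.1 * z⁻¹) * (z * t.1 * z⁻¹) := by
      show z * (s.1 * t.1) * z⁻¹ = _
      group
    rw [h2]
    refine (Commute.mul_pow ?_ d')
    show z * s.1 * z⁻¹ * (z * t.1 * z⁻¹) = z * t.1 * z⁻¹ * (z * s.1 * z⁻¹)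
    calc z * s.1 * z⁻¹ * (z * t.1 * z⁻¹) = z * (s.1 * t.1) * z⁻¹ := by group
      _ = z * (t.1 * s.1) * z⁻¹ := by rw [TwT_comm hp r s.2 t.2]
      _ = _ := by group
  let Ψ : ↥(TwT D k r n g) →* ↥(D.group F) := MonoidHom.mk' ψ hmul
  refine ⟨Ψ.comp (e.symm.toMonoidHom.comp e'.symm.toMonoidHom), fun x hx => ?_⟩
  obtain ⟨t, ht⟩ : ∃ t, t = e.symm (e'.symm x) := ⟨_, rfl⟩
  have h3 : ψ t = 1 := by rw [ht]; exact hx
  have h4 : (z * t.1 * z⁻¹) ^ d' = 1 := by rw [← hψ, h3, map_one]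
  have h5 : t ^ d' = 1 := by
    apply Subtype.ext
    rw [Subgroup.coe_pow, Subgroup.coe_one]
    have h6 : (z * t.1 * z⁻¹) ^ d' = z * t.1 ^ d' * z⁻¹ := conj_pow
    rw [h6] at h4
    have h7 : t.1 ^ d' = z⁻¹ * (z * t.1 ^ d' * z⁻¹) * z := by group
    rw [h7, h4]
    group
  have h8 : x = e' (e t) := by rw [ht, MulEquiv.apply_symm_apply, MulEquiv.apply_symm_apply]
  rw [h8, ← map_pow, ← map_pow, h5, map_one, map_one]

end Hom

/-- **Maximal tori up to exponent `gcd(d, q-1)`.** -/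
theorem exists_hom' {d : ℕ} {B : Fin l → Fin l → ℤ} (hB : InvC D l d B) (hd : d ≠ 0) {F : Type u} [Field F] [Finite F]
    (w : W) : ∃ φ : Multiplicative (Co (rep cs hp.isCartan w - ((Nat.card F : ℕ) : ℤ) •
      (1 : Module.End ℤ (Fin l → ℤ)))) →* ↥(D.group F), ∀ x, φ x = 1 → x ^ Nat.gcd d (Nat.card F - 1) = 1 := by
  obtain ⟨k, _, _, f, r, _, _, n, hk, -, hn0, hn⟩ := exists_closure F
  exact exists_hom_aux' hp cs hk r f hn0 hn hB hd w

include hp cs in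
/-- **Two commuting elements from a torus**: `m ∣ f(q)`, `m' ∣ f'(q)`, orders divisible by the primes `ℓ`, `s` if
`m`, `m'` do not divide `ℓ'`-parts: `ℓ = m`, and `s ∣ m'` with `m' ∤ gcd(d,q-1) * (prime to s)`. -/
theorem exists_comm_torus {d : ℕ} {B : Fin l → Fin l → ℤ} (hB : InvC D l d B) (hd0 : d ≠ 0) {A : Mat l}
    (hA : ∀ i j, A i j = cartanOf D l i j) {L : List (Fin l × Mat l)} (hL : ChainOK A L)
    {f : ℕ} {c : Fin (f + 1) → ℤ} {V : Fin (f + 1) → Fin l → ℤ} {U : Fin l → ℤ} (h : EigOK (hd L) c V U)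
    {f' : ℕ} {c' : Fin (f' + 1) → ℤ} {V' : Fin (f' + 1) → Fin l → ℤ} {U' : Fin l → ℤ} (h' : EigOK (hd L) c' V' U')
    {F : Type u} [Field F] [Finite F] {m m' : ℕ} (hm : 0 < m) (hm' : 0 < m')
    (hdv : (m : ℤ) ∣ pv c (Nat.card F : ℕ)) (hdv' : (m' : ℤ) ∣ pv c' (Nat.card F : ℕ)) :
    ∃ x y : ↥(D.group F), Commute x y ∧ m ∣ orderOf x * Nat.gcd d (Nat.card F - 1) ∧
      m' ∣ orderOf y * Nat.gcd d (Nat.card F - 1) := by
  obtain ⟨φ, hφ⟩ := exists_hom' hp cs hB hd0 (F := F) (cs.wordProd (L.map Prod.fst))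
  obtain ⟨x, hx⟩ := exists_order_row hp cs hA hL h (Finite.one_lt_card (α := F)) hm hdv
  obtain ⟨y, hy⟩ := exists_order_row hp cs hA hL h' (Finite.one_lt_card (α := F)) hm' hdv'
  have key : ∀ z, orderOf z ∣ orderOf (φ z) * Nat.gcd d (Nat.card F - 1) := by
    intro z
    apply orderOf_dvd_of_pow_eq_one
    rw [pow_mul]
    apply hφ
    rw [map_pow, pow_orderOf_eq_one]
  refine ⟨φ x, φ y, ?_, ?_, ?_⟩
  · show φ x * φ y = φ y * φ x
    rw [← map_mul, ← map_mul, mul_comm]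
  · rw [← hx]; exact key x
  · rw [← hy]; exact key y

end Cfsg.Agent.H378.AdjTab
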