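import Cfsg.Agent.BpExc.NChev
import Cfsg.Agent.KFacts.RgdSL

/-!
# Exponents of unipotent groups (helper378)

* `Ab.pow`, `Two.pow` : a group generated by commuting elements of order dividing `p`; a group of class two generated by
  elements of order dividing 3;
* `pow_mem`, `cube_mem` : the same for joins of root groups: `x ∈ ⟨X a : a ∈ S⟩`, `S' ⊆ S` containing the sums of
  elements of `S` : `x ^ p ∈ ⟨X a : a ∈ S'⟩`; if `S'` contains the sums of three elements of `S` and `p = 3`: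
  `x ^ 3 ∈ ⟨X a : a ∈ S'⟩`.
-/

set_option autoImplicit false
set_option linter.unusedSectionVars false

namespace Cfsg.Agent.H378.NilExp

open scoped commutatorElement

universe u

/-! ### groups -/

section Grp

variable {G : Type u} [Group G]

theorem comm_of_gen {s : Set G} (hs : Subgroup.closure s = ⊤) (hc : ∀ x ∈ s, ∀ y ∈ s, x * y = y * x) (x y : G) :
    x * y = y * x := by
  have h1 : ∀ y ∈ s, ∀ x : G, x * y = y * x := by
    intro y hy x
    have hx : x ∈ Subgroup.closure s := by rw [hs]; exact Subgroup.mem_top x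
    induction hx using Subgroup.closure_induction with
    | mem x hx => exact hc x hx y hy
    | one => rw [one_mul, mul_one]
    | mul a b _ _ ha hb => rw [mul_assoc, hb, ← mul_assoc, ha, mul_assoc]
    | inv a _ ha => exact ((show Commute a y from ha).inv_left).eq
  have hy : y ∈ Subgroup.closure s := by rw [hs]; exact Subgroup.mem_top y
  induction hy using Subgroup.closure_induction with
  | mem y hy => exact h1 y hy x
  | one => rw [one_mul, mul_one]
  | mul a b _ _ ha hb => rw [← mul_assoc, ha, mul_assoc, hb, mul_assoc]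
  | inv a _ ha => exact ((show Commute x a from ha).inv_right).eq

theorem ab_pow {s : Set G} (hs : Subgroup.closure s = ⊤) (hc : ∀ x ∈ s, ∀ y ∈ s, x * y = y * x) {p : ℕ}
    (hp : ∀ x ∈ s, x ^ p = 1) (x : G) : x ^ p = 1 := by
  have hx : x ∈ Subgroup.closure s := by rw [hs]; exact Subgroup.mem_top x
  induction hx using Subgroup.closure_induction with
  | mem x hx => exact hp x hx
  | one => exact one_pow p
  | mul a b _ _ ha hb =>
    rw [(show Commute a b from comm_of_gen hs hc a b).mul_pow, ha, hb, one_mul]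
  | inv a _ ha => rw [inv_pow, ha, inv_one]

/-- class two, exponent three -/
theorem cube {s : Set G} (hs : Subgroup.closure s = ⊤) {Z : Subgroup G} (hZ : ∀ z ∈ Z, ∀ x ∈ s, z * x = x * z)
    (hc : ∀ x ∈ s, ∀ y ∈ s, ⁅x, y⁆ ∈ Z) (h3 : ∀ x ∈ s, x ^ 3 = 1) (x : G) : x ^ 3 = 1 := by
  have hcen : ∀ z ∈ Z, ∀ x : G, z * x = x * z := by
    intro z hz x
    have hx : x ∈ Subgroup.closure s := by rw [hs]; exact Subgroup.mem_top x
    induction hx using Subgroup.closure_induction with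
    | mem x hx => exact hZ z hz x hx
    | one => rw [one_mul, mul_one]
    | mul a b _ _ ha hb => rw [← mul_assoc, ha, mul_assoc, hb, mul_assoc]
    | inv a _ ha => exact ((show Commute z a from ha).inv_right).eq
  -- the elements of `Z` of order 3
  let K : Subgroup G :=
    { carrier := {z | z ∈ Z ∧ z ^ 3 = 1}
      one_mem' := ⟨one_mem _, one_pow 3⟩
      mul_mem' := fun {a b} ha hb => ⟨mul_mem ha.1 hb.1, by
        rw [(show Commute a b from hcen a ha.1 b).mul_pow, ha.2, hb.2, one_mul]⟩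
      inv_mem' := fun {a} ha => ⟨inv_mem ha.1, by rw [inv_pow, ha.2, inv_one]⟩ }
  have hK : ∀ x ∈ s, ∀ y ∈ s, ⁅x, y⁆ ∈ K := by
    intro x hx y hy
    refine ⟨hc x hx y hy, ?_⟩
    set c := ⁅x, y⁆ with hcd
    have hcc : ∀ g, c * g = g * c := hcen c (hc x hx y hy)
    have e : x * y = c * y * x := by rw [hcd, commutatorElement_def]; group
    have e1 : x * y * x⁻¹ = c * y := by rw [e]; group
    have e3 : x ^ 3 * y * (x ^ 3)⁻¹ = c ^ 3 * y := by
      calc x ^ 3 * y * (x ^ 3)⁻¹ = x * (x * (x * y * x⁻¹) * x⁻¹) * x⁻¹ := by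
            rw [pow_succ, pow_two]; group
        _ = x * (x * (c * y) * x⁻¹) * x⁻¹ := by rw [e1]
        _ = x * (c * (x * y * x⁻¹)) * x⁻¹ := by
            congr 2
            calc x * (c * y) * x⁻¹ = (x * c) * y * x⁻¹ := by group
              _ = (c * x) * y * x⁻¹ := by rw [hcc x]
              _ = _ := by group
        _ = x * (c * (c * y)) * x⁻¹ := by rw [e1]
        _ = c * c * (x * y * x⁻¹) := by
            calc x * (c * (c * y)) * x⁻¹ = (x * c) * (c * y) * x⁻¹ := by group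
              _ = (c * x) * (c * y) * x⁻¹ := by rw [hcc x]
              _ = c * (x * c) * y * x⁻¹ := by group
              _ = c * (c * x) * y * x⁻¹ := by rw [hcc x]
              _ = _ := by group
        _ = c * c * (c * y) := by rw [e1]
        _ = c ^ 3 * y := by rw [pow_succ, pow_two]; group
    rw [h3 x hx, one_mul, inv_one, mul_one] at e3
    exact (mul_eq_right.1 e3.symm)
  -- all commutators are in `K`
  have hK1 : ∀ y ∈ s, ∀ x : G, ⁅x, y⁆ ∈ K := by
    intro y hy x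
    have hx : x ∈ Subgroup.closure s := by rw [hs]; exact Subgroup.mem_top x
    induction hx using Subgroup.closure_induction with
    | mem x hx => exact hK x hx y hy
    | one => rw [commutatorElement_one_left]; exact one_mem _
    | mul a b _ _ ha hb =>
      have e : ⁅a * b, y⁆ = ⁅b, y⁆ * ⁅a, y⁆ := by
        have h1 : ⁅a * b, y⁆ = a * ⁅b, y⁆ * a⁻¹ * ⁅a, y⁆ := by
          rw [commutatorElement_def, commutatorElement_def, commutatorElement_def]; group
        rw [h1, ← hcen _ hb.1 a, mul_inv_cancel_right]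
      rw [e]
      exact mul_mem hb ha
    | inv a _ ha =>
      have e : ⁅a⁻¹, y⁆ = ⁅a, y⁆⁻¹ := by
        have h1 : ⁅a⁻¹, y⁆ = a⁻¹ * ⁅a, y⁆⁻¹ * a := by
          rw [commutatorElement_def, commutatorElement_def]; group
        rw [h1, ← hcen _ (inv_mem ha.1) a⁻¹, mul_assoc, inv_mul_cancel, mul_one]
      rw [e]
      exact inv_mem ha
  have hK2 : ∀ x y : G, ⁅x, y⁆ ∈ K := by
    intro x y
    have hy : y ∈ Subgroup.closure s := by rw [hs]; exact Subgroup.mem_top y
    induction hy using Subgroup.closure_induction with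
    | mem y hy => exact hK1 y hy x
    | one => rw [commutatorElement_one_right]; exact one_mem _
    | mul a b _ _ ha hb =>
      have e : ⁅x, a * b⁆ = ⁅x, a⁆ * ⁅x, b⁆ := by
        have h1 : ⁅x, a * b⁆ = ⁅x, a⁆ * (a * ⁅x, b⁆ * a⁻¹) := by
          rw [commutatorElement_def, commutatorElement_def, commutatorElement_def]; group
        rw [h1, ← hcen _ hb.1 a, mul_inv_cancel_right]
      rw [e]
      exact mul_mem ha hb
    | inv a _ ha =>
      have e : ⁅x, a⁻¹⁆ = ⁅x, a⁆⁻¹ := by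
        have h1 : ⁅x, a⁻¹⁆ = a⁻¹ * ⁅x, a⁆⁻¹ * a := by
          rw [commutatorElement_def, commutatorElement_def]; group
        rw [h1, ← hcen _ (inv_mem ha.1) a⁻¹, mul_assoc, inv_mul_cancel, mul_one]
      rw [e]
      exact inv_mem ha
  have hx : x ∈ Subgroup.closure s := by rw [hs]; exact Subgroup.mem_top x
  induction hx using Subgroup.closure_induction with
  | mem x hx => exact h3 x hx
  | one => exact one_pow 3
  | mul a b _ _ ha hb =>
    obtain ⟨hd, hd3⟩ := hK2 b a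
    set d := ⁅b, a⁆ with hdd
    have hdc : ∀ g, d * g = g * d := hcen d hd
    have e : b * a = d * (a * b) := by rw [hdd, commutatorElement_def]; group
    calc (a * b) ^ 3 = a * (b * a) * (b * a) * b := by rw [pow_succ, pow_two]; group
      _ = a * (d * (a * b)) * (d * (a * b)) * b := by rw [e]
      _ = d * (d * (a * a * (b * a) * b * b)) := by
          have h1 : a * (d * (a * b)) * (d * (a * b)) * b = (a * d) * (a * b) * d * (a * b * b) := by group
          have h2 : (a * b) * d = d * (a * b) := (hdc _).symm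
          rw [h1, ← hdc a]
          calc d * a * (a * b) * d * (a * b * b) = d * a * ((a * b) * d) * (a * b * b) := by group
            _ = d * a * (d * (a * b)) * (a * b * b) := by rw [h2]
            _ = d * (a * d) * (a * b) * (a * b * b) := by group
            _ = d * (d * a) * (a * b) * (a * b * b) := by rw [← hdc a]
            _ = _ := by group
      _ = d * (d * (a * a * (d * (a * b)) * b * b)) := by rw [e]
      _ = d * (d * (d * (a * a * a * b * b * b))) := by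
          congr 2
          have h2 : (a * a) * d = d * (a * a) := (hdc _).symm
          calc a * a * (d * (a * b)) * b * b = ((a * a) * d) * (a * b * b * b) := by group
            _ = (d * (a * a)) * (a * b * b * b) := by rw [h2]
            _ = _ := by group
      _ = d ^ 3 * (a ^ 3 * b ^ 3) := by
          rw [pow_succ, pow_two, pow_succ, pow_two, pow_succ, pow_two]; group
      _ = 1 := by rw [hd3, ha, hb, one_mul, one_mul]
  | inv a _ ha => rw [inv_pow, ha, inv_one]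

/-- the quotient of the closure -/
theorem exists_quot {s : Set G} {N : Subgroup G} (hN : Subgroup.closure s ≤ Subgroup.normalizer (N : Set G)) :
    ∃ (Q : Type u) (_ : Group Q) (π : ↥(Subgroup.closure s) →* Q), (∀ x, π x = 1 ↔ (x : G) ∈ N) ∧
      Subgroup.closure (π '' {x | (x : G) ∈ s}) = ⊤ := by
  have hn : (N.subgroupOf (Subgroup.closure s)).Normal := by
    constructor
    rintro ⟨y, hy⟩ hyN ⟨g, hg⟩
    rw [Subgroup.mem_subgroupOf] at hyN ⊢
    exact (Subgroup.mem_normalizer_iff.1 (hN hg) y).1 hyN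
  refine ⟨_, inferInstance, QuotientGroup.mk' (N.subgroupOf (Subgroup.closure s)), fun x => ?_, ?_⟩
  · rw [QuotientGroup.mk'_apply, QuotientGroup.eq_one_iff, Subgroup.mem_subgroupOf]
  · rw [← MonoidHom.map_closure]
    have h1 : Subgroup.closure {x : ↥(Subgroup.closure s) | (x : G) ∈ s} = ⊤ :=
      Subgroup.closure_closure_coe_preimage
    rw [h1, ← MonoidHom.range_eq_map, MonoidHom.range_eq_top]
    exact QuotientGroup.mk'_surjective _

theorem pow_mem_of_gen {s : Set G} {N : Subgroup G} (hN : Subgroup.closure s ≤ Subgroup.normalizer (N : Set G))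
    (hc : ∀ x ∈ s, ∀ y ∈ s, ⁅x, y⁆ ∈ N) {p : ℕ} (hp : ∀ x ∈ s, x ^ p ∈ N) {x : G} (hx : x ∈ Subgroup.closure s) :
    x ^ p ∈ N := by
  obtain ⟨Q, _, π, h1, h2⟩ := exists_quot hN
  have h3 := ab_pow h2 (p := p) (by
    rintro _ ⟨x, hx, rfl⟩ _ ⟨y, hy, rfl⟩
    rw [← commutatorElement_eq_one_iff_mul_comm, ← map_commutatorElement, h1]
    exact hc _ hx _ hy) (by
    rintro _ ⟨x, hx, rfl⟩
    rw [← map_pow, h1]
    exact hp _ hx) (π ⟨x, hx⟩)
  rw [← map_pow, h1] at h3
  exact h3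

theorem cube_mem_of_gen {s : Set G} {N Z : Subgroup G}
    (hN : Subgroup.closure s ≤ Subgroup.normalizer (N : Set G)) (_hZ : Z ≤ Subgroup.closure s)
    (hZs : ∀ z ∈ Z, ∀ x ∈ s, ⁅z, x⁆ ∈ N) (hc : ∀ x ∈ s, ∀ y ∈ s, ⁅x, y⁆ ∈ Z) (h3 : ∀ x ∈ s, x ^ 3 ∈ N) {x : G}
    (hx : x ∈ Subgroup.closure s) : x ^ 3 ∈ N := by
  obtain ⟨Q, _, π, h1, h2⟩ := exists_quot hN
  have h3 := cube h2 (Z := (Z.subgroupOf (Subgroup.closure s)).map π) (by
    rintro _ ⟨z, hz, rfl⟩ _ ⟨x, hx, rfl⟩
    rw [← commutatorElement_eq_one_iff_mul_comm, ← map_commutatorElement, h1]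
    exact hZs _ hz _ hx) (by
    rintro _ ⟨x, hx, rfl⟩ _ ⟨y, hy, rfl⟩
    rw [← map_commutatorElement]
    exact ⟨⁅x, y⁆, hc _ hx _ hy, rfl⟩) (by
    rintro _ ⟨x, hx, rfl⟩
    rw [← map_pow, h1]
    exact h3 _ hx) (π ⟨x, hx⟩)
  rw [← map_pow, h1] at h3
  exact h3

end Grp

/-! ### joins of root groups -/

open CoxeterSystem Cfsg Cfsg.Lie Cfsg.Lie.ChevalleyDatum
open Cfsg.Agent.ChevalleyStructure Cfsg.Agent.ChevalleyStructure.Elts Cfsg.Agent.ChevalleyStructure.CoxeterGeom
  Cfsg.Agent.ChevalleyStructure.CoxeterGeomTypes Cfsg.Agent.ChevalleyStructure.NPerm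
open Cfsg.Agent.Tits.Roots Cfsg.Agent.Tits.Core Cfsg.Agent.Nodes Cfsg.Agent.Nodes.Reps Cfsg.Agent.Nodes.BNOf
  Cfsg.Agent.Nodes.RGDChev Cfsg.Agent.Nodes.Bruhat
open Cfsg.Agent.KFacts.RgdField Cfsg.Agent.KFacts.RgdChevCoord
open Cfsg.Agent.BpExc.TowChev

section Sup

variable {I Y : Type*} [Fintype I] [DecidableEq I] [Group Y] {X : (I → ℤ) → Subgroup Y} {S S₁ S' : Set (I → ℤ)}

theorem Sup_eq_closure (X : (I → ℤ) → Subgroup Y) (S : Set (I → ℤ)) :
    RGD.Sup X S = Subgroup.closure {y | ∃ a ∈ S, y ∈ X a} := by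
  apply le_antisymm
  · exact RGD.Sup_le fun a ha y hy => Subgroup.subset_closure ⟨a, ha, hy⟩
  · rw [Subgroup.closure_le]
    rintro y ⟨a, ha, hy⟩
    exact RGD.le_Sup ha hy

/-- closed under the commutators with the root groups -/
theorem le_normalizer_of (hc : ∀ a ∈ S, ∀ b ∈ S', ∀ x ∈ X a, ∀ y ∈ X b, ⁅x, y⁆ ∈ RGD.Sup X S') :
    RGD.Sup X S ≤ Subgroup.normalizer (RGD.Sup X S' : Set Y) := by
  have key : ∀ a ∈ S, ∀ x ∈ X a, ∀ y ∈ RGD.Sup X S', x * y * x⁻¹ ∈ RGD.Sup X S' := by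
    intro a ha x hx y hy
    have h1 : RGD.Sup X S' ≤ (RGD.Sup X S').comap (MulAut.conj x).toMonoidHom := by
      refine RGD.Sup_le fun b hb y hy => ?_
      have h2 : x * y * x⁻¹ = ⁅x, y⁆ * y := by rw [commutatorElement_def]; group
      show x * y * x⁻¹ ∈ RGD.Sup X S'
      rw [h2]
      exact mul_mem (hc a ha b hb x hx y hy) (RGD.le_Sup hb hy)
    exact h1 hy
  refine RGD.Sup_le fun a ha x hx => ?_
  rw [Subgroup.mem_normalizer_iff]
  intro y
  refine ⟨key a ha x hx y, fun h1 => ?_⟩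
  have h2 := key a ha x⁻¹ (inv_mem hx) _ h1
  have h3 : x⁻¹ * (x * y * x⁻¹) * x⁻¹⁻¹ = y := by group
  rwa [h3] at h2

/-- a commutator condition extends to the join -/
theorem comm_Sup {N : Subgroup Y} {x : Y} (hN : RGD.Sup X S ≤ Subgroup.normalizer (N : Set Y))
    (hc : ∀ a ∈ S, ∀ y ∈ X a, ⁅y, x⁆ ∈ N) {y : Y} (hy : y ∈ RGD.Sup X S) : ⁅y, x⁆ ∈ N := by
  have hy' := hy
  rw [Sup_eq_closure] at hy'
  induction hy' using Subgroup.closure_induction with
  | mem y hy' =>
    obtain ⟨a, ha, hya⟩ := hy'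
    exact hc a ha y hya
  | one => rw [commutatorElement_one_left]; exact one_mem _
  | mul a b ha hb iha ihb =>
    rw [← Sup_eq_closure] at ha hb
    have h1 : ⁅a * b, x⁆ = a * ⁅b, x⁆ * a⁻¹ * ⁅a, x⁆ := by
      rw [commutatorElement_def, commutatorElement_def, commutatorElement_def]; group
    rw [h1]
    exact mul_mem ((Subgroup.mem_normalizer_iff.1 (hN ha) _).1 (ihb hb)) (iha ha)
  | inv a ha iha =>
    rw [← Sup_eq_closure] at ha
    have h1 : ⁅a⁻¹, x⁆ = a⁻¹ * ⁅a, x⁆⁻¹ * a⁻¹⁻¹ := by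
      rw [commutatorElement_def, commutatorElement_def]; group
    rw [h1]
    exact (Subgroup.mem_normalizer_iff.1 (hN (inv_mem ha)) _).1 (inv_mem (iha ha))

theorem pow_mem (hSS : S' ⊆ S) (hc : ∀ a ∈ S, ∀ b ∈ S, ∀ x ∈ X a, ∀ y ∈ X b, ⁅x, y⁆ ∈ RGD.Sup X S') {p : ℕ}
    (hp : ∀ a ∈ S, ∀ x ∈ X a, x ^ p = 1) {x : Y} (hx : x ∈ RGD.Sup X S) : x ^ p ∈ RGD.Sup X S' := by
  have hN := le_normalizer_of (S := S) (S' := S') fun a ha b hb => hc a ha b (hSS hb)
  rw [Sup_eq_closure X S] at hx hN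
  refine pow_mem_of_gen hN ?_ ?_ hx
  · rintro x ⟨a, ha, hx⟩ y ⟨b, hb, hy⟩
    exact hc a ha b hb x hx y hy
  · rintro x ⟨a, ha, hx⟩
    rw [hp a ha x hx]
    exact one_mem _

theorem cube_mem (hSS₁ : S₁ ⊆ S) (hSS : S' ⊆ S₁)
    (hc : ∀ a ∈ S, ∀ b ∈ S, ∀ x ∈ X a, ∀ y ∈ X b, ⁅x, y⁆ ∈ RGD.Sup X S₁)
    (hc' : ∀ a ∈ S₁, ∀ b ∈ S, ∀ x ∈ X a, ∀ y ∈ X b, ⁅x, y⁆ ∈ RGD.Sup X S')
    (hp : ∀ a ∈ S, ∀ x ∈ X a, x ^ 3 = 1) {x : Y} (hx : x ∈ RGD.Sup X S) : x ^ 3 ∈ RGD.Sup X S' := by
  have hN := le_normalizer_of (S := S) (S' := S') fun a ha b hb x hx y hy => by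
    have h1 := hc' b (hSS hb) a ha y hy x hx
    rw [← commutatorElement_inv]
    exact inv_mem h1
  have hN₁ := le_trans (RGD.Sup_mono (X := X) hSS₁) hN
  have hcc : ∀ z ∈ RGD.Sup X S₁, ∀ b ∈ S, ∀ x ∈ X b, ⁅z, x⁆ ∈ RGD.Sup X S' := fun z hz b hb x hx =>
    comm_Sup hN₁ (fun a ha y hy => hc' a ha b hb y hy x hx) hz
  have hle : RGD.Sup X S₁ ≤ Subgroup.closure {y | ∃ a ∈ S, y ∈ X a} := by
    rw [← Sup_eq_closure]; exact RGD.Sup_mono hSS₁
  rw [Sup_eq_closure X S] at hx hN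
  refine cube_mem_of_gen (Z := RGD.Sup X S₁) hN hle ?_ ?_ ?_ hx
  · rintro z hz x ⟨b, hb, hx⟩
    exact hcc z hz b hb x hx
  · rintro x ⟨a, ha, hx⟩ y ⟨b, hb, hy⟩
    exact hc a ha b hb x hx y hy
  · rintro x ⟨a, ha, hx⟩
    rw [hp a ha x hx]
    exact one_mem _

end Sup

/-! ### simply laced Chevalley groups -/

section Chev

variable {D : ChevalleyDatum} {l : ℕ} {M : CoxeterMatrix (Fin l)} (hp : IsType D l M) {K : Type*} [Field K]
  {W : Type*} [Group W] (cs : CoxeterSystem M W)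

/-- the commutators of two positive root groups, simply laced case -/
theorem comm_pos [Finite W] (hs : KFacts.RgdSL.SL cs hp.isCartan) (hk : LocFin K) (p : ℕ) [Fact p.Prime] [CharP K p]
    {S : Set (Fin l → ℤ)} {a b : Fin l → ℤ}
    (ha : IsRoot cs hp.isCartan a) (ha0 : 0 ≤ a) (hb : IsRoot cs hp.isCartan b) (hb0 : 0 ≤ b)
    (hS : IsRoot cs hp.isCartan (a + b) → a + b ∈ S) {x y : ↥(D.group K)} (hx : x ∈ XX D l K a)
    (hy : y ∈ XX D l K b) : ⁅x, y⁆ ∈ RGD.Sup (XX D l K) S := by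
  have C := coordsL hp cs hk p
  by_cases hab : a = b
  · subst hab
    obtain ⟨s, rfl⟩ := ((C.coord a ha).mem x).1 hx
    obtain ⟨t, rfl⟩ := ((C.coord a ha).mem y).1 hy
    have h1 : ⁅xc hp a s, xc hp a t⁆ = 1 := by
      rw [commutatorElement_eq_one_iff_mul_comm, ← (C.coord a ha).add, ← (C.coord a ha).add, add_comm]
    rw [h1]
    exact one_mem _
  · have hab' : a ≠ -b := by
      rintro rfl
      exact hb.neg.not_pos_neg ha0 (neg_nonpos.2 hb0)
    refine RGD.Sup_mono (S := BpExc.CommZ.combZ cs hp a b) ?_ (BpExc.CommZ.comm_mem_Z hp cs ha hb hab hab' hx hy)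
    rintro z ⟨hz, i, j, hi, hj, e⟩
    have hB : Btwn cs hp.isCartan a b z := ⟨hz, 1, i, j, one_pos, by exact_mod_cast hi, by exact_mod_cast hj, by
      rw [one_smul, e, natCast_zsmul, natCast_zsmul]⟩
    have h1 := (hs.btwn ha hb hab hab' hB).2
    rw [h1] at hz ⊢
    exact hS hz

theorem pow_root (hk : LocFin K) (p : ℕ) [Fact p.Prime] [CharP K p] {a : Fin l → ℤ}
    (ha : IsRoot cs hp.isCartan a) {x : ↥(D.group K)} (hx : x ∈ XX D l K a) : x ^ p = 1 := by
  have C := coordsL hp cs hk p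
  obtain ⟨s, rfl⟩ := ((C.coord a ha).mem x).1 hx
  have h1 : ∀ n : ℕ, xc hp a s ^ n = xc hp a (n * s) := by
    intro n
    induction n with
    | zero => rw [pow_zero, Nat.cast_zero, zero_mul, (C.coord a ha).zero]
    | succ n ih => rw [pow_succ, ih, ← (C.coord a ha).add, Nat.cast_succ, add_mul, one_mul]
  rw [h1, CharP.cast_eq_zero, zero_mul, (C.coord a ha).zero]

end Chev

end Cfsg.Agent.H378.NilExp
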