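import Mathlib

/-!
# The Weyl group of type `D₄` times the triality: tables (helper378)

`Tab` : the 192 matrices `w · tri`, `w` in the Weyl group, with words conjugating them to the seven representatives
`reps`. The lattice statements needed for the element orders of `³D₄(q)`.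
-/

set_option autoImplicit false

namespace Cfsg.Agent.H378.OmD4

/-- integral vectors with four coordinates -/
@[ext] structure V where
  a : ℤ
  b : ℤ
  c : ℤ
  d : ℤ
deriving DecidableEq

namespace V

def fn (v : V) : Fin 4 → ℤ := ![v.a, v.b, v.c, v.d]

def add (u v : V) : V := ⟨u.a + v.a, u.b + v.b, u.c + v.c, u.d + v.d⟩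

def sm (n : ℤ) (v : V) : V := ⟨n * v.a, n * v.b, n * v.c, n * v.d⟩

end V

/-- four by four matrices, given by the images of the basis vectors -/
@[ext] structure Mx where
  x : V
  y : V
  z : V
  w : V
deriving DecidableEq

namespace Mx

def ap (F : Mx) (v : V) : V :=
  ⟨v.a * F.x.a + v.b * F.y.a + v.c * F.z.a + v.d * F.w.a,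
    v.a * F.x.b + v.b * F.y.b + v.c * F.z.b + v.d * F.w.b,
    v.a * F.x.c + v.b * F.y.c + v.c * F.z.c + v.d * F.w.c,
    v.a * F.x.d + v.b * F.y.d + v.c * F.z.d + v.d * F.w.d⟩

def mul (F G : Mx) : Mx := ⟨F.ap G.x, F.ap G.y, F.ap G.z, F.ap G.w⟩

end Mx

/-- the simple reflections -/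
def refl : Fin 4 → Mx
  | 0 => ⟨⟨-1, 0, 0, 0⟩, ⟨1, 1, 0, 0⟩, ⟨0, 0, 1, 0⟩, ⟨0, 0, 0, 1⟩⟩
  | 1 => ⟨⟨1, 1, 0, 0⟩, ⟨0, -1, 0, 0⟩, ⟨0, 1, 1, 0⟩, ⟨0, 1, 0, 1⟩⟩
  | 2 => ⟨⟨1, 0, 0, 0⟩, ⟨0, 1, 1, 0⟩, ⟨0, 0, -1, 0⟩, ⟨0, 0, 0, 1⟩⟩
  | 3 => ⟨⟨1, 0, 0, 0⟩, ⟨0, 1, 0, 1⟩, ⟨0, 0, 1, 0⟩, ⟨0, 0, 0, -1⟩⟩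

/-- the triality -/
def T : Mx := ⟨⟨0, 0, 1, 0⟩, ⟨0, 1, 0, 0⟩, ⟨0, 0, 0, 1⟩, ⟨1, 0, 0, 0⟩⟩

/-- conjugation by simple reflections -/
def conjw : List (Fin 4) → Mx → Mx
  | [], M => M
  | i :: u, M => conjw u ((refl i).mul (M.mul (refl i)))

/-- representatives of the classes -/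
def reps : Fin 7 → Mx
  | 0 => ⟨⟨0, 0, 1, 0⟩, ⟨0, 1, 0, 0⟩, ⟨0, 0, 0, 1⟩, ⟨1, 0, 0, 0⟩⟩
  | 1 => ⟨⟨0, 0, 1, 0⟩, ⟨1, 1, 0, 0⟩, ⟨0, 0, 0, 1⟩, ⟨-1, 0, 0, 0⟩⟩
  | 2 => ⟨⟨0, 1, 1, 0⟩, ⟨0, -1, 0, 0⟩, ⟨0, 1, 0, 1⟩, ⟨1, 1, 0, 0⟩⟩
  | 3 => ⟨⟨0, 1, 1, 0⟩, ⟨1, 0, 0, 0⟩, ⟨0, 1, 0, 1⟩, ⟨-1, -1, 0, 0⟩⟩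
  | 4 => ⟨⟨1, 1, 0, 0⟩, ⟨-1, 0, 0, 0⟩, ⟨1, 1, 1, 1⟩, ⟨0, -1, -1, 0⟩⟩
  | 5 => ⟨⟨-1, 0, 0, 0⟩, ⟨0, -1, 0, 0⟩, ⟨1, 2, 1, 1⟩, ⟨0, 0, -1, 0⟩⟩
  | 6 => ⟨⟨0, 1, 1, 1⟩, ⟨0, -1, -1, 0⟩, ⟨0, 1, 0, 0⟩, ⟨-1, -1, 0, -1⟩⟩

/-- the 192 matrices -/
def Tab : List (Mx × List (Fin 4) × Fin 7) := [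
  (⟨⟨0, 0, 1, 0⟩, ⟨0, 1, 0, 0⟩, ⟨0, 0, 0, 1⟩, ⟨1, 0, 0, 0⟩⟩, [], 0),
  (⟨⟨0, 0, 1, 0⟩, ⟨1, 1, 0, 0⟩, ⟨0, 0, 0, 1⟩, ⟨-1, 0, 0, 0⟩⟩, [], 1),
  (⟨⟨0, 1, 1, 0⟩, ⟨0, -1, 0, 0⟩, ⟨0, 1, 0, 1⟩, ⟨1, 1, 0, 0⟩⟩, [], 2),
  (⟨⟨0, 0, -1, 0⟩, ⟨0, 1, 1, 0⟩, ⟨0, 0, 0, 1⟩, ⟨1, 0, 0, 0⟩⟩, [0], 1),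
  (⟨⟨0, 0, 1, 0⟩, ⟨0, 1, 0, 1⟩, ⟨0, 0, 0, -1⟩, ⟨1, 0, 0, 0⟩⟩, [3], 1),
  (⟨⟨0, 1, 1, 0⟩, ⟨1, 0, 0, 0⟩, ⟨0, 1, 0, 1⟩, ⟨-1, -1, 0, 0⟩⟩, [], 3),
  (⟨⟨0, 0, -1, 0⟩, ⟨1, 1, 1, 0⟩, ⟨0, 0, 0, 1⟩, ⟨-1, 0, 0, 0⟩⟩, [0], 0),
  (⟨⟨0, 0, 1, 0⟩, ⟨1, 1, 0, 1⟩, ⟨0, 0, 0, -1⟩, ⟨-1, 0, 0, 0⟩⟩, [3], 0),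
  (⟨⟨1, 1, 1, 0⟩, ⟨-1, -1, 0, 0⟩, ⟨1, 1, 0, 1⟩, ⟨0, 1, 0, 0⟩⟩, [1], 3),
  (⟨⟨0, 1, 0, 0⟩, ⟨0, -1, -1, 0⟩, ⟨0, 1, 1, 1⟩, ⟨1, 1, 1, 0⟩⟩, [0, 1, 0], 3),
  (⟨⟨0, 1, 1, 1⟩, ⟨0, -1, 0, -1⟩, ⟨0, 1, 0, 0⟩, ⟨1, 1, 0, 1⟩⟩, [3], 3),
  (⟨⟨0, -1, -1, 0⟩, ⟨0, 0, 1, 0⟩, ⟨0, 1, 0, 1⟩, ⟨1, 1, 0, 0⟩⟩, [0, 1], 3),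
  (⟨⟨0, 0, -1, 0⟩, ⟨0, 1, 1, 1⟩, ⟨0, 0, 0, -1⟩, ⟨1, 0, 0, 0⟩⟩, [2], 0),
  (⟨⟨0, 1, 1, 0⟩, ⟨0, 0, 0, 1⟩, ⟨0, -1, 0, -1⟩, ⟨1, 1, 0, 0⟩⟩, [1, 3], 3),
  (⟨⟨1, 1, 1, 0⟩, ⟨-1, 0, 0, 0⟩, ⟨1, 1, 0, 1⟩, ⟨0, -1, 0, 0⟩⟩, [1], 1),
  (⟨⟨0, 1, 0, 0⟩, ⟨1, 0, 0, 0⟩, ⟨0, 1, 1, 1⟩, ⟨-1, -1, -1, 0⟩⟩, [2, 1, 3, 1], 1),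
  (⟨⟨0, 1, 1, 1⟩, ⟨1, 0, 0, 0⟩, ⟨0, 1, 0, 0⟩, ⟨-1, -1, 0, -1⟩⟩, [3], 2),
  (⟨⟨0, -1, -1, 0⟩, ⟨1, 1, 1, 0⟩, ⟨0, 1, 0, 1⟩, ⟨-1, -1, 0, 0⟩⟩, [0, 1], 1),
  (⟨⟨0, 0, -1, 0⟩, ⟨1, 1, 1, 1⟩, ⟨0, 0, 0, -1⟩, ⟨-1, 0, 0, 0⟩⟩, [2], 1),
  (⟨⟨0, 1, 1, 0⟩, ⟨1, 1, 0, 1⟩, ⟨0, -1, 0, -1⟩, ⟨-1, -1, 0, 0⟩⟩, [1, 3, 1], 1),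
  (⟨⟨1, 1, 0, 0⟩, ⟨-1, -1, -1, 0⟩, ⟨1, 1, 1, 1⟩, ⟨0, 1, 1, 0⟩⟩, [0, 1, 0], 1),
  (⟨⟨1, 1, 1, 1⟩, ⟨-1, -1, 0, -1⟩, ⟨1, 1, 0, 0⟩, ⟨0, 1, 0, 1⟩⟩, [3, 1], 1),
  (⟨⟨0, -1, 0, 0⟩, ⟨0, 0, -1, 0⟩, ⟨0, 1, 1, 1⟩, ⟨1, 1, 1, 0⟩⟩, [1, 0], 1),
  (⟨⟨0, 1, 0, 1⟩, ⟨0, -1, -1, -1⟩, ⟨0, 1, 1, 0⟩, ⟨1, 1, 1, 1⟩⟩, [2, 1, 3], 1),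
  (⟨⟨0, 1, 1, 1⟩, ⟨0, 0, 0, -1⟩, ⟨0, -1, 0, 0⟩, ⟨1, 1, 0, 1⟩⟩, [1, 3], 1),
  (⟨⟨-1, -1, -1, 0⟩, ⟨0, 0, 1, 0⟩, ⟨1, 1, 0, 1⟩, ⟨0, 1, 0, 0⟩⟩, [0], 2),
  (⟨⟨0, -1, -1, -1⟩, ⟨0, 0, 1, 0⟩, ⟨0, 1, 0, 0⟩, ⟨1, 1, 0, 1⟩⟩, [3, 0, 1], 1),
  (⟨⟨0, -1, -1, 0⟩, ⟨0, 1, 1, 1⟩, ⟨0, -1, 0, -1⟩, ⟨1, 1, 0, 0⟩⟩, [2, 1, 0], 1),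
  (⟨⟨1, 1, 1, 0⟩, ⟨0, 0, 0, 1⟩, ⟨-1, -1, 0, -1⟩, ⟨0, 1, 0, 0⟩⟩, [2, 0, 1, 0], 1),
  (⟨⟨0, 1, 0, 0⟩, ⟨0, 0, 0, 1⟩, ⟨0, -1, -1, -1⟩, ⟨1, 1, 1, 0⟩⟩, [2], 2),
  (⟨⟨1, 1, 0, 0⟩, ⟨-1, 0, 0, 0⟩, ⟨1, 1, 1, 1⟩, ⟨0, -1, -1, 0⟩⟩, [], 4),
  (⟨⟨1, 1, 1, 1⟩, ⟨-1, 0, 0, 0⟩, ⟨1, 1, 0, 0⟩, ⟨0, -1, 0, -1⟩⟩, [3, 1], 3),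
  (⟨⟨0, -1, 0, 0⟩, ⟨1, 1, 0, 0⟩, ⟨0, 1, 1, 1⟩, ⟨-1, -1, -1, 0⟩⟩, [0], 4),
  (⟨⟨0, 1, 0, 1⟩, ⟨1, 0, 0, 0⟩, ⟨0, 1, 1, 0⟩, ⟨-1, -1, -1, -1⟩⟩, [3, 0, 1, 0], 3),
  (⟨⟨0, 1, 1, 1⟩, ⟨1, 1, 0, 0⟩, ⟨0, -1, 0, 0⟩, ⟨-1, -1, 0, -1⟩⟩, [1, 3, 1], 3),
  (⟨⟨-1, -1, -1, 0⟩, ⟨0, 1, 1, 0⟩, ⟨1, 1, 0, 1⟩, ⟨0, -1, 0, 0⟩⟩, [0], 3),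
  (⟨⟨0, -1, -1, -1⟩, ⟨1, 1, 1, 1⟩, ⟨0, 1, 0, 0⟩, ⟨-1, -1, 0, -1⟩⟩, [3, 0, 1], 3),
  (⟨⟨0, -1, -1, 0⟩, ⟨1, 2, 1, 1⟩, ⟨0, -1, 0, -1⟩, ⟨-1, -1, 0, 0⟩⟩, [2, 0], 4),
  (⟨⟨1, 1, 1, 0⟩, ⟨0, 1, 0, 1⟩, ⟨-1, -1, 0, -1⟩, ⟨0, -1, 0, 0⟩⟩, [2], 4),
  (⟨⟨0, 1, 0, 0⟩, ⟨1, 1, 1, 1⟩, ⟨0, -1, -1, -1⟩, ⟨-1, -1, -1, 0⟩⟩, [2], 3),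
  (⟨⟨1, 0, 0, 0⟩, ⟨-1, -1, -1, 0⟩, ⟨1, 2, 1, 1⟩, ⟨0, 0, 1, 0⟩⟩, [1, 0], 0),
  (⟨⟨1, 1, 0, 1⟩, ⟨-1, -1, -1, -1⟩, ⟨1, 1, 1, 0⟩, ⟨0, 1, 1, 1⟩⟩, [3], 4),
  (⟨⟨1, 2, 1, 1⟩, ⟨-1, -1, 0, -1⟩, ⟨1, 0, 0, 0⟩, ⟨0, 0, 0, 1⟩⟩, [1, 3], 0),
  (⟨⟨-1, -1, 0, 0⟩, ⟨0, 0, -1, 0⟩, ⟨1, 1, 1, 1⟩, ⟨0, 1, 1, 0⟩⟩, [1, 0], 3),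
  (⟨⟨0, -1, 0, -1⟩, ⟨0, 0, -1, 0⟩, ⟨0, 1, 1, 0⟩, ⟨1, 1, 1, 1⟩⟩, [3, 0], 4),
  (⟨⟨0, 0, 0, 1⟩, ⟨0, -1, -1, -1⟩, ⟨0, 0, 1, 0⟩, ⟨1, 2, 1, 1⟩⟩, [1, 2], 0),
  (⟨⟨1, 1, 1, 1⟩, ⟨0, 0, 0, -1⟩, ⟨-1, -1, 0, 0⟩, ⟨0, 1, 0, 1⟩⟩, [1, 2], 4),
  (⟨⟨0, 1, 0, 1⟩, ⟨0, 0, 0, -1⟩, ⟨0, -1, -1, 0⟩, ⟨1, 1, 1, 1⟩⟩, [3, 2], 3),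
  (⟨⟨-1, -1, -1, -1⟩, ⟨0, 0, 1, 0⟩, ⟨1, 1, 0, 0⟩, ⟨0, 1, 0, 1⟩⟩, [3, 0], 3),
  (⟨⟨0, -1, -1, -1⟩, ⟨0, 1, 1, 0⟩, ⟨0, -1, 0, 0⟩, ⟨1, 1, 0, 1⟩⟩, [3, 2, 0], 4),
  (⟨⟨-1, -1, -1, 0⟩, ⟨1, 1, 1, 1⟩, ⟨-1, -1, 0, -1⟩, ⟨0, 1, 0, 0⟩⟩, [2, 1, 0], 3),
  (⟨⟨0, -1, 0, 0⟩, ⟨0, 1, 0, 1⟩, ⟨0, -1, -1, -1⟩, ⟨1, 1, 1, 0⟩⟩, [2, 0, 1], 3),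
  (⟨⟨1, 1, 0, 0⟩, ⟨0, 0, 0, 1⟩, ⟨-1, -1, -1, -1⟩, ⟨0, 1, 1, 0⟩⟩, [2, 1], 3),
  (⟨⟨1, 0, 0, 0⟩, ⟨-1, -1, 0, 0⟩, ⟨1, 2, 1, 1⟩, ⟨0, 0, -1, 0⟩⟩, [2, 1, 3, 2, 1], 1),
  (⟨⟨1, 1, 0, 1⟩, ⟨-1, 0, 0, 0⟩, ⟨1, 1, 1, 0⟩, ⟨0, -1, -1, -1⟩⟩, [3, 0, 1, 0], 1),
  (⟨⟨1, 2, 1, 1⟩, ⟨-1, -1, 0, 0⟩, ⟨1, 0, 0, 0⟩, ⟨0, 0, 0, -1⟩⟩, [1, 3], 2),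
  (⟨⟨-1, -1, 0, 0⟩, ⟨0, 1, 0, 0⟩, ⟨1, 1, 1, 1⟩, ⟨0, -1, -1, 0⟩⟩, [2, 0, 1, 3, 1], 1),
  (⟨⟨0, -1, 0, -1⟩, ⟨1, 1, 0, 1⟩, ⟨0, 1, 1, 0⟩, ⟨-1, -1, -1, -1⟩⟩, [3, 1, 0], 1),
  (⟨⟨0, 0, 0, 1⟩, ⟨1, 1, 0, 0⟩, ⟨0, 0, 1, 0⟩, ⟨-1, -2, -1, -1⟩⟩, [1, 3, 0, 1, 0], 1),
  (⟨⟨1, 1, 1, 1⟩, ⟨0, 1, 0, 0⟩, ⟨-1, -1, 0, 0⟩, ⟨0, -1, 0, -1⟩⟩, [3, 2, 0, 1, 0], 1),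
  (⟨⟨0, 1, 0, 1⟩, ⟨1, 1, 1, 0⟩, ⟨0, -1, -1, 0⟩, ⟨-1, -1, -1, -1⟩⟩, [3, 2], 2),
  (⟨⟨-1, -1, -1, -1⟩, ⟨0, 1, 1, 1⟩, ⟨1, 1, 0, 0⟩, ⟨0, -1, 0, -1⟩⟩, [3, 0], 2),
  (⟨⟨0, -1, -1, -1⟩, ⟨1, 2, 1, 1⟩, ⟨0, -1, 0, 0⟩, ⟨-1, -1, 0, -1⟩⟩, [3, 2, 1, 0], 1),
  (⟨⟨-1, -1, -1, 0⟩, ⟨1, 2, 1, 1⟩, ⟨-1, -1, 0, -1⟩, ⟨0, -1, 0, 0⟩⟩, [0, 1, 3, 1], 1),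
  (⟨⟨0, -1, 0, 0⟩, ⟨1, 2, 1, 1⟩, ⟨0, -1, -1, -1⟩, ⟨-1, -1, -1, 0⟩⟩, [2, 0, 1], 1),
  (⟨⟨1, 1, 0, 0⟩, ⟨0, 1, 1, 1⟩, ⟨-1, -1, -1, -1⟩, ⟨0, -1, -1, 0⟩⟩, [2, 1], 1),
  (⟨⟨-1, 0, 0, 0⟩, ⟨0, -1, -1, 0⟩, ⟨1, 2, 1, 1⟩, ⟨0, 0, 1, 0⟩⟩, [1, 0], 2),
  (⟨⟨1, 0, 0, 0⟩, ⟨-1, -1, -1, -1⟩, ⟨1, 2, 1, 1⟩, ⟨0, 0, 1, 0⟩⟩, [1, 3, 2, 1, 0], 1),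
  (⟨⟨1, 1, 0, 1⟩, ⟨-1, -2, -1, -1⟩, ⟨1, 1, 1, 0⟩, ⟨0, 1, 1, 1⟩⟩, [1, 2], 1),
  (⟨⟨1, 2, 1, 1⟩, ⟨0, -1, 0, -1⟩, ⟨-1, 0, 0, 0⟩, ⟨0, 0, 0, 1⟩⟩, [1, 2, 0, 1, 0], 1),
  (⟨⟨1, 2, 1, 1⟩, ⟨-1, -1, -1, -1⟩, ⟨1, 0, 0, 0⟩, ⟨0, 0, 0, 1⟩⟩, [1, 2, 0, 1], 1),
  (⟨⟨-1, -1, 0, -1⟩, ⟨0, 0, -1, 0⟩, ⟨1, 1, 1, 0⟩, ⟨0, 1, 1, 1⟩⟩, [2, 0, 1, 3], 1),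
  (⟨⟨0, 0, 0, -1⟩, ⟨0, -1, -1, 0⟩, ⟨0, 0, 1, 0⟩, ⟨1, 2, 1, 1⟩⟩, [1, 3, 0, 1], 1),
  (⟨⟨0, 0, 0, 1⟩, ⟨-1, -1, -1, -1⟩, ⟨0, 0, 1, 0⟩, ⟨1, 2, 1, 1⟩⟩, [0, 1, 3, 0, 1], 1),
  (⟨⟨0, 0, 0, 1⟩, ⟨0, -1, 0, -1⟩, ⟨0, 0, -1, 0⟩, ⟨1, 2, 1, 1⟩⟩, [1, 2], 2),
  (⟨⟨1, 1, 0, 1⟩, ⟨0, 0, 0, -1⟩, ⟨-1, -1, -1, 0⟩, ⟨0, 1, 1, 1⟩⟩, [3, 2, 1], 1),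
  (⟨⟨-1, -2, -1, -1⟩, ⟨0, 1, 1, 0⟩, ⟨1, 0, 0, 0⟩, ⟨0, 0, 0, 1⟩⟩, [1, 2, 0, 1, 3], 1),
  (⟨⟨-1, -1, -1, -1⟩, ⟨1, 1, 1, 0⟩, ⟨-1, -1, 0, 0⟩, ⟨0, 1, 0, 1⟩⟩, [0, 1, 3], 1),
  (⟨⟨0, -1, 0, -1⟩, ⟨0, 1, 0, 0⟩, ⟨0, -1, -1, 0⟩, ⟨1, 1, 1, 1⟩⟩, [3, 2, 0, 1], 1),
  (⟨⟨-1, -1, 0, 0⟩, ⟨1, 1, 0, 1⟩, ⟨-1, -1, -1, -1⟩, ⟨0, 1, 1, 0⟩⟩, [2, 0], 2),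
  (⟨⟨1, 0, 0, 0⟩, ⟨0, 1, 0, 1⟩, ⟨-1, -2, -1, -1⟩, ⟨0, 0, 1, 0⟩⟩, [1, 3, 2, 1], 1),
  (⟨⟨-1, 0, 0, 0⟩, ⟨0, -1, 0, 0⟩, ⟨1, 2, 1, 1⟩, ⟨0, 0, -1, 0⟩⟩, [], 5),
  (⟨⟨1, 0, 0, 0⟩, ⟨-1, -1, 0, -1⟩, ⟨1, 2, 1, 1⟩, ⟨0, 0, -1, 0⟩⟩, [3, 1, 0], 0),
  (⟨⟨1, 1, 0, 1⟩, ⟨-1, -1, 0, 0⟩, ⟨1, 1, 1, 0⟩, ⟨0, -1, -1, -1⟩⟩, [1, 3, 0, 1, 0], 3),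
  (⟨⟨1, 2, 1, 1⟩, ⟨0, -1, 0, 0⟩, ⟨-1, 0, 0, 0⟩, ⟨0, 0, 0, -1⟩⟩, [0, 1, 3], 5),
  (⟨⟨1, 2, 1, 1⟩, ⟨-1, -1, -1, 0⟩, ⟨1, 0, 0, 0⟩, ⟨0, 0, 0, -1⟩⟩, [2, 0, 1, 3], 5),
  (⟨⟨-1, -1, 0, -1⟩, ⟨0, 1, 0, 1⟩, ⟨1, 1, 1, 0⟩, ⟨0, -1, -1, -1⟩⟩, [3, 1, 0], 3),
  (⟨⟨0, 0, 0, -1⟩, ⟨1, 1, 0, 1⟩, ⟨0, 0, 1, 0⟩, ⟨-1, -2, -1, -1⟩⟩, [3, 1, 2], 0),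
  (⟨⟨0, 0, 0, 1⟩, ⟨0, 1, 0, 0⟩, ⟨0, 0, 1, 0⟩, ⟨-1, -2, -1, -1⟩⟩, [3, 0, 1, 2], 0),
  (⟨⟨0, 0, 0, 1⟩, ⟨1, 1, 1, 0⟩, ⟨0, 0, -1, 0⟩, ⟨-1, -2, -1, -1⟩⟩, [3, 0, 1, 2], 5),
  (⟨⟨1, 1, 0, 1⟩, ⟨0, 1, 1, 0⟩, ⟨-1, -1, -1, 0⟩, ⟨0, -1, -1, -1⟩⟩, [3, 2, 1], 3),
  (⟨⟨-1, -2, -1, -1⟩, ⟨0, 1, 1, 1⟩, ⟨1, 0, 0, 0⟩, ⟨0, 0, 0, -1⟩⟩, [1, 3], 5),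
  (⟨⟨-1, -1, -1, -1⟩, ⟨1, 2, 1, 1⟩, ⟨-1, -1, 0, 0⟩, ⟨0, -1, 0, -1⟩⟩, [3, 2, 1, 0], 3),
  (⟨⟨0, -1, 0, -1⟩, ⟨1, 2, 1, 1⟩, ⟨0, -1, -1, 0⟩, ⟨-1, -1, -1, -1⟩⟩, [3, 2, 0, 1], 3),
  (⟨⟨-1, -1, 0, 0⟩, ⟨1, 2, 1, 1⟩, ⟨-1, -1, -1, -1⟩, ⟨0, -1, -1, 0⟩⟩, [2, 0], 3),
  (⟨⟨1, 0, 0, 0⟩, ⟨0, 1, 1, 1⟩, ⟨-1, -2, -1, -1⟩, ⟨0, 0, -1, 0⟩⟩, [2, 1, 0], 0),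
  (⟨⟨-1, 0, 0, 0⟩, ⟨0, -1, -1, -1⟩, ⟨1, 2, 1, 1⟩, ⟨0, 0, 1, 0⟩⟩, [3], 5),
  (⟨⟨1, 1, 0, 0⟩, ⟨-1, -2, -1, -1⟩, ⟨1, 1, 1, 1⟩, ⟨0, 1, 1, 0⟩⟩, [1, 3, 0, 1], 3),
  (⟨⟨0, 1, 0, 1⟩, ⟨-1, -2, -1, -1⟩, ⟨0, 1, 1, 0⟩, ⟨1, 1, 1, 1⟩⟩, [1, 2, 1, 0], 3),
  (⟨⟨1, 1, 1, 1⟩, ⟨-1, -2, -1, -1⟩, ⟨1, 1, 0, 0⟩, ⟨0, 1, 0, 1⟩⟩, [1, 2], 3),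
  (⟨⟨1, 2, 1, 1⟩, ⟨0, -1, -1, -1⟩, ⟨-1, 0, 0, 0⟩, ⟨0, 0, 0, 1⟩⟩, [2, 1, 3], 0),
  (⟨⟨-1, -1, 0, -1⟩, ⟨0, -1, -1, 0⟩, ⟨1, 1, 1, 0⟩, ⟨0, 1, 1, 1⟩⟩, [1, 3, 0], 3),
  (⟨⟨0, 0, 0, -1⟩, ⟨-1, -1, -1, 0⟩, ⟨0, 0, 1, 0⟩, ⟨1, 2, 1, 1⟩⟩, [0, 1, 2], 0),
  (⟨⟨0, 0, 0, -1⟩, ⟨0, -1, 0, 0⟩, ⟨0, 0, -1, 0⟩, ⟨1, 2, 1, 1⟩⟩, [0, 1, 2], 5),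
  (⟨⟨0, 0, 0, 1⟩, ⟨-1, -1, 0, -1⟩, ⟨0, 0, -1, 0⟩, ⟨1, 2, 1, 1⟩⟩, [1, 2], 5),
  (⟨⟨1, 1, 0, 1⟩, ⟨0, -1, 0, -1⟩, ⟨-1, -1, -1, 0⟩, ⟨0, 1, 1, 1⟩⟩, [1, 2, 1], 3),
  (⟨⟨-1, -2, -1, -1⟩, ⟨1, 1, 1, 0⟩, ⟨-1, 0, 0, 0⟩, ⟨0, 0, 0, 1⟩⟩, [0, 1, 3], 0),
  (⟨⟨-1, -2, -1, -1⟩, ⟨0, 1, 0, 0⟩, ⟨1, 0, 0, 0⟩, ⟨0, 0, 0, 1⟩⟩, [2, 0, 1, 3], 0),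
  (⟨⟨-1, -1, 0, -1⟩, ⟨1, 1, 0, 0⟩, ⟨-1, -1, -1, 0⟩, ⟨0, 1, 1, 1⟩⟩, [3, 2, 0], 3),
  (⟨⟨-1, 0, 0, 0⟩, ⟨1, 1, 0, 1⟩, ⟨-1, -2, -1, -1⟩, ⟨0, 0, 1, 0⟩⟩, [2], 5),
  (⟨⟨1, 0, 0, 0⟩, ⟨0, 1, 0, 0⟩, ⟨-1, -2, -1, -1⟩, ⟨0, 0, 1, 0⟩⟩, [3, 2, 1, 0], 0),
  (⟨⟨-1, 0, 0, 0⟩, ⟨0, -1, 0, -1⟩, ⟨1, 2, 1, 1⟩, ⟨0, 0, -1, 0⟩⟩, [3, 1, 0], 2),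
  (⟨⟨1, 1, 0, 0⟩, ⟨-1, -1, 0, -1⟩, ⟨1, 1, 1, 1⟩, ⟨0, -1, -1, 0⟩⟩, [3, 1, 2], 1),
  (⟨⟨0, 1, 0, 1⟩, ⟨0, -1, 0, 0⟩, ⟨0, 1, 1, 0⟩, ⟨-1, -1, -1, -1⟩⟩, [0, 1, 3, 1, 0], 2),
  (⟨⟨1, 1, 1, 1⟩, ⟨-1, -1, -1, 0⟩, ⟨1, 1, 0, 0⟩, ⟨0, -1, 0, -1⟩⟩, [1, 3, 2], 2),
  (⟨⟨1, 2, 1, 1⟩, ⟨0, -1, -1, 0⟩, ⟨-1, 0, 0, 0⟩, ⟨0, 0, 0, -1⟩⟩, [2, 1, 3], 2),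
  (⟨⟨-1, -1, 0, -1⟩, ⟨0, 0, 0, 1⟩, ⟨1, 1, 1, 0⟩, ⟨0, -1, -1, -1⟩⟩, [1, 3, 1, 0], 2),
  (⟨⟨0, 0, 0, -1⟩, ⟨0, 1, 0, 1⟩, ⟨0, 0, 1, 0⟩, ⟨-1, -2, -1, -1⟩⟩, [1, 3, 0, 1, 2], 1),
  (⟨⟨0, 0, 0, -1⟩, ⟨1, 1, 1, 1⟩, ⟨0, 0, -1, 0⟩, ⟨-1, -2, -1, -1⟩⟩, [3, 1, 2], 2),
  (⟨⟨0, 0, 0, 1⟩, ⟨0, 1, 1, 0⟩, ⟨0, 0, -1, 0⟩, ⟨-1, -2, -1, -1⟩⟩, [3, 0, 1, 2], 2),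
  (⟨⟨1, 1, 0, 1⟩, ⟨0, 0, 1, 0⟩, ⟨-1, -1, -1, 0⟩, ⟨0, -1, -1, -1⟩⟩, [2, 1, 3, 2], 2),
  (⟨⟨-1, -2, -1, -1⟩, ⟨1, 1, 1, 1⟩, ⟨-1, 0, 0, 0⟩, ⟨0, 0, 0, -1⟩⟩, [0, 1, 3], 2),
  (⟨⟨-1, -2, -1, -1⟩, ⟨0, 1, 0, 1⟩, ⟨1, 0, 0, 0⟩, ⟨0, 0, 0, -1⟩⟩, [2, 0, 1, 3], 2),
  (⟨⟨-1, -1, 0, -1⟩, ⟨1, 2, 1, 1⟩, ⟨-1, -1, -1, 0⟩, ⟨0, -1, -1, -1⟩⟩, [3, 2, 0], 2),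
  (⟨⟨-1, 0, 0, 0⟩, ⟨1, 1, 1, 1⟩, ⟨-1, -2, -1, -1⟩, ⟨0, 0, -1, 0⟩⟩, [2, 1, 0], 2),
  (⟨⟨1, 0, 0, 0⟩, ⟨0, 1, 1, 0⟩, ⟨-1, -2, -1, -1⟩, ⟨0, 0, -1, 0⟩⟩, [1, 3, 1, 2, 1], 1),
  (⟨⟨-1, -1, 0, 0⟩, ⟨0, -1, -1, -1⟩, ⟨1, 1, 1, 1⟩, ⟨0, 1, 1, 0⟩⟩, [1, 3, 0], 2),
  (⟨⟨0, 1, 0, 0⟩, ⟨-1, -2, -1, -1⟩, ⟨0, 1, 1, 1⟩, ⟨1, 1, 1, 0⟩⟩, [0, 1, 3, 0], 2),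
  (⟨⟨1, 1, 1, 0⟩, ⟨-1, -2, -1, -1⟩, ⟨1, 1, 0, 1⟩, ⟨0, 1, 0, 0⟩⟩, [1, 3, 1, 2], 2),
  (⟨⟨0, 1, 1, 1⟩, ⟨-1, -2, -1, -1⟩, ⟨0, 1, 0, 0⟩, ⟨1, 1, 0, 1⟩⟩, [1, 2, 1, 0], 2),
  (⟨⟨1, 1, 1, 1⟩, ⟨0, -1, -1, -1⟩, ⟨-1, -1, 0, 0⟩, ⟨0, 1, 0, 1⟩⟩, [1, 2, 1], 1),
  (⟨⟨0, -1, 0, -1⟩, ⟨-1, -1, -1, 0⟩, ⟨0, 1, 1, 0⟩, ⟨1, 1, 1, 1⟩⟩, [0, 1, 2], 1),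
  (⟨⟨-1, -1, -1, -1⟩, ⟨0, -1, 0, 0⟩, ⟨1, 1, 0, 0⟩, ⟨0, 1, 0, 1⟩⟩, [0, 1, 2, 1, 0], 2),
  (⟨⟨0, 0, 0, -1⟩, ⟨-1, -1, 0, 0⟩, ⟨0, 0, -1, 0⟩, ⟨1, 2, 1, 1⟩⟩, [0, 1, 2], 2),
  (⟨⟨0, 1, 0, 1⟩, ⟨-1, -1, 0, -1⟩, ⟨0, -1, -1, 0⟩, ⟨1, 1, 1, 1⟩⟩, [1, 2, 0], 2),
  (⟨⟨1, 1, 0, 0⟩, ⟨0, -1, 0, 0⟩, ⟨-1, -1, -1, -1⟩, ⟨0, 1, 1, 0⟩⟩, [2, 1, 3, 1, 2], 2),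
  (⟨⟨-1, -2, -1, -1⟩, ⟨1, 1, 0, 0⟩, ⟨-1, 0, 0, 0⟩, ⟨0, 0, 0, 1⟩⟩, [0, 1, 2, 0, 1], 1),
  (⟨⟨-1, -1, 0, -1⟩, ⟨1, 0, 0, 0⟩, ⟨-1, -1, -1, 0⟩, ⟨0, 1, 1, 1⟩⟩, [0, 1, 2, 0], 2),
  (⟨⟨-1, 0, 0, 0⟩, ⟨1, 1, 0, 0⟩, ⟨-1, -2, -1, -1⟩, ⟨0, 0, 1, 0⟩⟩, [3, 2, 1, 0], 2),
  (⟨⟨-1, -1, 0, 0⟩, ⟨0, 0, 0, -1⟩, ⟨1, 1, 1, 1⟩, ⟨0, -1, -1, 0⟩⟩, [1, 3, 1, 0], 3),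
  (⟨⟨0, 1, 0, 0⟩, ⟨0, -1, 0, -1⟩, ⟨0, 1, 1, 1⟩, ⟨-1, -1, -1, 0⟩⟩, [3, 1, 2, 1, 0], 3),
  (⟨⟨1, 1, 1, 0⟩, ⟨-1, -1, -1, -1⟩, ⟨1, 1, 0, 1⟩, ⟨0, -1, 0, 0⟩⟩, [3, 1, 2], 3),
  (⟨⟨0, 1, 1, 1⟩, ⟨0, -1, -1, 0⟩, ⟨0, 1, 0, 0⟩, ⟨-1, -1, 0, -1⟩⟩, [], 6),
  (⟨⟨1, 1, 1, 1⟩, ⟨0, 0, -1, 0⟩, ⟨-1, -1, 0, 0⟩, ⟨0, -1, 0, -1⟩⟩, [1, 3, 2, 1], 3),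
  (⟨⟨0, -1, 0, -1⟩, ⟨0, 0, 0, 1⟩, ⟨0, 1, 1, 0⟩, ⟨-1, -1, -1, -1⟩⟩, [0, 1, 3, 0, 1, 0], 3),
  (⟨⟨-1, -1, -1, -1⟩, ⟨0, 0, 0, 1⟩, ⟨1, 1, 0, 0⟩, ⟨0, -1, 0, -1⟩⟩, [0], 6),
  (⟨⟨0, 0, 0, -1⟩, ⟨0, 1, 1, 1⟩, ⟨0, 0, -1, 0⟩, ⟨-1, -2, -1, -1⟩⟩, [3, 1, 2], 5),
  (⟨⟨0, 1, 0, 1⟩, ⟨0, 0, 1, 0⟩, ⟨0, -1, -1, 0⟩, ⟨-1, -1, -1, -1⟩⟩, [1], 6),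
  (⟨⟨1, 1, 0, 0⟩, ⟨0, 0, 1, 0⟩, ⟨-1, -1, -1, -1⟩, ⟨0, -1, -1, 0⟩⟩, [3, 1, 2, 1], 3),
  (⟨⟨-1, -2, -1, -1⟩, ⟨1, 1, 0, 1⟩, ⟨-1, 0, 0, 0⟩, ⟨0, 0, 0, -1⟩⟩, [2, 1, 3], 5),
  (⟨⟨-1, -1, 0, -1⟩, ⟨1, 1, 1, 1⟩, ⟨-1, -1, -1, 0⟩, ⟨0, -1, -1, -1⟩⟩, [2, 0], 6),
  (⟨⟨-1, 0, 0, 0⟩, ⟨1, 1, 1, 0⟩, ⟨-1, -2, -1, -1⟩, ⟨0, 0, -1, 0⟩⟩, [3, 2], 5),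
  (⟨⟨0, -1, 0, 0⟩, ⟨-1, -1, -1, -1⟩, ⟨0, 1, 1, 1⟩, ⟨1, 1, 1, 0⟩⟩, [1, 3, 2, 1, 0], 3),
  (⟨⟨-1, -1, -1, 0⟩, ⟨0, -1, 0, -1⟩, ⟨1, 1, 0, 1⟩, ⟨0, 1, 0, 0⟩⟩, [1, 0], 6),
  (⟨⟨0, 1, 1, 0⟩, ⟨-1, -2, -1, -1⟩, ⟨0, 1, 0, 1⟩, ⟨1, 1, 0, 0⟩⟩, [3], 6),
  (⟨⟨0, 1, 1, 1⟩, ⟨-1, -1, -1, -1⟩, ⟨0, -1, 0, 0⟩, ⟨1, 1, 0, 1⟩⟩, [1, 2, 0], 3),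
  (⟨⟨1, 1, 1, 0⟩, ⟨0, -1, -1, 0⟩, ⟨-1, -1, 0, -1⟩, ⟨0, 1, 0, 0⟩⟩, [2, 1, 3, 0, 1], 3),
  (⟨⟨0, -1, -1, -1⟩, ⟨-1, -1, 0, 0⟩, ⟨0, 1, 0, 0⟩, ⟨1, 1, 0, 1⟩⟩, [0, 1, 2], 3),
  (⟨⟨0, -1, 0, -1⟩, ⟨-1, 0, 0, 0⟩, ⟨0, -1, -1, 0⟩, ⟨1, 1, 1, 1⟩⟩, [1, 3, 2, 0], 3),
  (⟨⟨0, 1, 0, 0⟩, ⟨-1, -1, 0, 0⟩, ⟨0, -1, -1, -1⟩, ⟨1, 1, 1, 0⟩⟩, [3, 1], 6),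
  (⟨⟨-1, -1, -1, -1⟩, ⟨1, 0, 0, 0⟩, ⟨-1, -1, 0, 0⟩, ⟨0, 1, 0, 1⟩⟩, [0, 1, 2, 0], 3),
  (⟨⟨-1, -1, 0, 0⟩, ⟨1, 0, 0, 0⟩, ⟨-1, -1, -1, -1⟩, ⟨0, 1, 1, 0⟩⟩, [2, 1, 0], 6),
  (⟨⟨0, -1, 0, 0⟩, ⟨0, 0, 0, -1⟩, ⟨0, 1, 1, 1⟩, ⟨-1, -1, -1, 0⟩⟩, [3, 0, 1, 2], 1),
  (⟨⟨-1, -1, -1, 0⟩, ⟨0, 0, 0, -1⟩, ⟨1, 1, 0, 1⟩, ⟨0, -1, 0, 0⟩⟩, [1, 2, 0, 1, 3], 2),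
  (⟨⟨0, 1, 1, 0⟩, ⟨0, -1, -1, -1⟩, ⟨0, 1, 0, 1⟩, ⟨-1, -1, 0, 0⟩⟩, [3, 1, 2, 1, 0], 2),
  (⟨⟨0, 1, 1, 1⟩, ⟨0, 0, -1, 0⟩, ⟨0, -1, 0, 0⟩, ⟨-1, -1, 0, -1⟩⟩, [1, 3, 0, 1, 2], 2),
  (⟨⟨1, 1, 1, 0⟩, ⟨0, 0, -1, 0⟩, ⟨-1, -1, 0, -1⟩, ⟨0, -1, 0, 0⟩⟩, [3, 1, 2, 1], 1),
  (⟨⟨0, -1, -1, -1⟩, ⟨0, 0, 0, 1⟩, ⟨0, 1, 0, 0⟩, ⟨-1, -1, 0, -1⟩⟩, [0, 1, 3, 2], 2),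
  (⟨⟨0, -1, 0, -1⟩, ⟨0, 1, 1, 1⟩, ⟨0, -1, -1, 0⟩, ⟨-1, -1, -1, -1⟩⟩, [2, 0, 1, 3, 2], 2),
  (⟨⟨0, 1, 0, 0⟩, ⟨0, 0, 1, 0⟩, ⟨0, -1, -1, -1⟩, ⟨-1, -1, -1, 0⟩⟩, [3, 1, 2, 0], 2),
  (⟨⟨-1, -1, -1, -1⟩, ⟨1, 1, 0, 1⟩, ⟨-1, -1, 0, 0⟩, ⟨0, -1, 0, -1⟩⟩, [2, 1, 3, 1, 0], 2),
  (⟨⟨-1, -1, 0, 0⟩, ⟨1, 1, 1, 0⟩, ⟨-1, -1, -1, -1⟩, ⟨0, -1, -1, 0⟩⟩, [3, 0, 1, 2, 0], 2),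
  (⟨⟨0, -1, -1, 0⟩, ⟨-1, -1, 0, -1⟩, ⟨0, 1, 0, 1⟩, ⟨1, 1, 0, 0⟩⟩, [0, 1, 3, 1, 2], 2),
  (⟨⟨0, 0, 1, 0⟩, ⟨-1, -1, -1, -1⟩, ⟨0, 0, 0, 1⟩, ⟨1, 0, 0, 0⟩⟩, [1, 3, 2, 0], 2),
  (⟨⟨0, 1, 1, 0⟩, ⟨-1, -1, -1, 0⟩, ⟨0, -1, 0, -1⟩, ⟨1, 1, 0, 0⟩⟩, [2, 0, 1, 3, 0], 2),
  (⟨⟨0, -1, -1, -1⟩, ⟨-1, 0, 0, 0⟩, ⟨0, -1, 0, 0⟩, ⟨1, 1, 0, 1⟩⟩, [0, 1, 2, 1], 1),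
  (⟨⟨0, -1, 0, 0⟩, ⟨-1, 0, 0, 0⟩, ⟨0, -1, -1, -1⟩, ⟨1, 1, 1, 0⟩⟩, [1, 3, 2, 1, 0], 2),
  (⟨⟨-1, -1, -1, 0⟩, ⟨1, 0, 0, 0⟩, ⟨-1, -1, 0, -1⟩, ⟨0, 1, 0, 0⟩⟩, [2, 1, 3, 0], 2),
  (⟨⟨0, -1, -1, 0⟩, ⟨0, 0, 0, -1⟩, ⟨0, 1, 0, 1⟩, ⟨-1, -1, 0, 0⟩⟩, [3, 0, 1, 2], 3),
  (⟨⟨0, 0, 1, 0⟩, ⟨0, -1, -1, -1⟩, ⟨0, 0, 0, 1⟩, ⟨-1, 0, 0, 0⟩⟩, [1, 3, 1, 2], 5),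
  (⟨⟨0, 1, 1, 0⟩, ⟨0, 0, -1, 0⟩, ⟨0, -1, 0, -1⟩, ⟨-1, -1, 0, 0⟩⟩, [3, 1, 2, 0], 3),
  (⟨⟨0, -1, -1, -1⟩, ⟨0, 1, 0, 1⟩, ⟨0, -1, 0, 0⟩, ⟨-1, -1, 0, -1⟩⟩, [0, 1, 3, 2, 1], 3),
  (⟨⟨0, -1, 0, 0⟩, ⟨0, 1, 1, 0⟩, ⟨0, -1, -1, -1⟩, ⟨-1, -1, -1, 0⟩⟩, [1, 3, 1, 2, 0], 3),
  (⟨⟨-1, -1, -1, 0⟩, ⟨1, 1, 0, 0⟩, ⟨-1, -1, 0, -1⟩, ⟨0, -1, 0, 0⟩⟩, [2, 1, 3, 1, 0], 3),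
  (⟨⟨0, 0, -1, 0⟩, ⟨-1, -1, 0, -1⟩, ⟨0, 0, 0, 1⟩, ⟨1, 0, 0, 0⟩⟩, [2, 1, 3, 2], 5),
  (⟨⟨0, 0, 1, 0⟩, ⟨-1, -1, -1, 0⟩, ⟨0, 0, 0, -1⟩, ⟨1, 0, 0, 0⟩⟩, [1, 3, 2], 5),
  (⟨⟨0, -1, -1, 0⟩, ⟨-1, 0, 0, 0⟩, ⟨0, -1, 0, -1⟩, ⟨1, 1, 0, 0⟩⟩, [2, 1, 3, 2, 1, 0], 3),
  (⟨⟨0, 0, -1, 0⟩, ⟨0, -1, 0, -1⟩, ⟨0, 0, 0, 1⟩, ⟨-1, 0, 0, 0⟩⟩, [0, 1, 3, 2, 0], 2),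
  (⟨⟨0, 0, 1, 0⟩, ⟨0, -1, -1, 0⟩, ⟨0, 0, 0, -1⟩, ⟨-1, 0, 0, 0⟩⟩, [1, 3, 1, 2, 0], 2),
  (⟨⟨0, -1, -1, 0⟩, ⟨0, 1, 0, 0⟩, ⟨0, -1, 0, -1⟩, ⟨-1, -1, 0, 0⟩⟩, [3, 0, 1, 2, 1], 1),
  (⟨⟨0, 0, -1, 0⟩, ⟨-1, -1, 0, 0⟩, ⟨0, 0, 0, -1⟩, ⟨1, 0, 0, 0⟩⟩, [2, 1, 3, 2, 0], 2),
  (⟨⟨0, 0, -1, 0⟩, ⟨0, -1, 0, 0⟩, ⟨0, 0, 0, -1⟩, ⟨-1, 0, 0, 0⟩⟩, [0, 1, 3, 2], 5)]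

theorem tab_T : T ∈ Tab.map (·.1) := by decide +kernel

theorem tab_cl : ∀ i : Fin 4, ∀ e ∈ Tab, (refl i).mul e.1 ∈ Tab.map (·.1) := by decide +kernel

theorem tab_conj : ∀ e ∈ Tab, conjw e.2.1 e.1 = reps e.2.2 := by decide +kernel

end Cfsg.Agent.H378.OmD4
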